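/-
Helper library of seat helper35: generation by centralisers under coprime action of an abelian
group (`K = ⟨C_K(B) : B ∈ 𝓑⟩`).  Everything lives in the namespace `Cfsg.Agent.Helper35`.
-/
import Cfsg.Agent.Helper35.CoprimeAbelian

set_option autoImplicit false

namespace Cfsg.Agent.Helper35

open Subgroup MulAction
open scoped Pointwise commutatorElement

universe u

section ring

theorem pow_eq_pow_mod_of_pow_eq_one {M : Type*} [Monoid M] {x : M} {p : ℕ} (hx : x ^ p = 1)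
    (n : ℕ) : x ^ n = x ^ (n % p) := by
  conv_lhs => rw [← Nat.div_add_mod n p, pow_add, pow_mul, hx, one_pow, one_mul]

variable {R : Type*} [Ring R]

theorem sum_range_pow_mul_eq {x : R} {p : ℕ} (hp : p.Prime) (hx : x ^ p = 1) {j : ℕ}
    (hj0 : 0 < j) (hjp : j < p) :
    ∑ i ∈ Finset.range p, x ^ (i * j) = ∑ i ∈ Finset.range p, x ^ i := by
  have hcop : Nat.Coprime p j :=
    (Nat.Prime.coprime_iff_not_dvd hp).mpr (Nat.not_dvd_of_pos_of_lt hj0 hjp)
  have hinj : ∀ i ∈ Finset.range p, ∀ i' ∈ Finset.range p, i * j % p = i' * j % p → i = i' := by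
    intro i hi i' hi' h
    rw [Finset.mem_range] at hi hi'
    have h1 : i * j ≡ i' * j [MOD p] := h
    have h2 : i ≡ i' [MOD p] := Nat.ModEq.cancel_right_of_coprime hcop h1
    rw [Nat.ModEq, Nat.mod_eq_of_lt hi, Nat.mod_eq_of_lt hi'] at h2
    exact h2
  have himg : (Finset.range p).image (fun i => i * j % p) = Finset.range p := by
    apply Finset.eq_of_subset_of_card_le
    · intro k hk
      obtain ⟨i, -, rfl⟩ := Finset.mem_image.mp hk
      exact Finset.mem_range.mpr (Nat.mod_lt _ hp.pos)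
    · rw [Finset.card_image_of_injOn hinj]
  calc ∑ i ∈ Finset.range p, x ^ (i * j) = ∑ i ∈ Finset.range p, x ^ (i * j % p) :=
        Finset.sum_congr rfl (fun i _ => pow_eq_pow_mod_of_pow_eq_one hx _)
    _ = ∑ k ∈ (Finset.range p).image (fun i => i * j % p), x ^ k :=
        (Finset.sum_image hinj).symm
    _ = ∑ i ∈ Finset.range p, x ^ i := by rw [himg]

/-- The counting identity for the `p + 1` lines of `⟨α⟩ × ⟨β⟩`. -/
theorem trace_identity {α β : R} {p : ℕ} (hp : p.Prime) (hαβ : Commute α β) (hα : α ^ p = 1) :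
    ∑ j ∈ Finset.range p, α ^ j + ∑ i ∈ Finset.range p, ∑ j ∈ Finset.range p, (α ^ i * β) ^ j =
      p + (∑ i ∈ Finset.range p, α ^ i) * ∑ j ∈ Finset.range p, β ^ j := by
  have h1 : ∀ i j : ℕ, (α ^ i * β) ^ j = α ^ (i * j) * β ^ j := by
    intro i j
    rw [(hαβ.pow_left i).mul_pow, ← pow_mul]
  simp_rw [h1]
  rw [Finset.sum_comm]
  obtain ⟨q, rfl⟩ : ∃ q, p = q + 1 := ⟨p - 1, by have := hp.pos; omega⟩
  rw [Finset.sum_range_succ' (fun j => ∑ i ∈ Finset.range (q + 1), α ^ (i * j) * β ^ j)]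
  have h2 : ∀ j ∈ Finset.range q, ∑ i ∈ Finset.range (q + 1), α ^ (i * (j + 1)) * β ^ (j + 1) =
      (∑ i ∈ Finset.range (q + 1), α ^ i) * β ^ (j + 1) := by
    intro j hj
    rw [← Finset.sum_mul, sum_range_pow_mul_eq hp hα (Nat.succ_pos j)
      (by have := Finset.mem_range.mp hj; omega)]
  rw [Finset.sum_congr rfl h2, ← Finset.mul_sum]
  have h3 : ∑ j ∈ Finset.range (q + 1), β ^ j = ∑ j ∈ Finset.range q, β ^ (j + 1) + 1 := by
    rw [Finset.sum_range_succ' (fun j => β ^ j), pow_zero]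
  simp only [mul_zero, pow_zero, mul_one, Finset.sum_const, Finset.card_range, nsmul_eq_mul]
  rw [h3, mul_add, mul_one]
  abel

theorem mul_sum_range_pow_eq {γ : R} {p : ℕ} (hγ : γ ^ p = 1) :
    γ * ∑ j ∈ Finset.range p, γ ^ j = ∑ j ∈ Finset.range p, γ ^ j := by
  rw [Finset.mul_sum]
  have h1 : ∑ j ∈ Finset.range p, γ * γ ^ j = ∑ j ∈ Finset.range p, γ ^ (j + 1) :=
    Finset.sum_congr rfl (fun j _ => (pow_succ' γ j).symm)
  rw [h1]
  have h2 := Finset.sum_range_succ (fun j => γ ^ j) p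
  have h3 := Finset.sum_range_succ' (fun j => γ ^ j) p
  rw [h2, hγ, pow_zero] at h3
  exact (add_right_cancel h3).symm

/-- If `α`, `β` are commuting automorphisms of exponent `p` of an abelian group `W` and `S` is a
subgroup containing the fixed points of `α` and of all `α ^ i * β`, then `p • W ≤ S`. -/
theorem nsmul_mem_of_fixed {W : Type*} [AddCommGroup W] {p : ℕ} (hp : p.Prime)
    (α β : Module.End ℤ W) (hαβ : Commute α β) (hα : α ^ p = 1) (hβ : β ^ p = 1)
    (S : AddSubgroup W) (h0 : ∀ u, α u = u → u ∈ S)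
    (h1 : ∀ i : ℕ, ∀ u, (α ^ i * β) u = u → u ∈ S) (v : W) : p • v ∈ S := by
  have hid := trace_identity hp hαβ hα
  have hv := congrArg (fun f : Module.End ℤ W => f v) hid
  simp only [LinearMap.add_apply, LinearMap.sum_apply, Module.End.mul_apply,
    Module.End.natCast_apply] at hv
  have e0 : ∀ w : W, (∑ j ∈ Finset.range p, α ^ j) w ∈ S := by
    intro w
    apply h0
    rw [← Module.End.mul_apply, mul_sum_range_pow_eq hα]
  have e1 : ∀ i : ℕ, (∑ j ∈ Finset.range p, (α ^ i * β) ^ j) v ∈ S := by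
    intro i
    apply h1 i
    have hγ : (α ^ i * β) ^ p = 1 := by
      rw [(hαβ.pow_left i).mul_pow, ← pow_mul, mul_comm, pow_mul, hα, one_pow, hβ, one_mul]
    rw [← Module.End.mul_apply, mul_sum_range_pow_eq hγ]
  have hpv : p • v = (∑ j ∈ Finset.range p, α ^ j) v +
      ∑ i ∈ Finset.range p, (∑ j ∈ Finset.range p, (α ^ i * β) ^ j) v -
      (∑ i ∈ Finset.range p, α ^ i) ((∑ j ∈ Finset.range p, β ^ j) v) := by
    simp only [LinearMap.sum_apply]
    rw [hv]; abel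
  rw [hpv]
  exact S.sub_mem (S.add_mem (e0 v) (S.sum_mem (fun i _ => e1 i))) (e0 _)

end ring

section sectionGen

variable {X : Type u} [Group X]

theorem mem_of_pow_mem_of_coprime {S : Subgroup X} {x : X} {m n : ℕ} (h : Nat.Coprime m n)
    (hm : x ^ m ∈ S) (hn : x ^ n ∈ S) : x ∈ S := by
  have h1 : (m : ℤ) * Nat.gcdA m n + n * Nat.gcdB m n = 1 := by
    have := Nat.gcd_eq_gcd_ab m n
    rw [h] at this
    exact_mod_cast this.symm
  have h2 : x = (x ^ m) ^ (Nat.gcdA m n) * (x ^ n) ^ (Nat.gcdB m n) := by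
    rw [← zpow_natCast, ← zpow_natCast, ← zpow_mul, ← zpow_mul, ← zpow_add, h1, zpow_one]
  rw [h2]
  exact S.mul_mem (S.zpow_mem hm _) (S.zpow_mem hn _)

theorem le_normalizer_of_forall_conj_mem {A S : Subgroup X}
    (h : ∀ a ∈ A, ∀ x ∈ S, a * x * a⁻¹ ∈ S) : A ≤ normalizer (S : Set X) := by
  intro a ha
  rw [mem_normalizer_iff]
  intro x
  refine ⟨h a ha x, fun hx => ?_⟩
  have := h a⁻¹ (A.inv_mem ha) _ hx
  simpa [mul_assoc] using this

theorem isSolvable_of_forall_comm {A : Subgroup X} (h : ∀ a ∈ A, ∀ b ∈ A, a * b = b * a) :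
    Group.IsSolvable A :=
  Group.isSolvable_of_comm (fun a b => Subtype.ext (h a a.2 b b.2))

/-- The elements of the normaliser of `M` acting trivially on the section `Q / M`. -/
def sectionKer (Q M : Subgroup X) : Subgroup X where
  carrier := {a | a ∈ normalizer (M : Set X) ∧ ∀ x ∈ Q, x⁻¹ * a * x * a⁻¹ ∈ M}
  mul_mem' := by
    rintro a b ⟨ha, ha'⟩ ⟨hb, hb'⟩
    refine ⟨mul_mem ha hb, fun x hx => ?_⟩
    have h1 := ha' x hx
    have h2 : a * (x⁻¹ * b * x * b⁻¹) * a⁻¹ ∈ M := (mem_normalizer_iff.mp ha _).mp (hb' x hx)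
    have h3 : x⁻¹ * (a * b) * x * (a * b)⁻¹ =
        (x⁻¹ * a * x * a⁻¹) * (a * (x⁻¹ * b * x * b⁻¹) * a⁻¹) := by group
    rw [h3]; exact M.mul_mem h1 h2
  one_mem' := ⟨one_mem _, fun x _ => by simp⟩
  inv_mem' := by
    rintro a ⟨ha, ha'⟩
    refine ⟨inv_mem ha, fun x hx => ?_⟩
    have h1 := M.inv_mem (ha' x hx)
    have h2 : a⁻¹ * (x⁻¹ * a * x * a⁻¹)⁻¹ * a⁻¹⁻¹ ∈ M :=
      (mem_normalizer_iff.mp (inv_mem ha) _).mp h1
    have h3 : x⁻¹ * a⁻¹ * x * a⁻¹⁻¹ = a⁻¹ * (x⁻¹ * a * x * a⁻¹)⁻¹ * a⁻¹⁻¹ := by group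
    rw [h3]; exact h2

theorem mem_sectionKer {Q M : Subgroup X} {a : X} :
    a ∈ sectionKer Q M ↔ a ∈ normalizer (M : Set X) ∧ ∀ x ∈ Q, x⁻¹ * a * x * a⁻¹ ∈ M := Iff.rfl

/-- The elements of `Q` (normalising `M`) whose image in `Q / M` is fixed by `g`. -/
def sectionFix (Q M : Subgroup X) (g : X) : Subgroup X where
  carrier := {x | x ∈ Q ∧ x ∈ normalizer (M : Set X) ∧ x⁻¹ * g * x * g⁻¹ ∈ M}
  mul_mem' := by
    rintro x y ⟨hx, hxn, hx'⟩ ⟨hy, hyn, hy'⟩
    refine ⟨mul_mem hx hy, mul_mem hxn hyn, ?_⟩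
    have h2 : y⁻¹ * (x⁻¹ * g * x * g⁻¹) * y⁻¹⁻¹ ∈ M :=
      (mem_normalizer_iff.mp (inv_mem hyn) _).mp hx'
    have h3 : (x * y)⁻¹ * g * (x * y) * g⁻¹ =
        (y⁻¹ * (x⁻¹ * g * x * g⁻¹) * y⁻¹⁻¹) * (y⁻¹ * g * y * g⁻¹) := by group
    rw [h3]; exact M.mul_mem h2 hy'
  one_mem' := ⟨one_mem _, one_mem _, by simp⟩
  inv_mem' := by
    rintro x ⟨hx, hxn, hx'⟩
    refine ⟨inv_mem hx, inv_mem hxn, ?_⟩
    have h2 : x * (x⁻¹ * g * x * g⁻¹)⁻¹ * x⁻¹ ∈ M :=
      (mem_normalizer_iff.mp hxn _).mp (M.inv_mem hx')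
    have h3 : x⁻¹⁻¹ * g * x⁻¹ * g⁻¹ = x * (x⁻¹ * g * x * g⁻¹)⁻¹ * x⁻¹ := by group
    rw [h3]; exact h2

theorem mem_sectionFix {Q M : Subgroup X} {g x : X} :
    x ∈ sectionFix Q M g ↔ x ∈ Q ∧ x ∈ normalizer (M : Set X) ∧ x⁻¹ * g * x * g⁻¹ ∈ M := Iff.rfl

theorem sectionFix_le (Q M : Subgroup X) (g : X) : sectionFix Q M g ≤ Q := fun _ hx => hx.1

/-- The `r`-th powers of elements of an abelian section `Q / M` lie in any subgroup `Z ≥ M`
containing the fixed points of `a` and of all `a ^ i * b` on `Q / M`, when `a`, `b` commute and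
`a ^ r`, `b ^ r` act trivially on `Q / M`. -/
theorem pow_mem_of_sectionFix_le {A Q M Z : Subgroup X}
    (hAab : ∀ a ∈ A, ∀ b ∈ A, a * b = b * a)
    (hAQ : A ≤ normalizer (Q : Set X)) (hAM : A ≤ normalizer (M : Set X))
    (hQM : Q ≤ normalizer (M : Set X)) (hcomm : ⁅Q, Q⁆ ≤ M) (hMZ : M ≤ Z)
    {r : ℕ} (hr : r.Prime) {a b : X} (ha : a ∈ A) (hb : b ∈ A)
    (har : a ^ r ∈ sectionKer Q M) (hbr : b ^ r ∈ sectionKer Q M)
    (h0 : sectionFix Q M a ≤ Z) (h1 : ∀ i : ℕ, sectionFix Q M (a ^ i * b) ≤ Z)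
    {x : X} (hx : x ∈ Q) : x ^ r ∈ Z := by
  have hMn : (M.subgroupOf Q).Normal := Subgroup.normal_subgroupOf_of_le_normalizer hQM
  -- the abelian quotient `Q / M`
  let cg : CommGroup (↥Q ⧸ M.subgroupOf Q) :=
    { (inferInstance : Group (↥Q ⧸ M.subgroupOf Q)) with
      mul_comm := by
        intro u v
        refine Quotient.inductionOn₂' u v ?_
        intro y z
        change ((y * z : Q) : ↥Q ⧸ M.subgroupOf Q) = ((z * y : Q) : ↥Q ⧸ M.subgroupOf Q)
        apply QuotientGroup.eq.mpr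
        have h2 : ((y * z)⁻¹ * (z * y) : Q) ∈ M.subgroupOf Q := by
          rw [Subgroup.mem_subgroupOf]
          have h3 : (((y * z)⁻¹ * (z * y) : Q) : X) = ⁅(z : X)⁻¹, (y : X)⁻¹⁆ := by
            rw [commutatorElement_def]; simp [mul_assoc]
          rw [h3]
          exact hcomm (Subgroup.commutator_mem_commutator (Q.inv_mem z.2) (Q.inv_mem y.2))
        exact h2 }
  -- conjugation by elements of `A` on `Q` and on `Q / M`
  let conjQ : A → (Q →* Q) := fun g =>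
    MonoidHom.mk' (fun y => ⟨(g : X) * y * (g : X)⁻¹, (mem_normalizer_iff.mp (hAQ g.2) y).mp y.2⟩)
      (fun y z => Subtype.ext (by simp [mul_assoc]))
  have hconjQ : ∀ (g : A) (y : Q), ((conjQ g y : Q) : X) = (g : X) * y * (g : X)⁻¹ :=
    fun g y => rfl
  have hcomap : ∀ g : A, M.subgroupOf Q ≤ (M.subgroupOf Q).comap (conjQ g) := by
    intro g y hy
    rw [Subgroup.mem_comap, Subgroup.mem_subgroupOf, hconjQ]
    exact (mem_normalizer_iff.mp (hAM g.2) y).mp hy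
  let φ : A → ((↥Q ⧸ M.subgroupOf Q) →* (↥Q ⧸ M.subgroupOf Q)) := fun g =>
    QuotientGroup.map (M.subgroupOf Q) (M.subgroupOf Q) (conjQ g) (hcomap g)
  have hφ : ∀ (g : A) (y : Q), φ g (y : ↥Q ⧸ M.subgroupOf Q) = ((conjQ g y : Q) : ↥Q ⧸ M.subgroupOf Q) :=
    fun g y => rfl
  let Φ : A →* Module.End ℤ (Additive (↥Q ⧸ M.subgroupOf Q)) :=
    { toFun := fun g => (MonoidHom.toAdditive (φ g)).toIntLinearMap
      map_one' := by
        apply LinearMap.ext
        intro w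
        induction w using Additive.rec with
        | ofMul w =>
          refine Quotient.inductionOn' w ?_
          intro y
          change Additive.ofMul (φ 1 (y : ↥Q ⧸ M.subgroupOf Q)) = Additive.ofMul (y : ↥Q ⧸ M.subgroupOf Q)
          rw [hφ]
          congr 2
          apply Subtype.ext
          rw [hconjQ]; simp
      map_mul' := by
        intro g h
        apply LinearMap.ext
        intro w
        induction w using Additive.rec with
        | ofMul w =>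
          refine Quotient.inductionOn' w ?_
          intro y
          change Additive.ofMul (φ (g * h) (y : ↥Q ⧸ M.subgroupOf Q)) =
            Additive.ofMul (φ g (φ h (y : ↥Q ⧸ M.subgroupOf Q)))
          rw [hφ, hφ, hφ]
          congr 2
          apply Subtype.ext
          rw [hconjQ, hconjQ, hconjQ]; simp [mul_assoc] }
  have hΦ : ∀ (g : A) (y : Q), Φ g (Additive.ofMul (y : ↥Q ⧸ M.subgroupOf Q)) =
      Additive.ofMul ((conjQ g y : Q) : ↥Q ⧸ M.subgroupOf Q) := fun g y => rfl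
  -- elements of the kernel act trivially
  have hker : ∀ g : A, (g : X) ∈ sectionKer Q M → Φ g = 1 := by
    intro g hg
    apply LinearMap.ext
    intro w
    induction w using Additive.rec with
    | ofMul w =>
      refine Quotient.inductionOn' w ?_
      intro y
      change Φ g (Additive.ofMul (y : ↥Q ⧸ M.subgroupOf Q)) = Additive.ofMul (y : ↥Q ⧸ M.subgroupOf Q)
      rw [hΦ]
      congr 1
      symm
      apply QuotientGroup.eq.mpr
      rw [Subgroup.mem_subgroupOf]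
      have h3 : ((y⁻¹ * conjQ g y : Q) : X) = (y : X)⁻¹ * g * y * (g : X)⁻¹ := by
        rw [Subgroup.coe_mul, hconjQ]; simp [mul_assoc]
      rw [h3]
      exact hg.2 y y.2
  -- fixed points
  have hfixed : ∀ (g : A) (y : Q), Φ g (Additive.ofMul (y : ↥Q ⧸ M.subgroupOf Q)) =
      Additive.ofMul (y : ↥Q ⧸ M.subgroupOf Q) → (y : X) ∈ sectionFix Q M g := by
    intro g y h
    rw [hΦ] at h
    have h2 : ((conjQ g y : Q) : ↥Q ⧸ M.subgroupOf Q) = (y : ↥Q ⧸ M.subgroupOf Q) :=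
      Additive.ofMul.injective h
    have h3 := QuotientGroup.eq.mp h2.symm
    rw [Subgroup.mem_subgroupOf] at h3
    have h4 : ((y⁻¹ * conjQ g y : Q) : X) = (y : X)⁻¹ * g * y * (g : X)⁻¹ := by
      rw [Subgroup.coe_mul, hconjQ]; simp [mul_assoc]
    rw [h4] at h3
    exact ⟨y.2, hQM y.2, h3⟩
  -- the subgroup `Z / M`
  let S : AddSubgroup (Additive (↥Q ⧸ M.subgroupOf Q)) :=
    Subgroup.toAddSubgroup ((Z.subgroupOf Q).map (QuotientGroup.mk' (M.subgroupOf Q)))
  have hS : ∀ y : Q, (y : X) ∈ Z → Additive.ofMul (y : ↥Q ⧸ M.subgroupOf Q) ∈ S := by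
    intro y hy
    exact ⟨y, hy, rfl⟩
  have hcommA : Commute (Φ ⟨a, ha⟩) (Φ ⟨b, hb⟩) := by
    have h2 : (⟨a, ha⟩ : A) * ⟨b, hb⟩ = ⟨b, hb⟩ * ⟨a, ha⟩ := Subtype.ext (hAab a ha b hb)
    change Φ ⟨a, ha⟩ * Φ ⟨b, hb⟩ = Φ ⟨b, hb⟩ * Φ ⟨a, ha⟩
    rw [← map_mul, ← map_mul, h2]
  have hαr : (Φ ⟨a, ha⟩) ^ r = 1 := by
    rw [← map_pow]; exact hker _ har
  have hβr : (Φ ⟨b, hb⟩) ^ r = 1 := by
    rw [← map_pow]; exact hker _ hbr
  have key := nsmul_mem_of_fixed hr (Φ ⟨a, ha⟩) (Φ ⟨b, hb⟩) hcommA hαr hβr S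
    (by
      intro w
      induction w using Additive.rec with
      | ofMul w =>
        refine Quotient.inductionOn' w ?_
        intro y hy
        exact hS y (h0 (hfixed ⟨a, ha⟩ y hy)))
    (by
      intro i w
      induction w using Additive.rec with
      | ofMul w =>
        refine Quotient.inductionOn' w ?_
        intro y hy
        rw [← map_pow, ← map_mul] at hy
        exact hS y (h1 i (hfixed _ y hy)))
    (Additive.ofMul ((⟨x, hx⟩ : Q) : ↥Q ⧸ M.subgroupOf Q))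
  obtain ⟨z, hz, hzx⟩ := key
  have h5 : (z : ↥Q ⧸ M.subgroupOf Q) = (((⟨x, hx⟩ : Q) ^ r : Q) : ↥Q ⧸ M.subgroupOf Q) := hzx
  have h6 := QuotientGroup.eq.mp h5
  rw [Subgroup.mem_subgroupOf] at h6
  have h7 : x ^ r = (z : X) * ((z⁻¹ * (⟨x, hx⟩ : Q) ^ r : Q) : X) := by
    simp
  rw [h7]
  exact Z.mul_mem hz (hMZ h6)

/-- **Generation of abelian sections.**  `A` abelian acting coprimely on `Q`, `M ⊴ Q` both
`A`-invariant with `Q / M` abelian, `𝓑` a family of subgroups of `A` such that every `K ≤ A` not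
in `𝓑` admits `a, b ∈ A` and a prime `r` with `a ^ r, b ^ r ∈ K`, `a ∉ K`, `b ∉ K ⟨a⟩`.
Then `Q = M ⟨C_Q(B) : B ∈ 𝓑⟩`. -/
theorem section_gen_aux [Finite X] {A M : Subgroup X} (hAab : ∀ a ∈ A, ∀ b ∈ A, a * b = b * a)
    (hAM : A ≤ normalizer (M : Set X)) (𝓑 : Set (Subgroup X))
    (hP : ∀ K : Subgroup X, K ≤ A → K ∉ 𝓑 → ∃ r : ℕ, r.Prime ∧ ∃ a ∈ A, ∃ b ∈ A,
      a ^ r ∈ K ∧ b ^ r ∈ K ∧ a ∉ K ∧ ∀ i : ℕ, a ^ i * b ∉ K) (n : ℕ) :
    ∀ Q : Subgroup X, A ≤ normalizer (Q : Set X) → M ≤ Q → Q ≤ normalizer (M : Set X) →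
      ⁅Q, Q⁆ ≤ M → (Nat.card A).Coprime (Nat.card Q) →
      Nat.card A - Nat.card (A ⊓ sectionKer Q M : Subgroup X) < n →
      Q ≤ M ⊔ ⨆ B ∈ 𝓑, Q ⊓ centralizer (B : Set X) := by
  induction n with
  | zero => intro Q _ _ _ _ _ h; omega
  | succ n ih =>
    intro Q hAQ hMQ hQM hcomm hcop hn
    have hKA : A ⊓ sectionKer Q M ≤ A := inf_le_left
    by_cases hKB : A ⊓ sectionKer Q M ∈ 𝓑
    · -- fixed points in cosets
      intro x hx
      have hKM : A ⊓ sectionKer Q M ≤ normalizer (M : Set X) := hKA.trans hAM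
      have hcopK : (Nat.card (A ⊓ sectionKer Q M : Subgroup X)).Coprime (Nat.card M) :=
        Nat.Coprime.coprime_dvd_left (Subgroup.card_dvd_of_le hKA)
          (Nat.Coprime.coprime_dvd_right (Subgroup.card_dvd_of_le hMQ) hcop)
      have hKsolv : Group.IsSolvable (A ⊓ sectionKer Q M : Subgroup X) :=
        isSolvable_of_le hKA (isSolvable_of_forall_comm hAab)
      obtain ⟨c, hc, hcx⟩ := exists_fixed_in_coset hKM hcopK (Or.inl hKsolv) x
        (fun a ha => ha.2.2 x hx)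
      have hcQ : c ∈ Q := by
        have := Q.mul_mem hx (hMQ hcx)
        simpa using this
      have h1 : c ∈ ⨆ B ∈ 𝓑, Q ⊓ centralizer (B : Set X) :=
        (le_biSup (fun B : Subgroup X => Q ⊓ centralizer (B : Set X)) hKB) ⟨hcQ, hc⟩
      have h2 : x = c * (x⁻¹ * c)⁻¹ := by group
      rw [h2]
      exact Subgroup.mul_mem _ (Subgroup.mem_sup_right h1) (Subgroup.mem_sup_left (M.inv_mem hcx))
    · obtain ⟨r, hr, a, ha, b, hb, har, hbr, haK, habK⟩ := hP _ hKA hKB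
      -- the fixed points of any `g ∈ A` outside the kernel are generated, by induction
      have hfix : ∀ g ∈ A, g ∉ A ⊓ sectionKer Q M →
          sectionFix Q M g ≤ M ⊔ ⨆ B ∈ 𝓑, Q ⊓ centralizer (B : Set X) := by
        intro g hg hgK
        have hle : sectionFix Q M g ≤ Q := sectionFix_le Q M g
        have hA' : A ≤ normalizer ((sectionFix Q M g : Subgroup X) : Set X) := by
          apply le_normalizer_of_forall_conj_mem
          intro c hc x hx
          refine ⟨(mem_normalizer_iff.mp (hAQ hc) x).mp hx.1,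
            mul_mem (mul_mem (hAM hc) hx.2.1) (inv_mem (hAM hc)), ?_⟩
          have h1 : c * (x⁻¹ * g * x * g⁻¹) * c⁻¹ ∈ M :=
            (mem_normalizer_iff.mp (hAM hc) _).mp hx.2.2
          have h2 : (c * x * c⁻¹)⁻¹ * g * (c * x * c⁻¹) * g⁻¹ = c * (x⁻¹ * g * x * g⁻¹) * c⁻¹ := by
            have e1 : c * g = g * c := hAab c hc g hg
            have e2 : c⁻¹ * g = g * c⁻¹ := by
              have := congrArg (fun t => c⁻¹ * t * c⁻¹) e1
              simp only [mul_assoc, inv_mul_cancel_left, mul_inv_cancel, mul_one] at this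
              exact this.symm
            have e3 : c⁻¹ * g⁻¹ = g⁻¹ * c⁻¹ := by
              rw [← mul_inv_rev, ← mul_inv_rev, e1]
            calc (c * x * c⁻¹)⁻¹ * g * (c * x * c⁻¹) * g⁻¹
                = c * x⁻¹ * (c⁻¹ * g) * c * x * (c⁻¹ * g⁻¹) := by group
              _ = c * x⁻¹ * (g * c⁻¹) * c * x * (g⁻¹ * c⁻¹) := by rw [e2, e3]
              _ = c * (x⁻¹ * g * x * g⁻¹) * c⁻¹ := by group
          rw [h2]; exact h1
        have hM' : M ≤ sectionFix Q M g := by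
          intro m hm
          refine ⟨hMQ hm, le_normalizer hm, ?_⟩
          have h1 : g * m * g⁻¹ ∈ M := (mem_normalizer_iff.mp (hAM hg) m).mp hm
          have h2 : m⁻¹ * g * m * g⁻¹ = m⁻¹ * (g * m * g⁻¹) := by group
          rw [h2]; exact M.mul_mem (M.inv_mem hm) h1
        have hlt : Nat.card A - Nat.card (A ⊓ sectionKer (sectionFix Q M g) M : Subgroup X) < n := by
          have h1 : A ⊓ sectionKer Q M ≤ A ⊓ sectionKer (sectionFix Q M g) M :=
            inf_le_inf_left A (fun c hc => ⟨hc.1, fun x hx => hc.2 x (hle hx)⟩)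
          have h2 : g ∈ A ⊓ sectionKer (sectionFix Q M g) M :=
            ⟨hg, hAM hg, fun x hx => hx.2.2⟩
          have h3 : Nat.card (A ⊓ sectionKer Q M : Subgroup X) <
              Nat.card (A ⊓ sectionKer (sectionFix Q M g) M : Subgroup X) := by
            by_contra hcon
            have := Subgroup.eq_of_le_of_card_ge h1 (not_lt.mp hcon)
            exact hgK (this ▸ h2)
          have h4 : Nat.card (A ⊓ sectionKer (sectionFix Q M g) M : Subgroup X) ≤ Nat.card A :=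
            Subgroup.card_le_of_le inf_le_left
          omega
        have := ih (sectionFix Q M g) hA' hM' (fun x hx => hx.2.1)
          ((Subgroup.commutator_mono hle hle).trans hcomm)
          (Nat.Coprime.coprime_dvd_right (Subgroup.card_dvd_of_le hle) hcop) hlt
        refine this.trans (sup_le_sup_left ?_ M)
        exact iSup₂_mono (fun B _ => inf_le_inf_right _ hle)
      -- `r` divides the order of `A`
      have hrA : r ∣ Nat.card A := by
        by_contra hcon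
        have h1 : Nat.Coprime r (orderOf a) := by
          rw [Nat.Prime.coprime_iff_not_dvd hr]
          intro h2
          exact hcon (h2.trans (Subgroup.orderOf_dvd_natCard A ha))
        exact haK (mem_of_pow_mem_of_coprime h1 har (by rw [pow_orderOf_eq_one]; exact one_mem _))
      have hrQ : Nat.Coprime r (Nat.card Q) := Nat.Coprime.coprime_dvd_left hrA hcop
      intro x hx
      have h1 : x ^ r ∈ M ⊔ ⨆ B ∈ 𝓑, Q ⊓ centralizer (B : Set X) :=
        pow_mem_of_sectionFix_le hAab hAQ hAM hQM hcomm le_sup_left hr ha hb har.2 hbr.2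
          (hfix a ha haK) (fun i => hfix _ (A.mul_mem (A.pow_mem ha i) hb) (habK i)) hx
      have h2 : x ^ Nat.card Q ∈ M ⊔ ⨆ B ∈ 𝓑, Q ⊓ centralizer (B : Set X) := by
        have : x ^ Nat.card Q = 1 := by
          have := Subgroup.orderOf_dvd_natCard Q hx
          exact orderOf_dvd_iff_pow_eq_one.mp this
        rw [this]; exact one_mem _
      exact mem_of_pow_mem_of_coprime hrQ h1 h2

theorem le_normalizer_biSup {A : Subgroup X} {ι : Type*} (s : ι → Subgroup X) (T : Set ι)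
    (h : ∀ i ∈ T, A ≤ normalizer (s i : Set X)) :
    A ≤ normalizer ((⨆ i ∈ T, s i : Subgroup X) : Set X) := by
  apply le_normalizer_of_forall_conj_mem
  intro a ha x hx
  have h1 : (⨆ i ∈ T, s i) ≤ (⨆ i ∈ T, s i : Subgroup X).comap (MulAut.conj a).toMonoidHom := by
    refine iSup₂_le (fun i hi y hy => ?_)
    rw [Subgroup.mem_comap]
    exact (le_biSup s hi) ((mem_normalizer_iff.mp (h i hi ha) y).mp hy)
  exact h1 hx

theorem le_normalizer_sup {A H K : Subgroup X} (hH : A ≤ normalizer (H : Set X))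
    (hK : A ≤ normalizer (K : Set X)) : A ≤ normalizer ((H ⊔ K : Subgroup X) : Set X) := by
  apply le_normalizer_of_forall_conj_mem
  intro a ha x hx
  have h1 : H ⊔ K ≤ (H ⊔ K : Subgroup X).comap (MulAut.conj a).toMonoidHom := by
    refine sup_le (fun y hy => ?_) (fun y hy => ?_)
    · rw [Subgroup.mem_comap]
      exact Subgroup.mem_sup_left ((mem_normalizer_iff.mp (hH ha) y).mp hy)
    · rw [Subgroup.mem_comap]
      exact Subgroup.mem_sup_right ((mem_normalizer_iff.mp (hK ha) y).mp hy)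
  exact h1 hx

theorem le_normalizer_commutator' {A H K : Subgroup X} (hH : A ≤ normalizer (H : Set X))
    (hK : A ≤ normalizer (K : Set X)) : A ≤ normalizer ((⁅H, K⁆ : Subgroup X) : Set X) := by
  apply le_normalizer_of_forall_conj_mem
  intro a ha x hx
  have h1 : ⁅H, K⁆ ≤ (⁅H, K⁆ : Subgroup X).comap (MulAut.conj a).toMonoidHom := by
    rw [Subgroup.commutator_le]
    intro h hh k hk
    rw [Subgroup.mem_comap, map_commutatorElement]
    exact Subgroup.commutator_mem_commutator ((mem_normalizer_iff.mp (hH ha) h).mp hh)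
      ((mem_normalizer_iff.mp (hK ha) k).mp hk)
  exact h1 hx

/-- `A` abelian normalising `Q`, `B ≤ A`: then `A` normalises `C_Q(B)`. -/
theorem le_normalizer_inf_centralizer {A Q B : Subgroup X}
    (hAab : ∀ a ∈ A, ∀ b ∈ A, a * b = b * a) (hAQ : A ≤ normalizer (Q : Set X)) (hBA : B ≤ A) :
    A ≤ normalizer ((Q ⊓ centralizer (B : Set X) : Subgroup X) : Set X) := by
  apply le_normalizer_of_forall_conj_mem
  intro c hc x hx
  refine Subgroup.mem_inf.mpr ⟨(mem_normalizer_iff.mp (hAQ hc) x).mp hx.1, ?_⟩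
  rw [Subgroup.mem_centralizer_iff]
  intro b hb
  have e1 : b * c = c * b := hAab b (hBA hb) c hc
  have e2 : b * x = x * b := (Subgroup.mem_centralizer_iff.mp hx.2) b hb
  have e3 : b * c⁻¹ = c⁻¹ * b := by
    have := congrArg (fun t => c⁻¹ * t * c⁻¹) e1
    simp only [mul_assoc, inv_mul_cancel_left, mul_inv_cancel, mul_one] at this
    exact this.symm
  calc b * (c * x * c⁻¹) = (b * c) * x * c⁻¹ := by group
    _ = c * (b * x) * c⁻¹ := by rw [e1]; group
    _ = c * x * (b * c⁻¹) := by rw [e2]; group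
    _ = c * x * c⁻¹ * b := by rw [e3]; group

/-- Normaliser growth in a `q`-group. -/
theorem exists_mem_normalizer_not_mem_of_isPGroup [Finite X] {q : ℕ} [Fact q.Prime]
    {Q V : Subgroup X} (hQq : IsPGroup q Q) (hVQ : V ≤ Q) (hne : V ≠ Q) :
    ∃ y ∈ Q, y ∈ normalizer (V : Set X) ∧ y ∉ V := by
  have hnil : Group.IsNilpotent Q := hQq.isNilpotent
  have hlt : V.subgroupOf Q < ⊤ := by
    rw [lt_top_iff_ne_top]
    intro htop
    apply hne
    refine le_antisymm hVQ ?_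
    intro x hx
    have : (⟨x, hx⟩ : Q) ∈ V.subgroupOf Q := by rw [htop]; trivial
    exact this
  have hnc := Group.normalizerCondition_of_isNilpotent (G := Q) _ hlt
  obtain ⟨y, hy1, hy2⟩ := SetLike.exists_of_lt hnc
  refine ⟨y, y.2, ?_, hy2⟩
  rw [Subgroup.mem_normalizer_iff]
  intro g
  constructor
  · intro hg
    exact (Subgroup.mem_normalizer_iff.mp hy1 ⟨g, hVQ hg⟩).mp hg
  · intro hg
    have hgQ : g ∈ Q := by
      have := Q.mul_mem (Q.mul_mem (Q.inv_mem y.2) (hVQ hg)) y.2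
      simpa [mul_assoc] using this
    exact (Subgroup.mem_normalizer_iff.mp hy1 ⟨g, hgQ⟩).mpr hg

/-- A proper normal subgroup of a `q`-group `Q` does not supplement the commutator subgroup. -/
theorem sup_commutator_ne_of_isPGroup [Finite X] {q : ℕ} [Fact q.Prime] {Q M : Subgroup X}
    (hQq : IsPGroup q Q) (hMQ : M ≤ Q) (hQM : Q ≤ normalizer (M : Set X)) (hne : M ≠ Q) :
    M ⊔ ⁅Q, Q⁆ ≠ Q := by
  intro hsup
  have hMn : (M.subgroupOf Q).Normal := Subgroup.normal_subgroupOf_of_le_normalizer hQM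
  have hq : IsPGroup q (↥Q ⧸ M.subgroupOf Q) := hQq.to_quotient _
  have hnil : Group.IsNilpotent (↥Q ⧸ M.subgroupOf Q) := hq.isNilpotent
  have hnt : Nontrivial (↥Q ⧸ M.subgroupOf Q) := by
    rw [← Finite.one_lt_card_iff_nontrivial, ← Subgroup.index_eq_card]
    apply Subgroup.one_lt_index_of_ne_top
    intro htop
    apply hne
    refine le_antisymm hMQ ?_
    intro x hx
    have : (⟨x, hx⟩ : Q) ∈ M.subgroupOf Q := by rw [htop]; trivial
    exact this
  have hlt := Group.IsSolvable.commutator_lt_top_of_nontrivial (↥Q ⧸ M.subgroupOf Q)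
  apply hlt.ne
  rw [eq_top_iff]
  intro u _
  obtain ⟨y, rfl⟩ := QuotientGroup.mk_surjective u
  have hy : (y : X) ∈ M ⊔ ⁅Q, Q⁆ := by rw [hsup]; exact y.2
  have hCQ : (⁅Q, Q⁆ : Subgroup X) ≤ Q := commutator_le_of_le_normalizer le_normalizer
  obtain ⟨m, hm, c, hc, hmc⟩ := exists_mul_of_mem_sup_of_le_normalizer (hCQ.trans hQM) hy
  have hc' : c ∈ (commutator Q).map Q.subtype := by
    rw [Subgroup.map_subtype_commutator]; exact hc
  obtain ⟨c', hc'1, hc'2⟩ := hc'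
  have h1 : (y : ↥Q ⧸ M.subgroupOf Q) = (c' : ↥Q ⧸ M.subgroupOf Q) := by
    apply QuotientGroup.eq.mpr
    rw [Subgroup.mem_subgroupOf]
    have h2 : ((y⁻¹ * c' : Q) : X) = c⁻¹ * m⁻¹ * c := by
      rw [Subgroup.coe_mul, Subgroup.coe_inv, hmc]
      have : (c' : X) = c := hc'2
      rw [this]; group
    rw [h2]
    have h3 : c⁻¹ * m⁻¹ * c⁻¹⁻¹ ∈ M :=
      (mem_normalizer_iff.mp (hQM (Q.inv_mem (hCQ hc))) _).mp (M.inv_mem hm)
    simpa using h3
  have h4 : (c' : ↥Q ⧸ M.subgroupOf Q) ∈ (commutator Q).map (QuotientGroup.mk' (M.subgroupOf Q)) :=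
    Subgroup.mem_map_of_mem _ hc'1
  rw [commutator_def, Subgroup.map_commutator] at h4
  rw [commutator_def, h1]
  exact Subgroup.commutator_mono le_top le_top h4

/-- **Coprime generation, `q`-group case.** -/
theorem pgroup_gen [Finite X] {A Q : Subgroup X} {q : ℕ} [Fact q.Prime] (hQq : IsPGroup q Q)
    (hAab : ∀ a ∈ A, ∀ b ∈ A, a * b = b * a) (hAQ : A ≤ normalizer (Q : Set X))
    (hcop : (Nat.card A).Coprime (Nat.card Q)) (𝓑 : Set (Subgroup X)) (h𝓑 : ∀ B ∈ 𝓑, B ≤ A)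
    (hP : ∀ K : Subgroup X, K ≤ A → K ∉ 𝓑 → ∃ r : ℕ, r.Prime ∧ ∃ a ∈ A, ∃ b ∈ A,
      a ^ r ∈ K ∧ b ^ r ∈ K ∧ a ∉ K ∧ ∀ i : ℕ, a ^ i * b ∉ K) :
    Q = ⨆ B ∈ 𝓑, Q ⊓ centralizer (B : Set X) := by
  have hYQ : (⨆ B ∈ 𝓑, Q ⊓ centralizer (B : Set X)) ≤ Q := iSup₂_le (fun B _ => inf_le_left)
  by_contra hne
  have hYne : (⨆ B ∈ 𝓑, Q ⊓ centralizer (B : Set X)) ≠ Q := fun h => hne h.symm
  have hAY : A ≤ normalizer ((⨆ B ∈ 𝓑, Q ⊓ centralizer (B : Set X) : Subgroup X) : Set X) :=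
    le_normalizer_biSup _ _ (fun B hB => le_normalizer_inf_centralizer hAab hAQ (h𝓑 B hB))
  obtain ⟨M, ⟨hYM, hMQ, hMne, hAM⟩, hmax⟩ := Set.exists_max_image
    {M : Subgroup X | (⨆ B ∈ 𝓑, Q ⊓ centralizer (B : Set X)) ≤ M ∧ M ≤ Q ∧ M ≠ Q ∧
      A ≤ normalizer (M : Set X)}
    (fun M => Nat.card M) (Set.toFinite _) ⟨_, le_rfl, hYQ, hYne, hAY⟩
  -- `M` is normal in `Q`
  have hQM : Q ≤ normalizer (M : Set X) := by
    by_contra hcon
    have hN : Q ⊓ normalizer (M : Set X) ≠ Q := fun h => hcon (h ▸ inf_le_right)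
    have hAN : A ≤ normalizer ((Q ⊓ normalizer (M : Set X) : Subgroup X) : Set X) :=
      (le_inf hAQ (hAM.trans le_normalizer)).trans Subgroup.inf_normalizer_le_normalizer_inf
    have hle := hmax (Q ⊓ normalizer (M : Set X))
      ⟨hYM.trans (le_inf hMQ le_normalizer), inf_le_left, hN, hAN⟩
    have heq := Subgroup.eq_of_le_of_card_ge (le_inf hMQ le_normalizer) hle
    obtain ⟨y, hyQ, hyN, hyM⟩ := exists_mem_normalizer_not_mem_of_isPGroup hQq hMQ hMne
    exact hyM (heq ▸ (⟨hyQ, hyN⟩ : y ∈ Q ⊓ normalizer (M : Set X)))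
  -- `Q / M` is abelian
  have hCQ : (⁅Q, Q⁆ : Subgroup X) ≤ Q := commutator_le_of_le_normalizer le_normalizer
  have hcomm : ⁅Q, Q⁆ ≤ M := by
    have hM₁ : M ⊔ ⁅Q, Q⁆ ≠ Q := sup_commutator_ne_of_isPGroup hQq hMQ hQM hMne
    have hle := hmax (M ⊔ ⁅Q, Q⁆) ⟨hYM.trans le_sup_left, sup_le hMQ hCQ, hM₁,
      le_normalizer_sup hAM (le_normalizer_commutator' hAQ hAQ)⟩
    have heq := Subgroup.eq_of_le_of_card_ge (le_sup_left : M ≤ M ⊔ ⁅Q, Q⁆) hle
    rw [heq]; exact le_sup_right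
  have := section_gen_aux hAab hAM 𝓑 hP (Nat.card A + 1) Q hAQ hMQ hQM hcomm hcop (by omega)
  exact hMne (le_antisymm hMQ (this.trans (sup_le le_rfl hYM)))

/-- **Coprime generation.**  Let the abelian group `A` act coprimely on `K`, and let `𝓑` be a
family of subgroups of `A` such that every subgroup `L ≤ A` outside `𝓑` admits a prime `r` and
`a, b ∈ A` with `a ^ r, b ^ r ∈ L`, `a ∉ L` and `b ∉ L ⟨a⟩`.  Then `K = ⟨C_K(B) : B ∈ 𝓑⟩`. -/
theorem coprime_gen [Finite X] {A K : Subgroup X}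
    (hAab : ∀ a ∈ A, ∀ b ∈ A, a * b = b * a) (hAK : A ≤ normalizer (K : Set X))
    (hcop : (Nat.card A).Coprime (Nat.card K)) (𝓑 : Set (Subgroup X)) (h𝓑 : ∀ B ∈ 𝓑, B ≤ A)
    (hP : ∀ L : Subgroup X, L ≤ A → L ∉ 𝓑 → ∃ r : ℕ, r.Prime ∧ ∃ a ∈ A, ∃ b ∈ A,
      a ^ r ∈ L ∧ b ^ r ∈ L ∧ a ∉ L ∧ ∀ i : ℕ, a ^ i * b ∉ L) :
    K = ⨆ B ∈ 𝓑, K ⊓ centralizer (B : Set X) := by
  have hYK : (⨆ B ∈ 𝓑, K ⊓ centralizer (B : Set X)) ≤ K := iSup₂_le (fun B _ => inf_le_left)
  symm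
  apply Subgroup.eq_of_le_of_card_ge hYK
  apply Nat.le_of_dvd Nat.card_pos
  rw [← Nat.factorization_prime_le_iff_dvd Nat.card_pos.ne' Nat.card_pos.ne']
  intro q hq
  have : Fact q.Prime := ⟨hq⟩
  obtain ⟨Q, hQ, hAQ⟩ := exists_invariant_sylow hAK hcop
    (Or.inl (isSolvable_of_forall_comm hAab)) q
  have hQY : Q ≤ ⨆ B ∈ 𝓑, K ⊓ centralizer (B : Set X) := by
    have h1 := pgroup_gen (isPGroup_of_mem_sylowSet hQ) hAab hAQ
      (Nat.Coprime.coprime_dvd_right (Subgroup.card_dvd_of_le hQ.1) hcop) 𝓑 h𝓑 hP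
    rw [h1]
    exact iSup₂_mono (fun B _ => inf_le_inf_right _ hQ.1)
  have h1 : q ^ (Nat.card K).factorization q ∣
      Nat.card (⨆ B ∈ 𝓑, K ⊓ centralizer (B : Set X) : Subgroup X) := by
    rw [← hQ.2]; exact Subgroup.card_dvd_of_le hQY
  exact (Nat.Prime.pow_dvd_iff_le_factorization hq Nat.card_pos.ne').mp h1

end sectionGen

end Cfsg.Agent.Helper35
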