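/-
Helper library of seat helper35: non-cyclic finite abelian groups contain `C_r × C_r`;
consequences for coprime generation.  Everything lives in the namespace `Cfsg.Agent.Helper35`.
-/
import Cfsg.Agent.Helper35.CoprimeGen

set_option autoImplicit false

namespace Cfsg.Agent.Helper35

open Subgroup MulAction
open scoped Pointwise commutatorElement

universe u

/-- In a finite abelian group, if for every prime `r` there are at most `r` solutions of
`x ^ r = 1`, then for every `n > 0` there are at most `n` solutions of `x ^ n = 1`. -/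
theorem card_pow_eq_one_le_of_prime {C : Type*} [CommGroup C] [Fintype C] [DecidableEq C]
    (h : ∀ r : ℕ, r.Prime → (Finset.univ.filter (fun x : C => x ^ r = 1)).card ≤ r) :
    ∀ n : ℕ, 0 < n → (Finset.univ.filter (fun x : C => x ^ n = 1)).card ≤ n := by
  intro n
  induction n using Nat.strong_induction_on with
  | _ n ih =>
    intro hn
    rcases Nat.lt_or_ge 1 n with h1 | h1
    · have hrp : n.minFac.Prime := Nat.minFac_prime (by omega)
      obtain ⟨m, hm⟩ := Nat.minFac_dvd n
      have hmpos : 0 < m := by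
        rcases Nat.eq_zero_or_pos m with h0 | h0
        · rw [h0, mul_zero] at hm; omega
        · exact h0
      have hmlt : m < n := by
        have := hrp.one_lt
        calc m = 1 * m := (one_mul m).symm
          _ < n.minFac * m := Nat.mul_lt_mul_of_pos_right this hmpos
          _ = n := hm.symm
      have key := Finset.card_le_mul_card_image (f := fun x : C => x ^ n.minFac)
        (Finset.univ.filter (fun x : C => x ^ n = 1)) n.minFac (by
          intro y hy
          obtain ⟨x₀, hx₀, rfl⟩ := Finset.mem_image.mp hy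
          refine le_trans ?_ (h n.minFac hrp)
          apply Finset.card_le_card_of_injOn (fun x => x * x₀⁻¹)
          · intro x hx
            simp only [Finset.coe_filter, Set.mem_ofPred_eq, Finset.mem_filter, Finset.mem_univ,
              true_and] at hx ⊢
            rw [mul_pow, inv_pow, hx.2, mul_inv_cancel]
          · intro x _ x' _ hxx'
            exact mul_right_cancel hxx')
      calc (Finset.univ.filter (fun x : C => x ^ n = 1)).card
          ≤ n.minFac * ((Finset.univ.filter (fun x : C => x ^ n = 1)).image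
              (fun x => x ^ n.minFac)).card := key
        _ ≤ n.minFac * (Finset.univ.filter (fun x : C => x ^ m = 1)).card := by
            apply Nat.mul_le_mul_left
            apply Finset.card_le_card
            intro y hy
            obtain ⟨x, hx, rfl⟩ := Finset.mem_image.mp hy
            rw [Finset.mem_filter] at hx ⊢
            refine ⟨Finset.mem_univ _, ?_⟩
            rw [← pow_mul, ← hm]; exact hx.2
        _ ≤ n.minFac * m := Nat.mul_le_mul_left _ (ih m hmlt hmpos)
        _ = n := hm.symm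
    · have : n = 1 := by omega
      subst this
      have h2 : Finset.univ.filter (fun x : C => x ^ 1 = 1) = {1} := by
        ext x; simp
      rw [h2, Finset.card_singleton]

/-- A finite abelian group which is not cyclic contains, for some prime `r`, two elements `u`, `v`
of exponent `r` with `u ≠ 1` and `v ∉ ⟨u⟩`. -/
theorem exists_prime_pow_of_not_isCyclic {C : Type*} [CommGroup C] [Finite C]
    (hC : ¬ IsCyclic C) :
    ∃ r : ℕ, r.Prime ∧ ∃ u v : C, u ^ r = 1 ∧ v ^ r = 1 ∧ u ≠ 1 ∧ ∀ i : ℕ, u ^ i * v ≠ 1 := by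
  classical
  have := Fintype.ofFinite C
  by_contra hcon
  apply hC
  apply isCyclic_of_card_pow_eq_one_le
  apply card_pow_eq_one_le_of_prime
  intro r hr
  by_contra hlt
  rw [not_le] at hlt
  apply hcon
  have h1 : ∃ u ∈ Finset.univ.filter (fun x : C => x ^ r = 1), u ≠ 1 := by
    by_contra hall
    have h2 : Finset.univ.filter (fun x : C => x ^ r = 1) ⊆ {1} :=
      fun x hx => Finset.mem_singleton.mpr (by
        by_contra hx1
        exact hall ⟨x, hx, hx1⟩)
    have h3 := Finset.card_le_card h2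
    rw [Finset.card_singleton] at h3
    have := hr.one_lt
    omega
  obtain ⟨u, huΩ, hu1⟩ := h1
  have hur : u ^ r = 1 := (Finset.mem_filter.mp huΩ).2
  have h2 : ∃ v ∈ Finset.univ.filter (fun x : C => x ^ r = 1),
      v ∉ (Finset.range r).image (fun i => u ^ i) := by
    by_contra hall
    have hall' : Finset.univ.filter (fun x : C => x ^ r = 1) ⊆
        (Finset.range r).image (fun i => u ^ i) := fun x hx => by
      by_contra hx1
      exact hall ⟨x, hx, hx1⟩
    have h3 := (Finset.card_le_card hall').trans Finset.card_image_le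
    rw [Finset.card_range] at h3
    omega
  obtain ⟨v, hvΩ, hv⟩ := h2
  refine ⟨r, hr, u, v, hur, (Finset.mem_filter.mp hvΩ).2, hu1, ?_⟩
  intro i hi
  apply hv
  rw [Finset.mem_image]
  refine ⟨(i * (r - 1)) % r, Finset.mem_range.mpr (Nat.mod_lt _ hr.pos), ?_⟩
  rw [← pow_eq_pow_mod_of_pow_eq_one hur]
  have h3 : u ^ i * u ^ (i * (r - 1)) = 1 := by
    rw [← pow_add]
    have h4 : i + i * (r - 1) = r * i := by
      obtain ⟨k, rfl⟩ : ∃ k, r = k + 1 := ⟨r - 1, by have := hr.pos; omega⟩
      simp only [Nat.add_sub_cancel]; ring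
    rw [h4, pow_mul, hur, one_pow]
  exact mul_left_cancel (h3.trans hi.symm)

section quotient

variable {X : Type u} [Group X]

/-- If `A` is abelian and `A / L` is not cyclic, then there are a prime `r` and `a, b ∈ A` with
`a ^ r, b ^ r ∈ L`, `a ∉ L` and `b ∉ L ⟨a⟩`. -/
theorem exists_prime_elts_of_not_cyclic_quotient [Finite X] {A L : Subgroup X}
    (hAab : ∀ a ∈ A, ∀ b ∈ A, a * b = b * a) (hLA : L ≤ A)
    (hL : ¬ ∃ a ∈ A, L ⊔ zpowers a = A) :
    ∃ r : ℕ, r.Prime ∧ ∃ a ∈ A, ∃ b ∈ A, a ^ r ∈ L ∧ b ^ r ∈ L ∧ a ∉ L ∧ ∀ i : ℕ, a ^ i * b ∉ L := by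
  let _ : CommGroup A :=
    { (inferInstance : Group ↥A) with
      mul_comm := fun a b => Subtype.ext (hAab a a.2 b b.2) }
  have hnc : ¬ IsCyclic (↥A ⧸ L.subgroupOf A) := by
    intro hc
    obtain ⟨g, hg⟩ := hc.exists_generator
    obtain ⟨a, rfl⟩ := QuotientGroup.mk_surjective g
    apply hL
    refine ⟨a, a.2, le_antisymm (sup_le hLA (zpowers_le.mpr a.2)) ?_⟩
    intro x hx
    obtain ⟨k, hk⟩ := Subgroup.mem_zpowers_iff.mp (hg ((⟨x, hx⟩ : A) : ↥A ⧸ L.subgroupOf A))
    have h1 : ((a ^ k : A) : ↥A ⧸ L.subgroupOf A) = ((⟨x, hx⟩ : A) : ↥A ⧸ L.subgroupOf A) := hk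
    have h2 := QuotientGroup.eq.mp h1
    rw [Subgroup.mem_subgroupOf] at h2
    have h3 : x = (a : X) ^ k * (((a ^ k)⁻¹ * ⟨x, hx⟩ : A) : X) := by simp
    rw [h3]
    exact Subgroup.mul_mem _ (Subgroup.mem_sup_right (Subgroup.zpow_mem _ (Subgroup.mem_zpowers _) k))
      (Subgroup.mem_sup_left h2)
  obtain ⟨r, hr, u, v, hur, hvr, hu1, huv⟩ := exists_prime_pow_of_not_isCyclic hnc
  obtain ⟨a, rfl⟩ := QuotientGroup.mk_surjective u
  obtain ⟨b, rfl⟩ := QuotientGroup.mk_surjective v
  refine ⟨r, hr, a, a.2, b, b.2, ?_, ?_, ?_, ?_⟩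
  · have h1 : ((a ^ r : A) : ↥A ⧸ L.subgroupOf A) = 1 := hur
    have h2 := (QuotientGroup.eq_one_iff _).mp h1
    rw [Subgroup.mem_subgroupOf] at h2
    simpa using h2
  · have h1 : ((b ^ r : A) : ↥A ⧸ L.subgroupOf A) = 1 := hvr
    have h2 := (QuotientGroup.eq_one_iff _).mp h1
    rw [Subgroup.mem_subgroupOf] at h2
    simpa using h2
  · intro h
    apply hu1
    exact (QuotientGroup.eq_one_iff _).mpr (Subgroup.mem_subgroupOf.mpr h)
  · intro i h
    apply huv i
    have h1 : ((a ^ i * b : A) : ↥A ⧸ L.subgroupOf A) = 1 :=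
      (QuotientGroup.eq_one_iff _).mpr (Subgroup.mem_subgroupOf.mpr (by simpa using h))
    exact h1

/-- **Coprime generation by centralisers of subgroups with cyclic quotient.** -/
theorem coprime_gen_cyclic_quotient [Finite X] {A K : Subgroup X}
    (hAab : ∀ a ∈ A, ∀ b ∈ A, a * b = b * a) (hAK : A ≤ normalizer (K : Set X))
    (hcop : (Nat.card A).Coprime (Nat.card K)) :
    K = ⨆ B ∈ {B : Subgroup X | B ≤ A ∧ ∃ a ∈ A, B ⊔ zpowers a = A},
      K ⊓ centralizer (B : Set X) :=
  coprime_gen hAab hAK hcop _ (fun _ hB => hB.1)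
    (fun _ hLA hL => exists_prime_elts_of_not_cyclic_quotient hAab hLA (fun h => hL ⟨hLA, h⟩))

/-- **Coprime generation by centralisers of non-identity elements** of a non-cyclic abelian
group. -/
theorem coprime_gen_nonidentity [Finite X] {A K : Subgroup X}
    (hAab : ∀ a ∈ A, ∀ b ∈ A, a * b = b * a) (hA : ¬ ∃ a ∈ A, zpowers a = A)
    (hAK : A ≤ normalizer (K : Set X)) (hcop : (Nat.card A).Coprime (Nat.card K)) :
    K = ⨆ B ∈ {B : Subgroup X | B ≤ A ∧ B ≠ ⊥}, K ⊓ centralizer (B : Set X) :=
  coprime_gen hAab hAK hcop _ (fun _ hB => hB.1)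
    (fun L hLA hL => by
      have hL0 : L = ⊥ := by
        by_contra h
        exact hL ⟨hLA, h⟩
      subst hL0
      exact exists_prime_elts_of_not_cyclic_quotient hAab bot_le
        (fun ⟨a, ha, h⟩ => hA ⟨a, ha, by rwa [bot_sup_eq] at h⟩))

end quotient

end Cfsg.Agent.Helper35
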