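/-
Helper library of seat helper35: Hall subgroups and coprime action on solvable groups.
Everything lives in the namespace `Cfsg.Agent.Helper35`.
-/
import Cfsg.Agent.Helper35.CoprimeAbelian
import Cfsg.Agent.Helper1.Hall
import Cfsg.Prelude.Def_OddOrderLocal

set_option autoImplicit false

namespace Cfsg.Agent.Helper35

open Subgroup MulAction
open scoped Pointwise commutatorElement

universe u

/-- The `π`-part and the `π'`-part of a positive natural number. -/
theorem exists_pi_factorization (π : Set ℕ) (N : ℕ) (hN : N ≠ 0) :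
    ∃ m n : ℕ, N = m * n ∧ m.Coprime n ∧ (∀ p : ℕ, p.Prime → p ∣ m → p ∈ π) ∧
      ∀ p : ℕ, p.Prime → p ∈ π → ¬ p ∣ n := by
  classical
  induction N using Nat.recOnPrimeCoprime with
  | zero => exact absurd rfl hN
  | prime_pow p k hp =>
    by_cases hpπ : p ∈ π
    · refine ⟨p ^ k, 1, (mul_one _).symm, Nat.coprime_one_right _, ?_, ?_⟩
      · intro q hq hqd
        have := (Nat.prime_dvd_prime_iff_eq hq hp).mp (hq.dvd_of_dvd_pow hqd)
        rw [this]; exact hpπ
      · intro q hq _ hqd
        exact hq.one_lt.ne' (Nat.dvd_one.mp hqd)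
    · refine ⟨1, p ^ k, (one_mul _).symm, Nat.coprime_one_left _, ?_, ?_⟩
      · intro q hq hqd
        exact absurd (Nat.dvd_one.mp hqd) hq.one_lt.ne'
      · intro q hq hqπ hqd
        have := (Nat.prime_dvd_prime_iff_eq hq hp).mp (hq.dvd_of_dvd_pow hqd)
        rw [this] at hqπ; exact hpπ hqπ
  | coprime a b ha hb hab iha ihb =>
    obtain ⟨m₁, n₁, h1, hc1, hm1, hn1⟩ := iha (by omega)
    obtain ⟨m₂, n₂, h2, hc2, hm2, hn2⟩ := ihb (by omega)
    refine ⟨m₁ * m₂, n₁ * n₂, by rw [h1, h2]; ring, ?_, ?_, ?_⟩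
    · have e1 : m₁.Coprime n₂ :=
        Nat.Coprime.coprime_dvd_left (Dvd.intro _ h1.symm)
          (Nat.Coprime.coprime_dvd_right (Dvd.intro_left _ h2.symm) hab)
      have e2 : m₂.Coprime n₁ :=
        Nat.Coprime.coprime_dvd_left (Dvd.intro _ h2.symm)
          (Nat.Coprime.coprime_dvd_right (Dvd.intro_left _ h1.symm) hab.symm)
      exact Nat.Coprime.mul_left (Nat.Coprime.mul_right hc1 e1) (Nat.Coprime.mul_right e2 hc2)
    · intro q hq hqd
      rcases (Nat.Prime.dvd_mul hq).mp hqd with h | h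
      · exact hm1 q hq h
      · exact hm2 q hq h
    · intro q hq hqπ hqd
      rcases (Nat.Prime.dvd_mul hq).mp hqd with h | h
      · exact hn1 q hq hqπ h
      · exact hn2 q hq hqπ h

section hall

variable {X : Type u} [Group X]

theorem card_mul_relIndex_of_le {H G : Subgroup X} (hle : H ≤ G) :
    Nat.card H * H.relIndex G = Nat.card G := by
  have := Subgroup.relIndex_mul_relIndex ⊥ H G bot_le hle
  rwa [Subgroup.relIndex_bot_left, Subgroup.relIndex_bot_left] at this

/-- A Hall `π`-subgroup of `G` (in the sense of the Prelude) is a subgroup of `G` whose order is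
the `π`-part of the order of `G`. -/
theorem isPiHallOf_iff_card [Finite X] {π : Set ℕ} {G : Subgroup X} {m n : ℕ}
    (hG : Nat.card G = m * n) (hm : ∀ p : ℕ, p.Prime → p ∣ m → p ∈ π)
    (hn : ∀ p : ℕ, p.Prime → p ∈ π → ¬ p ∣ n) (H : Subgroup X) :
    Cfsg.IsPiHallOf π H G ↔ H ≤ G ∧ Nat.card H = m := by
  have hmpos : 0 < m := by
    rcases Nat.eq_zero_or_pos m with h | h
    · rw [h, zero_mul] at hG; exact absurd hG Nat.card_pos.ne'
    · exact h
  constructor
  · rintro ⟨hle, h1, h2⟩
    refine ⟨hle, ?_⟩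
    have hrel := card_mul_relIndex_of_le hle
    have hcop : (Nat.card H).Coprime n := by
      apply Nat.coprime_of_dvd
      intro p hp hpH hpn
      exact hn p hp (h1 p hp hpH) hpn
    have hdvd : Nat.card H ∣ m := by
      apply hcop.dvd_of_dvd_mul_right
      rw [← hG]; exact Subgroup.card_dvd_of_le hle
    obtain ⟨c, hc⟩ := hdvd
    have hrel2 : H.relIndex G = c * n := by
      have : Nat.card H * H.relIndex G = Nat.card H * (c * n) := by
        rw [hrel, hG, hc]; ring
      exact Nat.eq_of_mul_eq_mul_left Nat.card_pos this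
    by_cases hc1 : c = 1
    · rw [hc, hc1, mul_one]
    · exfalso
      obtain ⟨p, hp, hpc⟩ := Nat.exists_prime_and_dvd hc1
      apply h2 p hp (hm p hp (hc ▸ Dvd.dvd.mul_left hpc _))
      rw [hrel2]; exact Dvd.dvd.mul_right hpc _
  · rintro ⟨hle, hcard⟩
    have hrel := card_mul_relIndex_of_le hle
    refine ⟨hle, fun p hp hpd => hm p hp (hcard ▸ hpd), fun p hp hpπ hpd => ?_⟩
    have : H.relIndex G = n := by
      rw [hcard, hG] at hrel
      exact Nat.eq_of_mul_eq_mul_left hmpos hrel
    rw [this] at hpd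
    exact hn p hp hpπ hpd

/-- If `H` normalises `N` and `N ⊓ H = ⊥` then `|N H| = |N| |H|`. -/
theorem card_sup_of_le_normalizer {N H : Subgroup X} (hHN : H ≤ normalizer (N : Set X))
    (h : N ⊓ H = ⊥) : Nat.card (N ⊔ H : Subgroup X) = Nat.card N * Nat.card H := by
  have hNL : N ≤ N ⊔ H := le_sup_left
  have hHL : H ≤ N ⊔ H := le_sup_right
  have hnorm : N ⊔ H ≤ normalizer (N : Set X) := sup_le le_normalizer hHN
  have hc : (N.subgroupOf (N ⊔ H)).IsComplement' (H.subgroupOf (N ⊔ H)) :=
    isComplement'_subgroupOf hNL hnorm hHL h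
      (fun l hl => exists_mul_of_mem_sup_of_le_normalizer hHN hl)
  have := hc.card_mul_card
  rw [card_subgroupOf_of_le hNL, card_subgroupOf_of_le hHL] at this
  exact this.symm

end hall

/-- **Hall containment relative to a solvable normal subgroup**: if `G` is a solvable normal
subgroup of `Γ`, `B` is a Hall subgroup of `Γ` with `Γ = G B`, and the order of `B₁` divides the
order of `B`, then `B₁` lies in a conjugate of `B`. -/
theorem hall_sub_conj_aux (k : ℕ) : ∀ (Γ : Type u) [Group Γ] [Finite Γ] (G : Subgroup Γ)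
    [G.Normal], Nat.card Γ ≤ k → Group.IsSolvable G → ∀ B B₁ : Subgroup Γ, G ⊔ B = ⊤ →
    (Nat.card B).Coprime B.index → Nat.card B₁ ∣ Nat.card B →
    ∃ g : Γ, B₁ ≤ MulAut.conj g • B := by
  induction k with
  | zero =>
    intro Γ _ _ G _ hk
    have : 0 < Nat.card Γ := Nat.card_pos
    omega
  | succ k ih =>
    intro Γ _ _ G _ hk hsolv B B₁ hGB hcop hdvd
    by_cases hG : G = ⊥
    · refine ⟨1, ?_⟩
      rw [hG, bot_sup_eq] at hGB
      rw [hGB]
      intro x _
      rw [mem_conj_smul]
      exact Subgroup.mem_top _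
    · have := hsolv
      obtain ⟨R, hRn, hRG, hR0, hRmin⟩ := Cfsg.Agent.Helper1.exists_minNormal G hG
      have hRsolv : Group.IsSolvable R := isSolvable_of_le hRG hsolv
      obtain ⟨hRc, p, hp, hRp⟩ := Cfsg.Agent.Helper1.minNormal_elemAbelian R hR0 hRmin
      have : Fact p.Prime := ⟨hp⟩
      have hpg : IsPGroup p R := fun x => ⟨1, by
        rw [pow_one]; exact Subtype.ext (by simpa using hRp x x.2)⟩
      obtain ⟨j, hj⟩ := IsPGroup.iff_card.mp hpg
      -- the quotient step
      have hφs : Function.Surjective (QuotientGroup.mk' R) := QuotientGroup.mk'_surjective R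
      have hcardq : Nat.card (Γ ⧸ R) ≤ k := by
        have h1 : Nat.card (Γ ⧸ R) * Nat.card R = Nat.card Γ := by
          rw [← Subgroup.index_eq_card, mul_comm]; exact Subgroup.card_mul_index R
        have h2 : 1 < Nat.card R := (Subgroup.one_lt_card_iff_ne_bot R).mpr hR0
        have h3 : 0 < Nat.card (Γ ⧸ R) := Nat.card_pos
        nlinarith
      have hGn : (G.map (QuotientGroup.mk' R)).Normal :=
        Subgroup.Normal.map inferInstance _ hφs
      have hsolvq : Group.IsSolvable (G.map (QuotientGroup.mk' R)) :=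
        Group.isSolvable_of_surjective (f := (QuotientGroup.mk' R).subgroupMap G)
          ((QuotientGroup.mk' R).subgroupMap_surjective G)
      have hsupq : G.map (QuotientGroup.mk' R) ⊔ B.map (QuotientGroup.mk' R) = ⊤ := by
        rw [← Subgroup.map_sup, hGB, Subgroup.map_top_of_surjective _ hφs]
      have hcopq : (Nat.card (B.map (QuotientGroup.mk' R))).Coprime
          (B.map (QuotientGroup.mk' R)).index :=
        Nat.Coprime.coprime_dvd_left (Subgroup.card_map_dvd B _)
          (Nat.Coprime.coprime_dvd_right (Subgroup.index_map_dvd B hφs) hcop)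
      have hdvdq : Nat.card (B₁.map (QuotientGroup.mk' R)) ∣
          Nat.card (B.map (QuotientGroup.mk' R)) := by
        have h1 : Nat.card (B₁.map (QuotientGroup.mk' R)) ∣ Nat.card B :=
          (Subgroup.card_map_dvd B₁ _).trans hdvd
        have h2 : (Nat.card (B₁.map (QuotientGroup.mk' R))).Coprime
            (B.map (QuotientGroup.mk' R)).index :=
          Nat.Coprime.coprime_dvd_left h1
            (Nat.Coprime.coprime_dvd_right (Subgroup.index_map_dvd B hφs) hcop)
        apply h2.dvd_of_dvd_mul_right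
        rw [Subgroup.card_mul_index]
        exact Subgroup.card_subgroup_dvd_card _
      obtain ⟨g', hg'⟩ := ih (Γ ⧸ R) (G.map (QuotientGroup.mk' R)) hcardq hsolvq
        (B.map (QuotientGroup.mk' R)) (B₁.map (QuotientGroup.mk' R)) hsupq hcopq hdvdq
      obtain ⟨g, rfl⟩ := hφs g'
      rw [← map_conj_smul] at hg'
      have hcardB' : Nat.card (MulAut.conj g • B : Subgroup Γ) = Nat.card B := card_conj_smul g B
      have hB₁ : B₁ ≤ R ⊔ MulAut.conj g • B := by
        intro b hb
        obtain ⟨b', hb', hbb'⟩ := hg' (Subgroup.mem_map_of_mem _ hb)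
        have h2 : b'⁻¹ * b ∈ R := QuotientGroup.eq.mp hbb'
        have h3 : b = b' * (b'⁻¹ * b) := by group
        rw [h3]
        exact Subgroup.mul_mem _ (Subgroup.mem_sup_right hb') (Subgroup.mem_sup_left h2)
      by_cases hpB : p ∣ Nat.card (MulAut.conj g • B : Subgroup Γ)
      · -- then `R ≤ B^g`
        have hRB' : R ≤ MulAut.conj g • B := by
          have h1 : (MulAut.conj g • B).relIndex (MulAut.conj g • B ⊔ R) ∣
              (MulAut.conj g • B).index := Subgroup.relIndex_dvd_index_of_le le_sup_left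
          have e1 := card_mul_relIndex_of_le (le_sup_left : MulAut.conj g • B ≤ MulAut.conj g • B ⊔ R)
          have e2 := card_mul_relIndex_of_le (le_sup_right : R ≤ MulAut.conj g • B ⊔ R)
          rw [Subgroup.relIndex_sup_right] at e2
          have e3 := card_mul_relIndex_of_le (inf_le_right : R ⊓ MulAut.conj g • B ≤ MulAut.conj g • B)
          rw [Subgroup.inf_relIndex_right] at e3
          have hpos : 0 < R.relIndex (MulAut.conj g • B) :=
            Nat.pos_of_ne_zero (fun h0 => by
              rw [h0, mul_zero] at e3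
              exact Nat.card_pos.ne' e3.symm)
          have h2 : (MulAut.conj g • B).relIndex (MulAut.conj g • B ⊔ R) ∣ Nat.card R := by
            refine ⟨Nat.card (R ⊓ MulAut.conj g • B : Subgroup Γ), ?_⟩
            apply Nat.eq_of_mul_eq_mul_right hpos
            apply Nat.eq_of_mul_eq_mul_left (Nat.card_pos (α := (MulAut.conj g • B : Subgroup Γ)))
            calc Nat.card (MulAut.conj g • B : Subgroup Γ) * (Nat.card R * R.relIndex (MulAut.conj g • B))
                = Nat.card (MulAut.conj g • B : Subgroup Γ) * Nat.card (MulAut.conj g • B ⊔ R : Subgroup Γ) := by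
                  rw [e2]
              _ = Nat.card (MulAut.conj g • B : Subgroup Γ) *
                  (Nat.card (MulAut.conj g • B : Subgroup Γ) *
                    (MulAut.conj g • B).relIndex (MulAut.conj g • B ⊔ R)) := by rw [e1]
              _ = Nat.card (MulAut.conj g • B : Subgroup Γ) *
                  ((MulAut.conj g • B).relIndex (MulAut.conj g • B ⊔ R) *
                    Nat.card (R ⊓ MulAut.conj g • B : Subgroup Γ) * R.relIndex (MulAut.conj g • B)) := by
                  rw [← e3]; ring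
          have hidx : (MulAut.conj g • B).index = B.index := by
            have a1 := Subgroup.card_mul_index (MulAut.conj g • B)
            have a2 := Subgroup.card_mul_index B
            rw [hcardB', ← a2] at a1
            exact Nat.eq_of_mul_eq_mul_left Nat.card_pos a1
          have hpidx : p.Coprime B.index := by
            rw [hcardB'] at hpB
            exact Nat.Coprime.coprime_dvd_left hpB hcop
          have h3 : (MulAut.conj g • B).relIndex (MulAut.conj g • B ⊔ R) = 1 := by
            apply Nat.eq_one_of_dvd_coprimes (a := Nat.card R) (b := B.index) ?_ h2 (hidx ▸ h1)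
            rw [hj]; exact Nat.Coprime.pow_left j hpidx
          exact le_sup_right.trans (Subgroup.relIndex_eq_one.mp h3)
        exact ⟨g, hB₁.trans (sup_le hRB' le_rfl)⟩
      · -- now `R ⊓ B^g = ⊥` and Schur–Zassenhaus applies in `B₁ R`
        have hcopR : (Nat.card (MulAut.conj g • B : Subgroup Γ)).Coprime (Nat.card R) := by
          rw [hj]
          exact Nat.Coprime.pow_right j ((Nat.Prime.coprime_iff_not_dvd hp).mpr hpB).symm
        have hRL : R ≤ B₁ ⊔ R := le_sup_right
        have hB₁L : B₁ ≤ B₁ ⊔ R := le_sup_left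
        have hnorm : ∀ S : Subgroup Γ, S ≤ normalizer (R : Set Γ) := fun S => by
          rw [normalizer_eq_top_iff.mpr hRn]; exact le_top
        have hcop₂ : (Nat.card ((B₁ ⊔ R) ⊓ MulAut.conj g • B : Subgroup Γ)).Coprime (Nat.card R) :=
          Nat.Coprime.coprime_dvd_left (Subgroup.card_dvd_of_le inf_le_right) hcopR
        have hcop₁ : (Nat.card B₁).Coprime (Nat.card R) :=
          Nat.Coprime.coprime_dvd_left (hcardB'.symm ▸ hdvd) hcopR
        have hdec : ∀ l ∈ B₁ ⊔ R, ∃ r ∈ R, ∃ b ∈ (B₁ ⊔ R) ⊓ MulAut.conj g • B, l = r * b := by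
          intro l hl
          have hl' : l ∈ R ⊔ MulAut.conj g • B := (sup_le hB₁ le_sup_left) hl
          obtain ⟨r, hr, b, hb, rfl⟩ := exists_mul_of_mem_sup_normal hl'
          refine ⟨r, hr, b, ⟨?_, hb⟩, rfl⟩
          have := (B₁ ⊔ R).mul_mem ((B₁ ⊔ R).inv_mem (hRL hr)) hl
          simpa using this
        have hLsup : R ⊔ (B₁ ⊔ R) ⊓ MulAut.conj g • B = B₁ ⊔ R := by
          apply le_antisymm (sup_le hRL inf_le_left)
          intro l hl
          obtain ⟨r, hr, b, hb, rfl⟩ := hdec l hl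
          exact Subgroup.mul_mem _ (Subgroup.mem_sup_left hr) (Subgroup.mem_sup_right hb)
        have hinf₁ : R ⊓ B₁ = ⊥ :=
          disjoint_iff.mp (Subgroup.disjoint_of_coprime_natCard hcop₁.symm)
        have hinf₂ : R ⊓ ((B₁ ⊔ R) ⊓ MulAut.conj g • B) = ⊥ :=
          disjoint_iff.mp (Subgroup.disjoint_of_coprime_natCard hcop₂.symm)
        have hc1 := card_sup_of_le_normalizer (hnorm B₁) hinf₁
        have hc2 := card_sup_of_le_normalizer (hnorm _) hinf₂
        rw [hLsup] at hc2
        rw [sup_comm] at hc1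
        have hcardeq : Nat.card B₁ = Nat.card ((B₁ ⊔ R) ⊓ MulAut.conj g • B : Subgroup Γ) := by
          have : Nat.card R * Nat.card B₁ =
              Nat.card R * Nat.card ((B₁ ⊔ R) ⊓ MulAut.conj g • B : Subgroup Γ) := by
            rw [← hc1, ← hc2]
          exact Nat.eq_of_mul_eq_mul_left Nat.card_pos this
        obtain ⟨n, hn, hconj⟩ := isz (hnorm ((B₁ ⊔ R) ⊓ MulAut.conj g • B)) hcop₂
          (Or.inr hRsolv) (by rw [hLsup]; exact hB₁L) hcardeq
        refine ⟨n * g, ?_⟩
        rw [← conj_smul_conj_smul, ← hconj]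
        exact conj_smul_le_conj_smul inf_le_right

/-- **Coprime action on a solvable group, Hall subgroups**: let `A` act coprimely on the solvable
group `G`, let `H ≤ G` be an `A`-invariant Hall subgroup of `G` and `U ≤ G` an `A`-invariant
subgroup whose order divides the order of `H`.  Then `U` lies in an `A`-invariant `G`-conjugate
of `H`. -/
theorem exists_conj_invariant_hall_ge {X : Type u} [Group X] [Finite X] {A G H U : Subgroup X}
    (hAG : A ≤ normalizer (G : Set X)) (hcop : (Nat.card A).Coprime (Nat.card G))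
    (hsolv : Group.IsSolvable G) (hHG : H ≤ G) (hHcop : (Nat.card H).Coprime (H.relIndex G))
    (hAH : A ≤ normalizer (H : Set X)) (hUG : U ≤ G) (hAU : A ≤ normalizer (U : Set X))
    (hdvd : Nat.card U ∣ Nat.card H) :
    ∃ g ∈ G, U ≤ MulAut.conj g • H ∧ A ≤ normalizer ((MulAut.conj g • H : Subgroup X) : Set X) := by
  have hGA : G ⊓ A = ⊥ := disjoint_iff.mp (Subgroup.disjoint_of_coprime_natCard hcop.symm)
  have hHA : H ⊓ A = ⊥ := by
    rw [eq_bot_iff, ← hGA]; exact inf_le_inf_right A hHG
  have hUA : U ⊓ A = ⊥ := by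
    rw [eq_bot_iff, ← hGA]; exact inf_le_inf_right A hUG
  have hGT : G ≤ G ⊔ A := le_sup_left
  have hAT : A ≤ G ⊔ A := le_sup_right
  have hHAT : H ⊔ A ≤ G ⊔ A := sup_le_sup_right hHG A
  have hUAT : U ⊔ A ≤ G ⊔ A := sup_le_sup_right hUG A
  have hnorm : G ⊔ A ≤ normalizer (G : Set X) := sup_le le_normalizer hAG
  have hGn : (G.subgroupOf (G ⊔ A)).Normal := Subgroup.normal_subgroupOf_of_le_normalizer hnorm
  have hsolv' : Group.IsSolvable (G.subgroupOf (G ⊔ A)) := isSolvable_subgroupOf_of_le hGT hsolv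
  have hcardT : Nat.card (G ⊔ A : Subgroup X) = Nat.card G * Nat.card A :=
    card_sup_of_le_normalizer hAG hGA
  have hcardB : Nat.card ((H ⊔ A).subgroupOf (G ⊔ A)) = Nat.card H * Nat.card A := by
    rw [card_subgroupOf_of_le hHAT, card_sup_of_le_normalizer hAH hHA]
  have hcardB₁ : Nat.card ((U ⊔ A).subgroupOf (G ⊔ A)) = Nat.card U * Nat.card A := by
    rw [card_subgroupOf_of_le hUAT, card_sup_of_le_normalizer hAU hUA]
  have hsup : G.subgroupOf (G ⊔ A) ⊔ (H ⊔ A).subgroupOf (G ⊔ A) = ⊤ := by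
    rw [eq_top_iff]
    rintro ⟨t, ht⟩ -
    obtain ⟨g, hg, a, ha, rfl⟩ := exists_mul_of_mem_sup_of_le_normalizer hAG ht
    have h1 : (⟨g, hGT hg⟩ : (G ⊔ A : Subgroup X)) ∈ G.subgroupOf (G ⊔ A) := hg
    have h2 : (⟨a, hAT ha⟩ : (G ⊔ A : Subgroup X)) ∈ (H ⊔ A).subgroupOf (G ⊔ A) :=
      Subgroup.mem_sup_right (S := H) ha
    exact Subgroup.mul_mem _ (Subgroup.mem_sup_left h1) (Subgroup.mem_sup_right h2)
  have hidx : ((H ⊔ A).subgroupOf (G ⊔ A)).index = H.relIndex G := by
    have a1 := Subgroup.card_mul_index ((H ⊔ A).subgroupOf (G ⊔ A))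
    rw [hcardB, hcardT, ← card_mul_relIndex_of_le hHG] at a1
    have a2 : Nat.card H * Nat.card A * ((H ⊔ A).subgroupOf (G ⊔ A)).index =
        Nat.card H * Nat.card A * H.relIndex G := by rw [a1]; ring
    exact Nat.eq_of_mul_eq_mul_left (Nat.mul_pos Nat.card_pos Nat.card_pos) a2
  have hcopB : (Nat.card ((H ⊔ A).subgroupOf (G ⊔ A))).Coprime
      ((H ⊔ A).subgroupOf (G ⊔ A)).index := by
    rw [hcardB, hidx]
    exact Nat.Coprime.mul_left hHcop
      (Nat.Coprime.coprime_dvd_right (Subgroup.relIndex_dvd_card H G) hcop)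
  have hdvdB : Nat.card ((U ⊔ A).subgroupOf (G ⊔ A)) ∣ Nat.card ((H ⊔ A).subgroupOf (G ⊔ A)) := by
    rw [hcardB, hcardB₁]; exact Nat.mul_dvd_mul_right hdvd _
  obtain ⟨t, ht⟩ := hall_sub_conj_aux (Nat.card (G ⊔ A : Subgroup X)) (G ⊔ A : Subgroup X)
    (G.subgroupOf (G ⊔ A)) le_rfl hsolv' _ _ hsup hcopB hdvdB
  -- back to `X`
  have ht' : U ⊔ A ≤ MulAut.conj (t : X) • (H ⊔ A) := by
    intro x hx
    have h1 : (⟨x, hUAT hx⟩ : (G ⊔ A : Subgroup X)) ∈ (U ⊔ A).subgroupOf (G ⊔ A) := hx
    have h2 := ht h1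
    rw [mem_conj_smul] at h2 ⊢
    exact h2
  obtain ⟨g, hg, a, ha, hta⟩ := exists_mul_of_mem_sup_of_le_normalizer hAG t.2
  rw [hta, ← conj_smul_conj_smul, conj_smul_eq_self_of_mem (Subgroup.mem_sup_right ha)] at ht'
  have hHAnorm : H ⊔ A ≤ normalizer (H : Set X) := sup_le le_normalizer hAH
  refine ⟨g, hg, ?_, ?_⟩
  · intro u hu
    have h1 := ht' (Subgroup.mem_sup_left hu)
    rw [mem_conj_smul] at h1 ⊢
    obtain ⟨h, hh, b, hb, hhb⟩ := exists_mul_of_mem_sup_of_le_normalizer hAH h1
    have h2 : b ∈ G ⊓ A := by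
      refine ⟨?_, hb⟩
      have h3 : b = h⁻¹ * (g⁻¹ * u * g) := by rw [hhb]; group
      rw [h3]
      exact G.mul_mem (G.inv_mem (hHG hh)) (G.mul_mem (G.mul_mem (G.inv_mem hg) (hUG hu)) hg)
    rw [hGA, Subgroup.mem_bot] at h2
    rw [hhb, h2, mul_one]
    exact hh
  · intro a' ha'
    have h1 := ht' (Subgroup.mem_sup_right ha')
    rw [mem_conj_smul] at h1
    have h2 := hHAnorm h1
    rw [mem_normalizer_iff_conj_smul_eq] at h2 ⊢
    have h3 : a' * g = g * (g⁻¹ * a' * g) := by group
    rw [conj_smul_conj_smul, h3, ← conj_smul_conj_smul, h2]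

end Cfsg.Agent.Helper35
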