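/-
Helper library of seat helper35: coprime action on abelian sections.
Everything lives in the namespace `Cfsg.Agent.Helper35`.
-/
import Cfsg.Agent.Helper35.CoprimeAbelian

set_option autoImplicit false

namespace Cfsg.Agent.Helper35

open Subgroup
open scoped Pointwise commutatorElement

universe u

section quot

variable {G : Type u} [Group G]

/-- **Coprime action on an abelian section**: if `K / N` is abelian, `A` normalises `K` and `N`,
and the orders of `A` and `K` are coprime, then `(⁅K, A⁆ N) ∩ C_K(A) ≤ N`. -/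
theorem mem_of_mem_commutator_sup_of_mem_centralizer [Finite G] {A K N : Subgroup G}
    (hAK : A ≤ normalizer (K : Set G)) (hAN : A ≤ normalizer (N : Set G)) (hNK : N ≤ K)
    (hab : ⁅K, K⁆ ≤ N) (hcop : (Nat.card A).Coprime (Nat.card K)) {c : G}
    (hc : c ∈ ⁅K, A⁆ ⊔ N) (hcA : c ∈ centralizer (A : Set G)) : c ∈ N := by
  classical
  have hnorm : (N.subgroupOf K).Normal := by
    refine ⟨fun n hn g => ?_⟩
    rw [Subgroup.mem_subgroupOf] at hn ⊢
    have h1 : ((g * n * g⁻¹ : K) : G) = ⁅(g : G), (n : G)⁆ * (n : G) := by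
      rw [commutatorElement_def]
      simp [mul_assoc]
    rw [h1]
    exact N.mul_mem (hab (Subgroup.commutator_mem_commutator g.2 n.2)) hn
  let _ : CommGroup (K ⧸ N.subgroupOf K) :=
    { (inferInstance : Group (K ⧸ N.subgroupOf K)) with
      mul_comm := by
        intro x y
        obtain ⟨x, rfl⟩ := QuotientGroup.mk_surjective x
        obtain ⟨y, rfl⟩ := QuotientGroup.mk_surjective y
        rw [← QuotientGroup.mk_mul, ← QuotientGroup.mk_mul, QuotientGroup.eq,
          Subgroup.mem_subgroupOf]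
        have h1 : (((x * y)⁻¹ * (y * x) : K) : G) = ⁅(y : G)⁻¹, (x : G)⁻¹⁆ := by
          rw [commutatorElement_def]
          simp [mul_assoc]
        rw [h1]
        exact hab (Subgroup.commutator_mem_commutator (K.inv_mem y.2) (K.inv_mem x.2)) }
  let _ : Fintype A := Fintype.ofFinite A
  let ψ : K →* K ⧸ N.subgroupOf K := QuotientGroup.mk' (N.subgroupOf K)
  let φ : A → (K →* K) := fun a =>
    MonoidHom.mk' (fun x => ⟨(a : G) * x * (a : G)⁻¹,
      (Subgroup.mem_normalizer_iff.mp (hAK a.2) x).mp x.2⟩)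
      (fun x y => Subtype.ext (by simp [mul_assoc]))
  have hφ : ∀ (a : A) (x : K), ((φ a x : K) : G) = (a : G) * x * (a : G)⁻¹ := fun a x => rfl
  let ν : K →* K ⧸ N.subgroupOf K := ∏ a : A, ψ.comp (φ a)
  have hν : ∀ x : K, ν x = ∏ a : A, ψ (φ a x) := fun x => by
    show (∏ a : A, ψ.comp (φ a)) x = _
    rw [MonoidHom.finsetProd_apply]
    rfl
  have hνφ : ∀ (b : A) (x : K), ν (φ b x) = ν x := by
    intro b x
    rw [hν, hν]
    refine Fintype.prod_equiv (Equiv.mulRight b) _ _ ?_
    intro a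
    congr 1
    apply Subtype.ext
    rw [hφ, hφ, hφ]
    simp [mul_assoc]
  have hker : (⁅K, A⁆ ⊔ N : Subgroup G) ≤ (ν.ker).map K.subtype := by
    apply sup_le
    · rw [Subgroup.commutator_le]
      intro k hk a ha
      refine ⟨(⟨k, hk⟩ : K) * φ ⟨a, ha⟩ (⟨k, hk⟩ : K)⁻¹, ?_, ?_⟩
      · rw [SetLike.mem_coe, MonoidHom.mem_ker, map_mul, hνφ, map_inv, mul_inv_cancel]
      · rw [commutatorElement_def]
        simp [hφ, mul_assoc]
    · intro n hn
      refine ⟨⟨n, hNK hn⟩, ?_, rfl⟩
      rw [SetLike.mem_coe, MonoidHom.mem_ker, hν]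
      apply Finset.prod_eq_one
      intro a _
      show QuotientGroup.mk' (N.subgroupOf K) (φ a ⟨n, hNK hn⟩) = 1
      rw [QuotientGroup.mk'_apply, QuotientGroup.eq_one_iff, Subgroup.mem_subgroupOf, hφ]
      exact (Subgroup.mem_normalizer_iff.mp (hAN a.2) n).mp hn
  obtain ⟨y, hy1, hy2⟩ := hker hc
  have hy3 : ν y = ψ y ^ Nat.card A := by
    rw [hν]
    have : ∀ a : A, φ a y = y := by
      intro a
      apply Subtype.ext
      rw [hφ]
      have hya : (a : G) * (y : G) = (y : G) * (a : G) := by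
        have := (Subgroup.mem_centralizer_iff.mp hcA) a a.2
        rw [← hy2] at this
        exact this
      rw [hya]; simp
    rw [Finset.prod_congr rfl (fun a _ => by rw [this a]), Finset.prod_const, Finset.card_univ,
      Nat.card_eq_fintype_card]
  have hy4 : ψ y ^ Nat.card A = 1 := by rw [← hy3]; exact hy1
  have hy5 : ψ y ^ Nat.card K = 1 := by
    rw [← map_pow, pow_card_eq_one', map_one]
  have h1 : orderOf (ψ y) ∣ Nat.card A := orderOf_dvd_of_pow_eq_one hy4
  have h2 : orderOf (ψ y) ∣ Nat.card K := orderOf_dvd_of_pow_eq_one hy5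
  have h3 : orderOf (ψ y) = 1 := Nat.eq_one_of_dvd_coprimes hcop h1 h2
  rw [orderOf_eq_one_iff] at h3
  have h4 : y ∈ N.subgroupOf K := (QuotientGroup.eq_one_iff y).mp h3
  rw [Subgroup.mem_subgroupOf] at h4
  rw [← hy2]
  exact h4

end quot

end Cfsg.Agent.Helper35
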