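import Mathlib
import Cfsg.Agent.Helper35.FFBridge
import Cfsg.Agent.Helper11.ZJ
import Cfsg.Agent.Helper10.PCore
import Cfsg.Agent.Helper10.Thompson
import Cfsg.Agent.Helper32.HallHigman
import Cfsg.Agent.S0606
import Cfsg.Agent.S0617

set_option autoImplicit false

/-!
# Failure of Thompson factorization in `p`-solvable groups (helper35)

For `V := ⟨Ω₁(Z(S)) | S ∈ Syl_p(G)⟩` in a `p`-solvable group `G` with `O_{p'}(G) = 1`:
`V` is a normal elementary abelian subgroup, `O_p(G / C_G(V)) = 1`, and if `J(G) ≤ C_G(V)` then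
`G` is Thompson factorizable.  Combined with the bridge to the faithful setting
(`FFBridge.lean`) and the structure theorem `S0617` this gives Kurzweil–Stellmacher 9.3.
-/

namespace Cfsg.Agent.Helper35

open scoped Pointwise commutatorElement

section

variable {G : Type*} [Group G]

theorem fff_mem_smul_sylow {p : ℕ} (S : Sylow p G) (g y : G) :
    y ∈ ((g • S : Sylow p G) : Subgroup G) ↔ g⁻¹ * y * g ∈ (S : Subgroup G) := by
  rw [Sylow.coe_subgroup_smul, Subgroup.mem_pointwise_smul_iff_inv_smul_mem]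
  simp only [MulAut.smul_def, MulAut.inv_apply, MulAut.conj_symm_apply]

/-- The centralizer of a union of subgroups is the centralizer of their join. -/
theorem fff_centralizer_iSup {ι : Sort*} (W : ι → Subgroup G) :
    Subgroup.centralizer (⨆ i, (W i : Set G)) =
      Subgroup.centralizer ((⨆ i, W i : Subgroup G) : Set G) := by
  apply le_antisymm
  · intro x hx
    have hle : (⨆ i, W i) ≤ Subgroup.centralizer ({x} : Set G) := by
      apply iSup_le
      intro i w hw
      rw [Subgroup.mem_centralizer_iff]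
      intro z hz
      rw [Set.mem_singleton_iff] at hz
      subst hz
      exact (Subgroup.mem_centralizer_iff.mp hx w (Set.mem_iUnion.mpr ⟨i, hw⟩)).symm
    rw [Subgroup.mem_centralizer_iff]
    intro v hv
    exact (Subgroup.mem_centralizer_iff.mp (hle hv) x rfl).symm
  · apply Subgroup.centralizer_le
    rw [Set.iSup_eq_iUnion]
    apply Set.iUnion_subset
    intro i
    exact SetLike.coe_subset_coe.mpr (le_iSup W i)

theorem fff_omegaOne_le (p : ℕ) (H : Subgroup G) : Cfsg.omegaOne p H ≤ H := by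
  rw [Cfsg.omegaOne, Subgroup.closure_le]
  intro x hx
  exact hx.1

theorem fff_omegaOne_mono (p : ℕ) {H K : Subgroup G} (h : H ≤ K) :
    Cfsg.omegaOne p H ≤ Cfsg.omegaOne p K := by
  apply Subgroup.closure_mono
  intro x hx
  exact ⟨h hx.1, hx.2⟩

theorem fff_omegaOne_center_elemAb (p : ℕ) (O : Subgroup G) :
    Cfsg.IsElementaryAbelian p (Cfsg.omegaOne p (O ⊓ Subgroup.centralizer (O : Set G))) := by
  obtain ⟨U, hU⟩ : ∃ U : Subgroup G, (U : Set G) =
      {x : G | x ∈ O ⊓ Subgroup.centralizer (O : Set G) ∧ x ^ p = 1} := by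
    refine ⟨{ carrier := {x : G | x ∈ O ⊓ Subgroup.centralizer (O : Set G) ∧ x ^ p = 1}
              mul_mem' := ?_
              one_mem' := ⟨one_mem _, one_pow _⟩
              inv_mem' := ?_ }, rfl⟩
    · rintro a b ⟨ha, hap⟩ ⟨hb, hbp⟩
      refine ⟨mul_mem ha hb, ?_⟩
      have hc : Commute a b := (Subgroup.mem_centralizer_iff.mp hb.2 a ha.1)
      rw [hc.mul_pow, hap, hbp, one_mul]
    · rintro a ⟨ha, hap⟩
      exact ⟨inv_mem ha, by rw [inv_pow, hap, inv_one]⟩
  have hle : Cfsg.omegaOne p (O ⊓ Subgroup.centralizer (O : Set G)) ≤ U := by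
    unfold Cfsg.omegaOne
    rw [Subgroup.closure_le, hU]
  rw [Cfsg.Agent.Helper10.elemAb_iff]
  constructor
  · intro a ha b hb
    have ha' : a ∈ (U : Set G) := hle ha
    have hb' : b ∈ (U : Set G) := hle hb
    rw [hU] at ha' hb'
    exact Subgroup.mem_centralizer_iff.mp hb'.1.2 a ha'.1.1
  · intro a ha
    have ha' : a ∈ (U : Set G) := hle ha
    rw [hU] at ha'
    exact ha'.2

/-- `V = ⟨Ω₁(Z(S)) | S ∈ Syl_p(G)⟩` is normal. -/
theorem fff_V_normal (p : ℕ) :
    (⨆ S : Sylow p G, Cfsg.omegaOne p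
      ((S : Subgroup G) ⊓ Subgroup.centralizer ((S : Subgroup G) : Set G))).Normal := by
  constructor
  intro v hv g
  have h1 : (⨆ S : Sylow p G, Cfsg.omegaOne p
      ((S : Subgroup G) ⊓ Subgroup.centralizer ((S : Subgroup G) : Set G))).map
        (MulAut.conj g).toMonoidHom ≤
      ⨆ S : Sylow p G, Cfsg.omegaOne p
        ((S : Subgroup G) ⊓ Subgroup.centralizer ((S : Subgroup G) : Set G)) := by
    rw [Subgroup.map_iSup]
    apply iSup_le
    intro S
    refine le_iSup_of_le (g • S) ?_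
    unfold Cfsg.omegaOne
    rw [MonoidHom.map_closure]
    apply Subgroup.closure_mono
    rintro _ ⟨x, ⟨⟨hxS, hxC⟩, hxp⟩, rfl⟩
    refine ⟨⟨?_, ?_⟩, ?_⟩
    · refine (fff_mem_smul_sylow S g _).mpr ?_
      have : g⁻¹ * ((MulAut.conj g).toMonoidHom x) * g = x := by
        simp only [MulEquiv.toMonoidHom_eq_coe, MonoidHom.coe_coe, MulAut.conj_apply]
        group
      rw [this]
      exact hxS
    · refine Subgroup.mem_centralizer_iff.mpr ?_
      intro y hy
      have hy' : g⁻¹ * y * g ∈ (S : Subgroup G) := (fff_mem_smul_sylow S g y).mp hy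
      have h2 := Subgroup.mem_centralizer_iff.mp hxC _ hy'
      simp only [MulEquiv.toMonoidHom_eq_coe, MonoidHom.coe_coe, MulAut.conj_apply]
      calc y * (g * x * g⁻¹) = g * ((g⁻¹ * y * g) * x) * g⁻¹ := by group
        _ = g * (x * (g⁻¹ * y * g)) * g⁻¹ := by rw [h2]
        _ = g * x * g⁻¹ * y := by group
    · rw [← map_pow, hxp, map_one]
  have h2 := h1 ⟨v, hv, rfl⟩
  simpa using h2

variable [Finite G]

/-- `V = ⟨Ω₁(Z(S)) | S ∈ Syl_p(G)⟩` is elementary abelian in a `p`-solvable group with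
`O_{p'}(G) = 1`. -/
theorem fff_V_elemAb {p : ℕ} [Fact p.Prime] (hsep : Cfsg.IsPSolvable p G)
    (hO : Cfsg.pPrimeCore p G = ⊥) :
    Cfsg.IsElementaryAbelian p (⨆ S : Sylow p G, Cfsg.omegaOne p
      ((S : Subgroup G) ⊓ Subgroup.centralizer ((S : Subgroup G) : Set G))) := by
  apply Cfsg.Agent.Helper10.elemAb_of_le (fff_omegaOne_center_elemAb p (Cfsg.pCore p G))
  apply iSup_le
  intro S
  apply fff_omegaOne_mono p
  have hOS : Cfsg.pCore p G ≤ (S : Subgroup G) := Cfsg.Agent.Helper10.pCore_le_sylow S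
  have hC := Cfsg.Agent.Helper32.centralizer_pCore_le_of_isPSolvable hsep hO
  intro x hx
  have h1 : x ∈ Subgroup.centralizer (Cfsg.pCore p G : Set G) :=
    Subgroup.centralizer_le (SetLike.coe_subset_coe.mpr hOS) hx.2
  exact ⟨hC h1, h1⟩

/-- `O_p(G / C_G(V)) = 1`, in elementwise form. -/
theorem fff_hOp {p : ℕ} [Fact p.Prime] (V : Subgroup G) [V.Normal]
    (hVdef : V = ⨆ S : Sylow p G, Cfsg.omegaOne p
      ((S : Subgroup G) ⊓ Subgroup.centralizer ((S : Subgroup G) : Set G)))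
    (P : Subgroup G) (hPn : P.Normal)
    (hP : ∀ x ∈ P, ∃ k : ℕ, x ^ (p ^ k) ∈ Subgroup.centralizer (V : Set G)) :
    P ≤ Subgroup.centralizer (V : Set G) := by
  obtain ⟨C, hC⟩ : ∃ C : Subgroup G, C = Subgroup.centralizer (V : Set G) := ⟨_, rfl⟩
  have hCn : C.Normal := hC ▸ Subgroup.normal_centralizer
  have hπ : Function.Surjective (QuotientGroup.mk' C) := QuotientGroup.mk'_surjective C
  have hPp : IsPGroup p (P.map (QuotientGroup.mk' C)) := by
    rintro ⟨_, x, hx, rfl⟩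
    obtain ⟨k, hk⟩ := hP x hx
    refine ⟨k, Subtype.ext ?_⟩
    show (QuotientGroup.mk' C x) ^ (p ^ k) = 1
    rw [← map_pow]
    exact (QuotientGroup.eq_one_iff _).mpr (hC ▸ hk)
  have hPn' : (P.map (QuotientGroup.mk' C)).Normal := hPn.map _ hπ
  intro y hy
  have key : ∀ S : Sylow p G, y ∈ Subgroup.centralizer (Cfsg.omegaOne p
      ((S : Subgroup G) ⊓ Subgroup.centralizer ((S : Subgroup G) : Set G)) : Set G) := by
    intro S
    have h1 : P.map (QuotientGroup.mk' C) ≤ ((S.mapSurjective hπ : Sylow p (G ⧸ C)) : Subgroup (G ⧸ C)) :=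
      le_trans (Cfsg.Agent.Helper10.le_pCore _ hPn' hPp) (Cfsg.Agent.Helper10.pCore_le_sylow _)
    have h2 : QuotientGroup.mk' C y ∈ (S : Subgroup G).map (QuotientGroup.mk' C) := h1 ⟨y, hy, rfl⟩
    obtain ⟨s, hs, hsy⟩ := h2
    have h3 : s⁻¹ * y ∈ C := QuotientGroup.eq.mp hsy
    have h4 : y = s * (s⁻¹ * y) := by group
    rw [h4]
    apply mul_mem
    · rw [Subgroup.mem_centralizer_iff]
      intro w hw
      have hw' := fff_omegaOne_le p _ hw
      exact (Subgroup.mem_centralizer_iff.mp hw'.2 s hs).symm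
    · have hle : Cfsg.omegaOne p
          ((S : Subgroup G) ⊓ Subgroup.centralizer ((S : Subgroup G) : Set G)) ≤ V := by
        rw [hVdef]
        exact le_iSup (fun S : Sylow p G => Cfsg.omegaOne p
          ((S : Subgroup G) ⊓ Subgroup.centralizer ((S : Subgroup G) : Set G))) S
      exact Subgroup.centralizer_le (SetLike.coe_subset_coe.mpr hle) (hC ▸ h3)
  have hle : V ≤ Subgroup.centralizer ({y} : Set G) := by
    rw [hVdef]
    apply iSup_le
    intro S w hw
    rw [Subgroup.mem_centralizer_iff]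
    intro z hz
    rw [Set.mem_singleton_iff] at hz
    subst hz
    exact (Subgroup.mem_centralizer_iff.mp (key S) w hw).symm
  rw [Subgroup.mem_centralizer_iff]
  intro v hv
  exact (Subgroup.mem_centralizer_iff.mp (hle hv) y rfl).symm

theorem fff_exists_conj_le_sylow {p : ℕ} [Fact p.Prime] (S : Sylow p G) {Q : Subgroup G}
    (hQ : IsPGroup p Q) : ∃ g : G, ∀ x ∈ Q, g * x * g⁻¹ ∈ (S : Subgroup G) := by
  obtain ⟨Q', hQ'⟩ := hQ.exists_le_sylow
  obtain ⟨g, hg⟩ := MulAction.exists_smul_eq G Q' S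
  refine ⟨g, fun x hx => ?_⟩
  rw [← hg, fff_mem_smul_sylow]
  have : g⁻¹ * (g * x * g⁻¹) * g = x := by group
  rw [this]
  exact hQ' hx

/-- If `J(G) ≤ C_G(V)` then `G` is Thompson factorizable. -/
theorem fff_factorizable {p : ℕ} [Fact p.Prime] (V : Subgroup G) [V.Normal]
    (hVdef : V = ⨆ S : Sylow p G, Cfsg.omegaOne p
      ((S : Subgroup G) ⊓ Subgroup.centralizer ((S : Subgroup G) : Set G)))
    (hJ : Cfsg.thompsonSubgroup p G ≤ Subgroup.centralizer (V : Set G)) :
    Cfsg.IsThompsonFactorizable p G := by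
  intro S g
  have : (Subgroup.centralizer (V : Set G)).Normal := Subgroup.normal_centralizer
  obtain ⟨c, hc, n, hn, hg⟩ := Cfsg.Agent.Helper11.frattini_inf S (Subgroup.centralizer (V : Set G)) g
  have hle : Cfsg.omegaOne p
      ((S : Subgroup G) ⊓ Subgroup.centralizer ((S : Subgroup G) : Set G)) ≤ V := by
    rw [hVdef]
    exact le_iSup (fun S : Sylow p G => Cfsg.omegaOne p
      ((S : Subgroup G) ⊓ Subgroup.centralizer ((S : Subgroup G) : Set G))) S
  refine ⟨1, one_mem _, c, Subgroup.centralizer_le (SetLike.coe_subset_coe.mpr hle) hc, n, ?_,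
    by rw [one_mul]; exact hg⟩
  -- a maximal elementary abelian subgroup inside `S`
  obtain ⟨A₁, hA₁⟩ := Cfsg.Agent.Helper10.exists_maxElemAb p G
  obtain ⟨t, ht⟩ := fff_exists_conj_le_sylow S (Cfsg.Agent.Helper10.elemAb_isPGroup hA₁.1)
  have hA₀ : MulAut.conj t • A₁ ∈ Cfsg.maxElementaryAbelianSubgroups p G :=
    Cfsg.Agent.Helper10.maxElemAb_conj hA₁ t
  have hA₀S : MulAut.conj t • A₁ ≤ (S : Subgroup G) := by
    rintro _ ⟨x, hx, rfl⟩
    exact ht x hx
  apply Subgroup.mem_normalizer_fintype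
  intro x hx
  have hx' : x ∈ Cfsg.thompsonSubgroupOf p (S : Subgroup G) := hx
  rw [Cfsg.Agent.Helper10.thompsonOf_eq_iSup] at hx'
  have hmap : (⨆ A' : Cfsg.maxElementaryAbelianSubgroups p ↥(S : Subgroup G),
      (A' : Subgroup ↥(S : Subgroup G)).map (S : Subgroup G).subtype).map (MulAut.conj n).toMonoidHom ≤
      Cfsg.thompsonSubgroupOf p (S : Subgroup G) := by
    rw [Subgroup.map_iSup]
    apply iSup_le
    rintro ⟨A', hA'⟩
    have hB : A'.map (S : Subgroup G).subtype ∈ Cfsg.maxElementaryAbelianSubgroups p G :=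
      Cfsg.Agent.Helper10.maxElemAb_map_subtype hA' hA₀ hA₀S
    have hBS : A'.map (S : Subgroup G).subtype ≤ (S : Subgroup G) := Subgroup.map_subtype_le _
    have hBC : A'.map (S : Subgroup G).subtype ≤ Subgroup.centralizer (V : Set G) :=
      le_trans (Cfsg.Agent.Helper10.le_thompson hB) hJ
    have hnB : MulAut.conj n • A'.map (S : Subgroup G).subtype ∈
        Cfsg.maxElementaryAbelianSubgroups p G := Cfsg.Agent.Helper10.maxElemAb_conj hB n
    have hnBS : MulAut.conj n • A'.map (S : Subgroup G).subtype ≤ (S : Subgroup G) := by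
      rintro _ ⟨b, hb, rfl⟩
      have hb' : b ∈ (S : Subgroup G) ⊓ Subgroup.centralizer (V : Set G) := ⟨hBS hb, hBC hb⟩
      have := (Subgroup.mem_normalizer_iff.mp hn b).mp hb'
      exact this.1
    exact Cfsg.Agent.Helper10.le_thompsonOf hnB hnBS
  exact hmap ⟨x, hx', rfl⟩

omit [Finite G] in
/-- `J(G)` is normal. -/
theorem fff_thompson_normal (p : ℕ) : (Cfsg.thompsonSubgroup p G).Normal := by
  constructor
  intro x hx g
  have h1 : (Cfsg.thompsonSubgroup p G).map (MulAut.conj g).toMonoidHom ≤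
      Cfsg.thompsonSubgroup p G := by
    unfold Cfsg.thompsonSubgroup
    rw [sSup_eq_iSup', Subgroup.map_iSup]
    apply iSup_le
    rintro ⟨A, hA⟩
    exact le_iSup_of_le (⟨_, Cfsg.Agent.Helper10.maxElemAb_conj hA g⟩ :
      ↥(Cfsg.maxElementaryAbelianSubgroups p G)) le_rfl
  have h2 := h1 ⟨x, hx, rfl⟩
  simpa using h2

/-- `J(G)` is generated by best offenders on `V`. -/
theorem fff_thompson_gen {p : ℕ} [Fact p.Prime] (V : Subgroup G) [V.Normal]
    (hV : Cfsg.IsElementaryAbelian p V) :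
    Cfsg.thompsonSubgroup p G =
      ⨆ A : {A : Subgroup G // A ≤ Cfsg.thompsonSubgroup p G ∧ Cfsg.IsBestOffenderOn p V A},
        (A : Subgroup G) := by
  apply le_antisymm
  · apply sSup_le
    intro A hA
    exact le_iSup_of_le (⟨A, Cfsg.Agent.Helper10.le_thompson hA,
      Cfsg.Agent.S0606.result V hV A hA⟩ :
        {A : Subgroup G // A ≤ Cfsg.thompsonSubgroup p G ∧ Cfsg.IsBestOffenderOn p V A}) le_rfl
  · apply iSup_le
    rintro ⟨A, hA, -⟩
    exact hA

/-- Kurzweil–Stellmacher 9.3 for a general normal elementary abelian `V` with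
`O_p(G/C_G(V)) = 1` and a normal subgroup `J ≰ C_G(V)` generated by best offenders. -/
theorem fff_structure {p : ℕ} [Fact p.Prime] (V : Subgroup G) [V.Normal]
    (hV : Cfsg.IsElementaryAbelian p V) (hsep : Cfsg.IsPSolvable p G)
    (hOp : ∀ P : Subgroup G, P.Normal →
      (∀ x ∈ P, ∃ k : ℕ, x ^ (p ^ k) ∈ Subgroup.centralizer (V : Set G)) →
      P ≤ Subgroup.centralizer (V : Set G))
    (J : Subgroup G) [J.Normal]
    (hgen : J = ⨆ A : {A : Subgroup G // A ≤ J ∧ Cfsg.IsBestOffenderOn p V A}, (A : Subgroup G))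
    (hJ : ¬ J ≤ Subgroup.centralizer (V : Set G)) :
    (p = 2 ∨ p = 3) ∧ ∃ E : Subgroup G, Subgroup.centralizer (V : Set G) ≤ E ∧
      E ≤ J ⊔ Subgroup.centralizer (V : Set G) ∧
      J ⊔ Subgroup.centralizer (V : Set G) ≤ Subgroup.normalizer (E : Set G) ∧
      ∃ hn : ((Subgroup.centralizer (V : Set G)).subgroupOf E).Normal,
        Nonempty ((↥E ⧸ (Subgroup.centralizer (V : Set G)).subgroupOf E) ≃*
          Matrix.SpecialLinearGroup (Fin 2) (ZMod p)) := by
  have hH1 : J.map (ffbHom V) ≠ ⊥ := by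
    intro h
    apply hJ
    rw [← ffbHom_ker, ← Subgroup.map_eq_bot_iff]
    exact h
  have hHV : J.map (ffbHom V) ≤ Subgroup.normalizer ((ffbV V : Subgroup (FFHol V)) : Set (FFHol V)) := by
    rw [Subgroup.normalizer_eq_top]
    exact le_top
  have : Finite (FFHol V) := ffb_finite V
  obtain ⟨hp23, hE, -, hsup, -, -⟩ := Cfsg.Agent.S0617.result (ffbV V) (J.map (ffbHom V))
    (ffbV_elemAb V hV) hHV (ffb_faithful V J) (ffb_hS1 V J hsep hOp) (ffb_hS3 V J hgen) hH1
  refine ⟨hp23, ?_⟩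
  -- pick one of the components
  have hne : Nonempty {E : Subgroup (FFHol V) // ∃ A : Subgroup (FFHol V), A ≤ J.map (ffbHom V) ∧
      Cfsg.IsBestOffenderOn p (ffbV V) A ∧ ⁅ffbV V, A⁆ ≠ ⊥ ∧
      (∀ B : Subgroup (FFHol V), B ≤ A → Cfsg.IsBestOffenderOn p (ffbV V) B → ⁅ffbV V, B⁆ ≠ ⊥ → B = A) ∧
      E = ⁅((Cfsg.pPrimeCore p ↥(J.map (ffbHom V))).map (J.map (ffbHom V)).subtype), A⁆ ⊔ A} := by
    by_contra hempty
    rw [not_nonempty_iff] at hempty
    rw [iSup_of_empty] at hsup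
    exact hH1 hsup.symm
  obtain ⟨E₁⟩ := hne
  obtain ⟨hE₁n, ⟨iso⟩, -⟩ := hE E₁
  have hE₁le : (E₁ : Subgroup (FFHol V)) ≤ J.map (ffbHom V) := by
    refine le_trans ?_ (le_of_eq hsup)
    exact le_iSup (fun E : {E : Subgroup (FFHol V) // ∃ A : Subgroup (FFHol V), A ≤ J.map (ffbHom V) ∧
      Cfsg.IsBestOffenderOn p (ffbV V) A ∧ ⁅ffbV V, A⁆ ≠ ⊥ ∧
      (∀ B : Subgroup (FFHol V), B ≤ A → Cfsg.IsBestOffenderOn p (ffbV V) B → ⁅ffbV V, B⁆ ≠ ⊥ → B = A) ∧
      E = ⁅((Cfsg.pPrimeCore p ↥(J.map (ffbHom V))).map (J.map (ffbHom V)).subtype), A⁆ ⊔ A} =>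
        (E : Subgroup (FFHol V))) E₁
  obtain ⟨F, hF⟩ : ∃ F : Subgroup (FFHol V), F = (E₁ : Subgroup (FFHol V)) := ⟨_, rfl⟩
  rw [← hF] at hE₁n hE₁le iso
  clear hF hE hsup E₁
  have hCE : Subgroup.centralizer (V : Set G) ≤ F.comap (ffbHom V) := by
    rw [← ffbHom_ker]
    exact MonoidHom.ker_le_comap _ _
  refine ⟨F.comap (ffbHom V), hCE, ?_, ?_, ?_⟩
  · calc F.comap (ffbHom V) ≤ (J.map (ffbHom V)).comap (ffbHom V) := Subgroup.comap_mono hE₁le
      _ = J ⊔ (ffbHom V).ker := Subgroup.comap_map_eq _ _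
      _ = J ⊔ Subgroup.centralizer (V : Set G) := by rw [ffbHom_ker]
  · apply sup_le
    · intro x hx
      apply Subgroup.le_normalizer_comap (ffbHom V)
      exact Subgroup.mem_comap.mpr (hE₁n (Subgroup.mem_map_of_mem _ hx))
    · exact le_trans hCE Subgroup.le_normalizer
  · -- the isomorphism
    obtain ⟨f, hf⟩ : ∃ f : ↥(F.comap (ffbHom V)) →* ↥F, f = (ffbHom V).subgroupComap F := ⟨_, rfl⟩
    have hfs : Function.Surjective f := by
      rintro ⟨y, hy⟩
      obtain ⟨j, -, rfl⟩ := hE₁le hy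
      exact ⟨⟨j, Subgroup.mem_comap.mpr hy⟩, by rw [hf]; rfl⟩
    have hker : (Subgroup.centralizer (V : Set G)).subgroupOf (F.comap (ffbHom V)) = f.ker := by
      ext x
      rw [Subgroup.mem_subgroupOf, MonoidHom.mem_ker, ← ffbHom_eq_one_iff, hf]
      constructor
      · intro h
        exact Subtype.ext h
      · intro h
        exact congrArg Subtype.val h
    have key : ∀ N : Subgroup ↥(F.comap (ffbHom V)), N = f.ker →
        ∃ hn : N.Normal, Nonempty ((↥(F.comap (ffbHom V)) ⧸ N) ≃*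
          Matrix.SpecialLinearGroup (Fin 2) (ZMod p)) := by
      rintro N rfl
      exact ⟨inferInstance, ⟨(QuotientGroup.quotientKerEquivOfSurjective f hfs).trans iso⟩⟩
    exact key _ hker

end

end Cfsg.Agent.Helper35
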