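import Mathlib
import Cfsg.Agent.Helper35.FFFact
import Cfsg.Agent.Helper35.FFX2
import Cfsg.Agent.Helper35.FFX3

set_option autoImplicit false

/-!
# A coprime group of automorphisms and failure of factorization (helper35)

`K` is `p`-solvable with `O_{p'}(K) = 1`, `V = ⟨Ω₁(Z(S)) | S ∈ Syl_p(K)⟩`, `J = J(K)`, and `𝔛`
is a `q`-group of automorphisms of `K` with `q ∤ |K|`.  The automorphisms act on the holomorph of
`V` compatibly with `ffbHom V`, permute the `SL(2, p)`-components of `J C_K(V) / C_K(V)`, and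
Kurzweil–Stellmacher 9.3.9 follows: `K = ⟨N_K(J(S)), C_K(Ω₁(Z(S))), C_K(𝔛)⟩`.
-/

namespace Cfsg.Agent.Helper35

open scoped Pointwise commutatorElement

section

variable {K : Type*} [Group K]

/-- `V = ⟨Ω₁(Z(S)) | S ∈ Syl_p(K)⟩` is characteristic. -/
theorem ffx_V_char (p : ℕ) (α : MulAut K) :
    ∀ v ∈ (⨆ S : Sylow p K, Cfsg.omegaOne p
      ((S : Subgroup K) ⊓ Subgroup.centralizer ((S : Subgroup K) : Set K))),
    α v ∈ (⨆ S : Sylow p K, Cfsg.omegaOne p
      ((S : Subgroup K) ⊓ Subgroup.centralizer ((S : Subgroup K) : Set K))) := by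
  have h1 : (⨆ S : Sylow p K, Cfsg.omegaOne p
      ((S : Subgroup K) ⊓ Subgroup.centralizer ((S : Subgroup K) : Set K))).map α.toMonoidHom ≤
      ⨆ S : Sylow p K, Cfsg.omegaOne p
        ((S : Subgroup K) ⊓ Subgroup.centralizer ((S : Subgroup K) : Set K)) := by
    rw [Subgroup.map_iSup]
    apply iSup_le
    intro S
    refine le_iSup_of_le (α • S) ?_
    unfold Cfsg.omegaOne
    rw [MonoidHom.map_closure]
    apply Subgroup.closure_mono
    rintro _ ⟨x, ⟨⟨hxS, hxC⟩, hxp⟩, rfl⟩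
    have hmem : ∀ y : K, y ∈ ((α • S : Sylow p K) : Subgroup K) ↔ α⁻¹ y ∈ (S : Subgroup K) := by
      intro y
      rw [Sylow.pointwise_smul_def, Subgroup.mem_pointwise_smul_iff_inv_smul_mem]
      rfl
    refine ⟨⟨?_, ?_⟩, ?_⟩
    · refine (hmem _).mpr ?_
      have : α⁻¹ (α.toMonoidHom x) = x := by simp
      rw [this]
      exact hxS
    · refine Subgroup.mem_centralizer_iff.mpr ?_
      intro y hy
      have hy' : α⁻¹ y ∈ (S : Subgroup K) := (hmem y).mp hy
      have h2 := Subgroup.mem_centralizer_iff.mp hxC _ hy'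
      have h3 : y = α (α⁻¹ y) := by simp
      show y * α x = α x * y
      rw [h3, ← map_mul, h2, map_mul]
    · show (α x) ^ p = 1
      rw [← map_pow, hxp, map_one]
  intro v hv
  exact h1 ⟨v, hv, rfl⟩

/-- `J(K)` is characteristic. -/
theorem ffx_thompson_char (p : ℕ) (α : MulAut K) :
    ∀ x ∈ Cfsg.thompsonSubgroup p K, α x ∈ Cfsg.thompsonSubgroup p K := by
  have hmax : ∀ A : Subgroup K, A ∈ Cfsg.maxElementaryAbelianSubgroups p K →
      A.map α.toMonoidHom ∈ Cfsg.maxElementaryAbelianSubgroups p K := by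
    intro A hA
    refine ⟨Cfsg.Agent.Helper10.elemAb_map hA.1 _, ?_⟩
    intro B hB
    rw [Subgroup.card_map_of_injective α.injective]
    exact hA.2 B hB
  have h1 : (Cfsg.thompsonSubgroup p K).map α.toMonoidHom ≤ Cfsg.thompsonSubgroup p K := by
    unfold Cfsg.thompsonSubgroup
    rw [sSup_eq_iSup', Subgroup.map_iSup]
    apply iSup_le
    rintro ⟨A, hA⟩
    exact le_iSup_of_le (⟨_, hmax A hA⟩ : ↥(Cfsg.maxElementaryAbelianSubgroups p K)) le_rfl
  intro x hx
  exact h1 ⟨x, hx, rfl⟩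

variable (V : Subgroup K) (hchar : ∀ α : MulAut K, ∀ v ∈ V, α v ∈ V)

/-- Restriction of automorphisms to a characteristic subgroup. -/
def ffxRes : MulAut K →* MulAut ↥V where
  toFun α :=
    { toFun := fun v => ⟨α v, hchar α v v.2⟩
      invFun := fun v => ⟨α⁻¹ v, hchar α⁻¹ v v.2⟩
      left_inv := fun v => Subtype.ext (by simp)
      right_inv := fun v => Subtype.ext (by simp)
      map_mul' := fun v w => Subtype.ext (by simp) }
  map_one' := by
    ext v
    rfl
  map_mul' := fun α β => by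
    ext v
    rfl

theorem ffxRes_apply (α : MulAut K) (v : ↥V) : ((ffxRes V hchar α v : ↥V) : K) = α (v : K) := rfl

variable [V.Normal]

/-- The action of automorphisms of `K` on the holomorph of `V`. -/
def ffxHom : MulAut K →* FFHol V := SemidirectProduct.inr.comp (ffxRes V hchar)

theorem ffxHom_conj (k : K) : ffxHom V hchar (MulAut.conj k) = ffbHom V k := by
  show SemidirectProduct.inr (ffxRes V hchar (MulAut.conj k)) =
    SemidirectProduct.inr (MulAut.conjNormal k)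
  congr 1
  ext v
  rw [ffxRes_apply, MulAut.conjNormal_apply, MulAut.conj_apply]

theorem ffx_equivariant (α : MulAut K) (k : K) :
    ffbHom V (α k) = ffxHom V hchar α * ffbHom V k * (ffxHom V hchar α)⁻¹ := by
  rw [← ffxHom_conj V hchar, ← ffxHom_conj V hchar, ← map_inv, ← map_mul, ← map_mul]
  congr 1
  ext x
  simp [MulAut.conj_apply]

omit [V.Normal] in
theorem ffxHom_inl (α : MulAut K) (v : ↥V) :
    ffxHom V hchar α * SemidirectProduct.inl v * (ffxHom V hchar α)⁻¹ =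
      (SemidirectProduct.inl (ffxRes V hchar α v) : FFHol V) := by
  have := SemidirectProduct.inl_aut (φ := MonoidHom.id (MulAut ↥V)) (ffxRes V hchar α) v
  rw [MonoidHom.id_apply] at this
  rw [this, ffxHom, MonoidHom.comp_apply, map_inv]

include hchar in
/-- Coprime action: a coset of `C_K(V)` fixed by the `q`-group `𝔛` contains a fixed point. -/
theorem ffx_lift [Finite K] {q : ℕ} [Fact q.Prime] (𝔛 : Subgroup (MulAut K))
    (h𝔛 : IsPGroup q 𝔛) (hq : ¬ q ∣ Nat.card K) (j : K)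
    (hj : ∀ α ∈ 𝔛, ffbHom V (α j) = ffbHom V j) :
    ∃ k : K, (∀ α ∈ 𝔛, α k = k) ∧ ffbHom V k = ffbHom V j := by
  let _inst : MulAction ↥𝔛 {k : K // ffbHom V k = ffbHom V j} :=
    { smul := fun α k => ⟨(α : MulAut K) (k : K), by
        rw [ffx_equivariant V hchar, k.2, ← ffx_equivariant V hchar, hj _ α.2]⟩
      one_smul := fun k => Subtype.ext rfl
      mul_smul := fun α β k => Subtype.ext rfl }
  have hcard : Nat.card {k : K // ffbHom V k = ffbHom V j} = Nat.card (ffbHom V).ker := by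
    apply Nat.card_congr
    refine ⟨fun k => ⟨j⁻¹ * (k : K), ?_⟩, fun c => ⟨j * (c : K), ?_⟩, ?_, ?_⟩
    · rw [MonoidHom.mem_ker, map_mul, map_inv, k.2, inv_mul_cancel]
    · have := c.2
      rw [MonoidHom.mem_ker] at this
      rw [map_mul, this, mul_one]
    · intro k
      apply Subtype.ext
      show j * (j⁻¹ * (k : K)) = k
      group
    · intro c
      apply Subtype.ext
      show j⁻¹ * (j * (c : K)) = c
      group
  have hnd : ¬ q ∣ Nat.card {k : K // ffbHom V k = ffbHom V j} := by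
    rw [hcard]
    intro h
    exact hq (dvd_trans h (Subgroup.card_subgroup_dvd_card _))
  obtain ⟨⟨k, hk⟩, hkfix⟩ := h𝔛.nonempty_fixed_point_of_prime_not_dvd_card _ hnd
  refine ⟨k, fun α hα => ?_, hk⟩
  have := hkfix ⟨α, hα⟩
  exact congrArg Subtype.val this

end

section

variable {K : Type*} [Group K] [Finite K]

/-- For `N` normal, `S ∩ N` is a Sylow `p`-subgroup of `N`. -/
theorem ffx_exists_sylow_inf {p : ℕ} [Fact p.Prime] (S : Sylow p K) (N : Subgroup K)
    [hN : N.Normal] :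
    ∃ Q : Sylow p ↥N, (Q : Subgroup ↥N).map N.subtype = (S : Subgroup K) ⊓ N := by
  have h0 : IsPGroup p (((S : Subgroup K) ⊓ N).subgroupOf N) := (S.2.to_inf_left).comap_subtype
  obtain ⟨Q, hQ⟩ := h0.exists_le_sylow
  refine ⟨Q, ?_⟩
  have hQp : IsPGroup p ((Q : Subgroup ↥N).map N.subtype) := Q.2.map _
  obtain ⟨g, hg⟩ := fff_exists_conj_le_sylow S hQp
  have hle : (S : Subgroup K) ⊓ N ≤ (Q : Subgroup ↥N).map N.subtype := by
    intro x hx
    exact ⟨⟨x, hx.2⟩, hQ (Subgroup.mem_subgroupOf.mpr hx), rfl⟩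
  have hgC : ((Q : Subgroup ↥N).map N.subtype).map (MulAut.conj g).toMonoidHom ≤
      (S : Subgroup K) ⊓ N := by
    rintro _ ⟨y, hy, rfl⟩
    have hyN : y ∈ N := Subgroup.map_subtype_le _ hy
    exact ⟨hg y hy, hN.conj_mem y hyN g⟩
  have hcard : Nat.card ↥((Q : Subgroup ↥N).map N.subtype) ≤ Nat.card ↥((S : Subgroup K) ⊓ N) := by
    rw [← Subgroup.card_map_of_injective (f := (MulAut.conj g).toMonoidHom)
      (MulAut.conj g).injective]
    exact Subgroup.card_le_of_le hgC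
  exact (Subgroup.eq_of_le_of_card_ge hle hcard).symm

/-- Elements of order `p` of the image of a normal subgroup `J` are conjugate in the image into
the image of `S ∩ J`. -/
theorem ffx_exists_conj_in_sylow {p : ℕ} [Fact p.Prime] (S : Sylow p K) (J : Subgroup K)
    [J.Normal] {Γ : Type*} [Group Γ] (ψ : K →* Γ) {t₀ : Γ} (ht₀ : t₀ ∈ J.map ψ)
    (htp : t₀ ^ p = 1) :
    ∃ h ∈ J.map ψ, h * t₀ * h⁻¹ ∈ ((S : Subgroup K) ⊓ J).map ψ := by
  obtain ⟨Q, hQ⟩ := ffx_exists_sylow_inf S J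
  have hfin : Finite ↥(J.map ψ) := Finite.of_surjective _ (ψ.subgroupMap_surjective J)
  obtain ⟨Q', hQ'⟩ : ∃ Q' : Sylow p ↥(J.map ψ),
      (Q' : Subgroup ↥(J.map ψ)) = (Q : Subgroup ↥J).map (ψ.subgroupMap J) :=
    ⟨Q.mapSurjective (ψ.subgroupMap_surjective J), rfl⟩
  have hpg : IsPGroup p (Subgroup.zpowers (⟨t₀, ht₀⟩ : ↥(J.map ψ))) := by
    rintro ⟨x, hx⟩
    obtain ⟨i, rfl⟩ := Subgroup.mem_zpowers_iff.mp hx
    refine ⟨1, Subtype.ext ?_⟩
    have h1 : (⟨t₀, ht₀⟩ : ↥(J.map ψ)) ^ p = 1 := Subtype.ext (by simpa using htp)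
    show ((⟨t₀, ht₀⟩ : ↥(J.map ψ)) ^ i) ^ p ^ 1 = 1
    rw [pow_one, ← zpow_natCast, ← zpow_mul, mul_comm, zpow_mul, zpow_natCast, h1, one_zpow]
  obtain ⟨g, hg⟩ := fff_exists_conj_le_sylow Q' hpg
  have h2 := hg _ (Subgroup.mem_zpowers _)
  rw [hQ'] at h2
  obtain ⟨y, hy, hyt⟩ := h2
  refine ⟨g, g.2, ?_⟩
  have hyS : (y : K) ∈ (S : Subgroup K) ⊓ J := by
    rw [← hQ]
    exact ⟨y, hy, rfl⟩
  refine ⟨y, hyS, ?_⟩
  have := congrArg Subtype.val hyt
  simpa using this

/-- `N_K(S ∩ N) ≤ N_K(J(S))` for every subgroup `N` containing `J(K)`. -/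
theorem ffx_normalizer_le {p : ℕ} [Fact p.Prime] (S : Sylow p K) (N : Subgroup K)
    (hJN : Cfsg.thompsonSubgroup p K ≤ N) :
    Subgroup.normalizer ((((S : Subgroup K) ⊓ N : Subgroup K)) : Set K) ≤
      Subgroup.normalizer (Cfsg.thompsonSubgroupOf p (S : Subgroup K) : Set K) := by
  intro n hn
  obtain ⟨A₁, hA₁⟩ := Cfsg.Agent.Helper10.exists_maxElemAb p K
  obtain ⟨t, ht⟩ := fff_exists_conj_le_sylow S (Cfsg.Agent.Helper10.elemAb_isPGroup hA₁.1)
  have hA₀ : MulAut.conj t • A₁ ∈ Cfsg.maxElementaryAbelianSubgroups p K :=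
    Cfsg.Agent.Helper10.maxElemAb_conj hA₁ t
  have hA₀S : MulAut.conj t • A₁ ≤ (S : Subgroup K) := by
    rintro _ ⟨x, hx, rfl⟩
    exact ht x hx
  apply Subgroup.mem_normalizer_fintype
  intro x hx
  have hx' : x ∈ Cfsg.thompsonSubgroupOf p (S : Subgroup K) := hx
  rw [Cfsg.Agent.Helper10.thompsonOf_eq_iSup] at hx'
  have hmap : (⨆ A' : Cfsg.maxElementaryAbelianSubgroups p ↥(S : Subgroup K),
      (A' : Subgroup ↥(S : Subgroup K)).map (S : Subgroup K).subtype).map (MulAut.conj n).toMonoidHom ≤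
      Cfsg.thompsonSubgroupOf p (S : Subgroup K) := by
    rw [Subgroup.map_iSup]
    apply iSup_le
    rintro ⟨A', hA'⟩
    have hB : A'.map (S : Subgroup K).subtype ∈ Cfsg.maxElementaryAbelianSubgroups p K :=
      Cfsg.Agent.Helper10.maxElemAb_map_subtype hA' hA₀ hA₀S
    have hBS : A'.map (S : Subgroup K).subtype ≤ (S : Subgroup K) := Subgroup.map_subtype_le _
    have hBC : A'.map (S : Subgroup K).subtype ≤ N :=
      le_trans (Cfsg.Agent.Helper10.le_thompson hB) hJN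
    have hnB : MulAut.conj n • A'.map (S : Subgroup K).subtype ∈
        Cfsg.maxElementaryAbelianSubgroups p K := Cfsg.Agent.Helper10.maxElemAb_conj hB n
    have hnBS : MulAut.conj n • A'.map (S : Subgroup K).subtype ≤ (S : Subgroup K) := by
      rintro _ ⟨b, hb, rfl⟩
      have hb' : b ∈ (S : Subgroup K) ⊓ N := ⟨hBS hb, hBC hb⟩
      have := (Subgroup.mem_normalizer_iff.mp hn b).mp hb'
      exact this.1
    exact Cfsg.Agent.Helper10.le_thompsonOf hnB hnBS
  exact hmap ⟨x, hx', rfl⟩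

/-- `S ≤ N_K(J(S))`. -/
theorem ffx_sylow_le_normalizer {p : ℕ} (S : Subgroup K) :
    S ≤ Subgroup.normalizer (Cfsg.thompsonSubgroupOf p S : Set K) := by
  intro s hs
  apply Subgroup.mem_normalizer_fintype
  rintro _ ⟨y, hy, rfl⟩
  have hn : (Cfsg.thompsonSubgroup p ↥S).Normal := fff_thompson_normal p
  have h1 := hn.conj_mem y hy ⟨s, hs⟩
  exact ⟨_, h1, rfl⟩

end

end Cfsg.Agent.Helper35
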