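import Mathlib
import Cfsg.Agent.Helper35.FFX4

set_option autoImplicit false

/-!
# Kurzweil–Stellmacher 9.3.9: generation under a coprime group of automorphisms (helper35)

`K` is `p`-solvable with `O_{p'}(K) = 1` and `𝔛` is a `q`-group of automorphisms of `K`,
`q ∤ |K|`.  Then `K = ⟨N_K(J(S)), C_K(Ω₁(Z(S))), C_K(𝔛)⟩` for every Sylow `p`-subgroup `S`.
-/

namespace Cfsg.Agent.Helper35

open scoped Pointwise commutatorElement

section

variable {K : Type*} [Group K] [Finite K]

/-- The structure theorem `S0617` for the image of `J` in the holomorph of `V`, with the index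
predicate folded into `ffxComp`. -/
theorem fff_components {p : ℕ} [Fact p.Prime] (V : Subgroup K) [V.Normal]
    (hV : Cfsg.IsElementaryAbelian p V) (hsep : Cfsg.IsPSolvable p K)
    (hOp : ∀ P : Subgroup K, P.Normal →
      (∀ x ∈ P, ∃ k : ℕ, x ^ (p ^ k) ∈ Subgroup.centralizer (V : Set K)) →
      P ≤ Subgroup.centralizer (V : Set K))
    (J : Subgroup K) [J.Normal]
    (hgen : J = ⨆ A : {A : Subgroup K // A ≤ J ∧ Cfsg.IsBestOffenderOn p V A}, (A : Subgroup K))
    (hJ : ¬ J ≤ Subgroup.centralizer (V : Set K)) :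
    (p = 2 ∨ p = 3) ∧
    (∀ E : {E : Subgroup (FFHol V) // ffxComp p (ffbV V) (J.map (ffbHom V)) E},
      J.map (ffbHom V) ≤ Subgroup.normalizer ((E : Subgroup (FFHol V)) : Set (FFHol V)) ∧
      Nonempty (↥(E : Subgroup (FFHol V)) ≃* Matrix.SpecialLinearGroup (Fin 2) (ZMod p)) ∧
      Nat.card ↥(⁅ffbV V, (E : Subgroup (FFHol V))⁆) = p ^ 2) ∧
    iSupIndep (fun E : {E : Subgroup (FFHol V) // ffxComp p (ffbV V) (J.map (ffbHom V)) E} =>
      (E : Subgroup (FFHol V))) ∧
    (⨆ E : {E : Subgroup (FFHol V) // ffxComp p (ffbV V) (J.map (ffbHom V)) E},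
      (E : Subgroup (FFHol V))) = J.map (ffbHom V) ∧
    iSupIndep (fun o : Option {E : Subgroup (FFHol V) //
        ffxComp p (ffbV V) (J.map (ffbHom V)) E} =>
      o.elim (ffbV V ⊓ Subgroup.centralizer ((J.map (ffbHom V) : Subgroup (FFHol V)) : Set (FFHol V)))
        (fun E => ⁅ffbV V, (E : Subgroup (FFHol V))⁆)) ∧
    (ffbV V ⊓ Subgroup.centralizer ((J.map (ffbHom V) : Subgroup (FFHol V)) : Set (FFHol V))) ⊔
      (⨆ E : {E : Subgroup (FFHol V) // ffxComp p (ffbV V) (J.map (ffbHom V)) E},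
        ⁅ffbV V, (E : Subgroup (FFHol V))⁆) = ffbV V := by
  have hH1 : J.map (ffbHom V) ≠ ⊥ := by
    intro h
    apply hJ
    rw [← ffbHom_ker, ← Subgroup.map_eq_bot_iff]
    exact h
  have hHV : J.map (ffbHom V) ≤ Subgroup.normalizer ((ffbV V : Subgroup (FFHol V)) : Set (FFHol V)) := by
    rw [Subgroup.normalizer_eq_top]
    exact le_top
  have : Finite (FFHol V) := ffb_finite V
  exact Cfsg.Agent.S0617.result (ffbV V) (J.map (ffbHom V))
    (ffbV_elemAb V hV) hHV (ffb_faithful V J) (ffb_hS1 V J hsep hOp) (ffb_hS3 V J hgen) hH1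

/-- The components of the image of `J` in the holomorph of `V` form an `FFXData` for the image
of a coprime `q`-group of automorphisms of `K`. -/
theorem ffx_setup {p q : ℕ} [Fact p.Prime] [Fact q.Prime] (V : Subgroup K) [V.Normal]
    (hchar : ∀ α : MulAut K, ∀ v ∈ V, α v ∈ V)
    (hV : Cfsg.IsElementaryAbelian p V) (hsep : Cfsg.IsPSolvable p K)
    (hOp : ∀ P : Subgroup K, P.Normal →
      (∀ x ∈ P, ∃ k : ℕ, x ^ (p ^ k) ∈ Subgroup.centralizer (V : Set K)) →
      P ≤ Subgroup.centralizer (V : Set K))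
    (J : Subgroup K) [J.Normal] (hJchar : ∀ α : MulAut K, ∀ x ∈ J, α x ∈ J)
    (hgen : J = ⨆ A : {A : Subgroup K // A ≤ J ∧ Cfsg.IsBestOffenderOn p V A}, (A : Subgroup K))
    (hJ : ¬ J ≤ Subgroup.centralizer (V : Set K))
    (𝔛 : Subgroup (MulAut K)) (h𝔛 : IsPGroup q 𝔛) (hq : ¬ q ∣ Nat.card K) :
    FFXData p q {E : Subgroup (FFHol V) | ffxComp p (ffbV V) (J.map (ffbHom V)) E}
      (J.map (ffbHom V)) (𝔛.map (ffxHom V hchar)) ∧
    sSup {E : Subgroup (FFHol V) | ffxComp p (ffbV V) (J.map (ffbHom V)) E} = J.map (ffbHom V) ∧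
    (∀ E : Subgroup (FFHol V), ffxComp p (ffbV V) (J.map (ffbHom V)) E →
      J.map (ffbHom V) ≤ Subgroup.normalizer (E : Set (FFHol V))) := by
  have hqp : q.Prime := Fact.out
  have hH1 : J.map (ffbHom V) ≠ ⊥ := by
    intro h
    apply hJ
    rw [← ffbHom_ker, ← Subgroup.map_eq_bot_iff]
    exact h
  obtain ⟨h23, hE, hind, hsup, -, -⟩ := fff_components V hV hsep hOp J hgen hJ
  have hsup' : sSup {E : Subgroup (FFHol V) | ffxComp p (ffbV V) (J.map (ffbHom V)) E} =
      J.map (ffbHom V) := by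
    rw [sSup_eq_iSup']
    exact hsup
  have hle : ∀ E : Subgroup (FFHol V), ffxComp p (ffbV V) (J.map (ffbHom V)) E →
      E ≤ J.map (ffbHom V) := by
    intro E hE'
    rw [← hsup']
    exact le_sSup hE'
  have hnorm : ∀ E : Subgroup (FFHol V), ffxComp p (ffbV V) (J.map (ffbHom V)) E →
      J.map (ffbHom V) ≤ Subgroup.normalizer (E : Set (FFHol V)) := fun E hE' => (hE ⟨E, hE'⟩).1
  have hiso : ∀ E : Subgroup (FFHol V), ffxComp p (ffbV V) (J.map (ffbHom V)) E →
      Nonempty (↥E ≃* Matrix.SpecialLinearGroup (Fin 2) (ZMod p)) := fun E hE' => (hE ⟨E, hE'⟩).2.1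
  -- existence of a component
  have hne : ∃ E : Subgroup (FFHol V), ffxComp p (ffbV V) (J.map (ffbHom V)) E := by
    by_contra hempty
    rw [not_exists] at hempty
    have : IsEmpty {E : Subgroup (FFHol V) // ffxComp p (ffbV V) (J.map (ffbHom V)) E} :=
      ⟨fun E => hempty E.1 E.2⟩
    rw [iSup_of_empty] at hsup
    exact hH1 hsup.symm
  obtain ⟨E₀, hE₀⟩ := hne
  -- `q ≥ 5`
  have hq5 : 5 ≤ q := by
    obtain ⟨e⟩ := hiso E₀ hE₀
    have hc := ffx_card e
    have hdvd : Nat.card ↥E₀ ∣ Nat.card K := by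
      have h1 : Nat.card ↥E₀ ∣ Nat.card ↥(J.map (ffbHom V)) := Subgroup.card_dvd_of_le (hle E₀ hE₀)
      have h2 : Nat.card ↥(J.map (ffbHom V)) ∣ Nat.card ↥J := Subgroup.card_map_dvd _ _
      exact dvd_trans h1 (dvd_trans h2 (Subgroup.card_subgroup_dvd_card J))
    rw [hc] at hdvd
    have h2 : q ≠ 2 := by
      intro h
      apply hq
      rw [h]
      refine dvd_trans ?_ hdvd
      rcases h23 with h | h <;> subst h <;> norm_num
    have h3 : q ≠ 3 := by
      intro h
      apply hq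
      rw [h]
      refine dvd_trans ?_ hdvd
      rcases h23 with h | h <;> subst h <;> norm_num
    have h4 : q ≠ 4 := by
      intro h
      rw [h] at hqp
      norm_num at hqp
    have := hqp.two_le
    omega
  refine ⟨⟨h23, hq5, hiso, ?_, hle, h𝔛.map _, ?_⟩, hsup', hnorm⟩
  · -- distinct components commute
    intro E hE' E' hE'' hne x hx y hy
    have hdis : Disjoint E E' := by
      have := hind.pairwiseDisjoint (i := (⟨E, hE'⟩ :
        {E : Subgroup (FFHol V) // ffxComp p (ffbV V) (J.map (ffbHom V)) E}))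
        (j := ⟨E', hE''⟩) (fun h => hne (congrArg Subtype.val h))
      exact this
    have h1 : x * y * x⁻¹ * y⁻¹ ∈ E ⊓ E' := by
      constructor
      · have hyN := hnorm E hE' (hle E' hE'' hy)
        have h2 : y * x⁻¹ * y⁻¹ ∈ E := (Subgroup.mem_normalizer_iff.mp hyN x⁻¹).mp (E.inv_mem hx)
        have h3 : x * y * x⁻¹ * y⁻¹ = x * (y * x⁻¹ * y⁻¹) := by group
        rw [h3]
        exact E.mul_mem hx h2
      · have hxN := hnorm E' hE'' (hle E hE' hx)
        have h2 : x * y * x⁻¹ ∈ E' := (Subgroup.mem_normalizer_iff.mp hxN y).mp hy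
        exact E'.mul_mem h2 (E'.inv_mem hy)
    rw [disjoint_iff.mp hdis, Subgroup.mem_bot] at h1
    calc x * y = (x * y * x⁻¹ * y⁻¹) * (y * x) := by group
      _ = y * x := by rw [h1, one_mul]
  · -- the image of `𝔛` permutes the components
    rintro _ ⟨α, hα, rfl⟩ E hE'
    have hb : ffxHom V hchar α ∈ Subgroup.normalizer ((J.map (ffbHom V) : Subgroup (FFHol V)) : Set (FFHol V)) := by
      have : Finite (FFHol V) := ffb_finite V
      apply Subgroup.mem_normalizer_fintype
      rintro _ ⟨j, hj, rfl⟩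
      rw [← ffx_equivariant V hchar]
      exact ⟨α j, hJchar α j hj, rfl⟩
    exact ffx_comp_conj hb hE'

/-- Kurzweil–Stellmacher 9.3.9 for a `q`-group `𝔛` of automorphisms: `F` is any subgroup
containing the fixed points of `𝔛`. -/
theorem ffx_gen {p q : ℕ} [Fact p.Prime] [Fact q.Prime] (hsep : Cfsg.IsPSolvable p K)
    (hO : Cfsg.pPrimeCore p K = ⊥) (𝔛 : Subgroup (MulAut K)) (h𝔛 : IsPGroup q 𝔛)
    (hq : ¬ q ∣ Nat.card K) (F : Subgroup K) (hF : ∀ k : K, (∀ α ∈ 𝔛, α k = k) → k ∈ F)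
    (S : Sylow p K) :
    Subgroup.normalizer (Cfsg.thompsonSubgroupOf p (S : Subgroup K) : Set K) ⊔
      Subgroup.centralizer (Cfsg.omegaOne p
        ((S : Subgroup K) ⊓ Subgroup.centralizer ((S : Subgroup K) : Set K)) : Set K) ⊔ F = ⊤ := by
  obtain ⟨V, hVdef⟩ : ∃ V : Subgroup K, V = ⨆ S : Sylow p K, Cfsg.omegaOne p
      ((S : Subgroup K) ⊓ Subgroup.centralizer ((S : Subgroup K) : Set K)) := ⟨_, rfl⟩
  have hVn : V.Normal := hVdef ▸ fff_V_normal p
  have hV : Cfsg.IsElementaryAbelian p V := hVdef ▸ fff_V_elemAb hsep hO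
  have hchar : ∀ α : MulAut K, ∀ v ∈ V, α v ∈ V := by
    rw [hVdef]
    exact ffx_V_char p
  have hJn : (Cfsg.thompsonSubgroup p K).Normal := fff_thompson_normal p
  have hle : Cfsg.omegaOne p
      ((S : Subgroup K) ⊓ Subgroup.centralizer ((S : Subgroup K) : Set K)) ≤ V := by
    rw [hVdef]
    exact le_iSup (fun S : Sylow p K => Cfsg.omegaOne p
      ((S : Subgroup K) ⊓ Subgroup.centralizer ((S : Subgroup K) : Set K))) S
  obtain ⟨L, hL⟩ : ∃ L : Subgroup K, L =
      Subgroup.normalizer (Cfsg.thompsonSubgroupOf p (S : Subgroup K) : Set K) ⊔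
      Subgroup.centralizer (Cfsg.omegaOne p
        ((S : Subgroup K) ⊓ Subgroup.centralizer ((S : Subgroup K) : Set K)) : Set K) ⊔ F :=
    ⟨_, rfl⟩
  rw [← hL]
  have hNL : Subgroup.normalizer (Cfsg.thompsonSubgroupOf p (S : Subgroup K) : Set K) ≤ L := by
    rw [hL]
    exact le_sup_of_le_left le_sup_left
  have hCL : Subgroup.centralizer (Cfsg.omegaOne p
        ((S : Subgroup K) ⊓ Subgroup.centralizer ((S : Subgroup K) : Set K)) : Set K) ≤ L := by
    rw [hL]
    exact le_sup_of_le_left le_sup_right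
  have hFL : F ≤ L := by
    rw [hL]
    exact le_sup_right
  have hCVL : Subgroup.centralizer (V : Set K) ≤ L :=
    le_trans (Subgroup.centralizer_le (SetLike.coe_subset_coe.mpr hle)) hCL
  have hSL : (S : Subgroup K) ≤ L := le_trans (ffx_sylow_le_normalizer (S : Subgroup K)) hNL
  have hJL : Cfsg.thompsonSubgroup p K ≤ L := by
    by_cases hJ : Cfsg.thompsonSubgroup p K ≤ Subgroup.centralizer (V : Set K)
    · exact le_trans hJ hCVL
    · obtain ⟨d, hsup, hnorm⟩ := ffx_setup V hchar hV hsep (fff_hOp V hVdef)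
        (Cfsg.thompsonSubgroup p K) (ffx_thompson_char p) (fff_thompson_gen V hV) hJ 𝔛 h𝔛 hq
      have hfin : Finite (FFHol V) := ffb_finite V
      have hT : ∀ E ∈ {E : Subgroup (FFHol V) |
          ffxComp p (ffbV V) ((Cfsg.thompsonSubgroup p K).map (ffbHom V)) E},
          ∃ t ∈ ((S : Subgroup K) ⊓ Cfsg.thompsonSubgroup p K).map (ffbHom V),
            t ∈ E ∧ t ≠ 1 ∧ t ^ p = 1 := by
        intro E hE
        obtain ⟨e⟩ := d.hiso E hE
        obtain ⟨a, b, ha1, hb1, hap, hbp, -⟩ := ffx_gen_pair e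
        have haH : (a : FFHol V) ∈ (Cfsg.thompsonSubgroup p K).map (ffbHom V) := d.hle E hE a.2
        have hap' : (a : FFHol V) ^ p = 1 := by
          have := congrArg Subtype.val hap
          simpa using this
        obtain ⟨h, hh, hconj⟩ := ffx_exists_conj_in_sylow S (Cfsg.thompsonSubgroup p K)
          (ffbHom V) haH hap'
        refine ⟨h * (a : FFHol V) * h⁻¹, hconj, ?_, ?_, ?_⟩
        · exact (Subgroup.mem_normalizer_iff.mp (hnorm E hE hh) a).mp a.2
        · intro h1
          apply ha1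
          apply Subtype.ext
          have : (a : FFHol V) = h⁻¹ * (h * (a : FFHol V) * h⁻¹) * h := by group
          rw [this, h1]
          simp
        · rw [conj_pow, hap']
          simp
      have h1 := ffx_le d hsup _ hT
      have h3 : ((S : Subgroup K) ⊓ Cfsg.thompsonSubgroup p K).map (ffbHom V) ⊔
          ((Cfsg.thompsonSubgroup p K).map (ffbHom V) ⊓
            Subgroup.centralizer ((𝔛.map (ffxHom V hchar) : Subgroup (FFHol V)) : Set (FFHol V))) ≤
          L.map (ffbHom V) := by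
        apply sup_le
        · exact Subgroup.map_mono (le_trans inf_le_left hSL)
        · rintro _ ⟨⟨j', hj', rfl⟩, hyB⟩
          obtain ⟨k, hkfix, hk⟩ := ffx_lift V hchar 𝔛 h𝔛 hq j' (by
            intro α hα
            rw [ffx_equivariant V hchar]
            have := Subgroup.mem_centralizer_iff.mp hyB (ffxHom V hchar α) ⟨α, hα, rfl⟩
            rw [this, mul_inv_cancel_right])
          exact ⟨k, hFL (hF k hkfix), hk⟩
      intro j hj
      obtain ⟨l, hl, hlj⟩ := h3 (h1 (Subgroup.mem_map_of_mem (ffbHom V) hj))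
      have h4 : l⁻¹ * j ∈ Subgroup.centralizer (V : Set K) := by
        rw [← ffbHom_eq_one_iff, map_mul, map_inv, hlj, inv_mul_cancel]
      have h5 : j = l * (l⁻¹ * j) := by group
      rw [h5]
      exact L.mul_mem hl (hCVL h4)
  -- Frattini argument
  have hCn : (Subgroup.centralizer (V : Set K)).Normal := Subgroup.normal_centralizer
  have hMn : (Cfsg.thompsonSubgroup p K ⊔ Subgroup.centralizer (V : Set K)).Normal :=
    Subgroup.sup_normal _ _
  rw [eq_top_iff]
  intro k _
  obtain ⟨l, hl, n, hn, rfl⟩ := Cfsg.Agent.Helper11.frattini_inf S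
    (Cfsg.thompsonSubgroup p K ⊔ Subgroup.centralizer (V : Set K)) k
  exact L.mul_mem ((sup_le hJL hCVL) hl)
    (hNL (ffx_normalizer_le S _ le_sup_left hn))

end

section

variable {G : Type*} [Group G]

/-- Conjugation action of a subgroup `X` normalizing `K` on `K`. -/
def ffxConj (K X : Subgroup G) (hXK : X ≤ Subgroup.normalizer (K : Set G)) : ↥X →* MulAut ↥K where
  toFun x :=
    { toFun := fun k => ⟨(x : G) * k * (x : G)⁻¹,
        (Subgroup.mem_normalizer_iff.mp (hXK x.2) k).mp k.2⟩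
      invFun := fun k => ⟨(x : G)⁻¹ * k * (x : G), by
        have := (Subgroup.mem_normalizer_iff.mp (Subgroup.inv_mem _ (hXK x.2)) k).mp k.2
        simpa using this⟩
      left_inv := fun k => Subtype.ext (by simp [mul_assoc])
      right_inv := fun k => Subtype.ext (by simp [mul_assoc])
      map_mul' := fun k k' => Subtype.ext (by simp [mul_assoc]) }
  map_one' := by
    ext k
    simp
  map_mul' := fun x y => by
    ext k
    simp [mul_assoc]

theorem ffxConj_apply (K X : Subgroup G) (hXK : X ≤ Subgroup.normalizer (K : Set G)) (x : ↥X)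
    (k : ↥K) : ((ffxConj K X hXK x k : ↥K) : G) = (x : G) * k * (x : G)⁻¹ := rfl

theorem ffxConj_isPGroup {q : ℕ} (K X : Subgroup G) (hXK : X ≤ Subgroup.normalizer (K : Set G))
    (hX : IsPGroup q X) : IsPGroup q (ffxConj K X hXK).range :=
  IsPGroup.of_surjective hX (ffxConj K X hXK).rangeRestrict
    (ffxConj K X hXK).rangeRestrict_surjective

theorem ffxConj_fixed (K X : Subgroup G) (hXK : X ≤ Subgroup.normalizer (K : Set G)) (k : ↥K) :
    (∀ α ∈ (ffxConj K X hXK).range, α k = k) ↔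
      k ∈ (Subgroup.centralizer (X : Set G)).subgroupOf K := by
  rw [Subgroup.mem_subgroupOf, Subgroup.mem_centralizer_iff]
  constructor
  · intro hk x hx
    have h1 := hk (ffxConj K X hXK ⟨x, hx⟩) ⟨_, rfl⟩
    have h2 : x * (k : G) * x⁻¹ = k := congrArg Subtype.val h1
    calc x * (k : G) = x * (k : G) * x⁻¹ * x := by group
      _ = (k : G) * x := by rw [h2]
  · rintro hk _ ⟨x, rfl⟩
    apply Subtype.ext
    rw [ffxConj_apply]
    have h1 := hk x x.2
    calc (x : G) * (k : G) * (x : G)⁻¹ = ((k : G) * (x : G)) * (x : G)⁻¹ := by rw [h1]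
      _ = (k : G) := by group

/-- Kurzweil–Stellmacher 9.3.9 for a `q`-subgroup `X` normalizing `K`. -/
theorem ffx_gen_subgroup [Finite G] {p q : ℕ} [Fact p.Prime] [Fact q.Prime] (K X : Subgroup G)
    (hXK : X ≤ Subgroup.normalizer (K : Set G)) (hX : IsPGroup q X) (hq : ¬ q ∣ Nat.card K)
    (hsep : Cfsg.IsPSolvable p ↥K) (hO : Cfsg.pPrimeCore p ↥K = ⊥) (S : Sylow p ↥K) :
    Subgroup.normalizer (Cfsg.thompsonSubgroupOf p (S : Subgroup ↥K) : Set ↥K) ⊔
      Subgroup.centralizer (Cfsg.omegaOne p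
        ((S : Subgroup ↥K) ⊓ Subgroup.centralizer ((S : Subgroup ↥K) : Set ↥K)) : Set ↥K) ⊔
      (Subgroup.centralizer (X : Set G)).subgroupOf K = ⊤ :=
  ffx_gen hsep hO (ffxConj K X hXK).range (ffxConj_isPGroup K X hXK hX) hq _
    (fun k hk => (ffxConj_fixed K X hXK k).mp hk) S

end

end Cfsg.Agent.Helper35
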