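import Mathlib
import Cfsg.Agent.Helper35.FFX5
import Cfsg.Agent.Helper10.Offender2

set_option autoImplicit false

/-!
# Diagonal planes for a `q`-group permuting the `SL(2, p)`-components (helper35)

In the situation of `FFXData` (a `q`-group `B`, `q ≥ 5`, permuting commuting copies `E` of
`SL(2, p)` inside `H'`), assume moreover that `H'` acts on a normal elementary abelian
`p`-subgroup `V'` such that the `[V', E]` are independent planes and `H'` acts faithfully on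
their join.  Then `C_{V'}(B)` contains a plane `W` on which `C_{H'}(B)` induces `SL(2, p)`.
-/

namespace Cfsg.Agent.Helper35

open scoped Pointwise commutatorElement

section

/-- Arithmetic: a divisor of `p²` congruent to `p²` modulo a prime `q ≥ 5` is `p²`
(`p ∈ {2, 3}`). -/
theorem ffy_arith {p q n : ℕ} (h23 : p = 2 ∨ p = 3) (hq : q.Prime) (hq5 : 5 ≤ q)
    (hdvd : n ∣ p ^ 2) (hmod : p ^ 2 ≡ n [MOD q]) : n = p ^ 2 := by
  have hpos : 0 < p ^ 2 := by rcases h23 with h | h <;> subst h <;> norm_num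
  have hle : n ≤ p ^ 2 := Nat.le_of_dvd hpos hdvd
  by_contra hne
  have hlt : n < p ^ 2 := lt_of_le_of_ne hle hne
  have h1 : q ∣ p ^ 2 - n := (Nat.modEq_iff_dvd' hle).mp hmod.symm
  have h2 : q ≤ p ^ 2 - n := Nat.le_of_dvd (by omega) h1
  rcases h23 with h | h
  · subst h
    norm_num at hdvd h1 h2 hlt
    omega
  · subst h
    norm_num at hdvd h1 h2 hlt
    have hn : n = 1 ∨ n = 3 := by
      have : n ∣ 3 ^ 2 := by norm_num; exact hdvd
      obtain ⟨j, hj, rfl⟩ := (Nat.dvd_prime_pow Nat.prime_three).mp this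
      interval_cases j
      · left; rfl
      · right; rfl
      · norm_num at hlt
    rcases hn with rfl | rfl
    · have h8 : q ∣ 2 ^ 3 := by norm_num; exact h1
      have := Nat.le_of_dvd (by norm_num) (hq.dvd_of_dvd_pow h8)
      omega
    · have h6 : q ∣ 2 * 3 := by norm_num; exact h1
      rcases (Nat.Prime.dvd_mul hq).mp h6 with h | h
      · have := Nat.le_of_dvd (by norm_num) h
        omega
      · have := Nat.le_of_dvd (by norm_num) h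
        omega

/-- An automorphism of `q`-power order (`q ≥ 5` prime) of a group of order `p²`
(`p ∈ {2, 3}`) is trivial. -/
theorem ffy_aut_trivial {W : Type*} [Group W] {p q : ℕ} (h23 : p = 2 ∨ p = 3)
    (hW : Nat.card W = p ^ 2) (hq : q.Prime) (hq5 : 5 ≤ q) (β : MulAut W) (k : ℕ)
    (hβ : β ^ (q ^ k) = 1) : β = 1 := by
  have hpos : Nat.card W ≠ 0 := by
    rw [hW]
    rcases h23 with h | h <;> subst h <;> norm_num
  have : Finite W := Nat.finite_of_card_ne_zero hpos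
  have : Fact q.Prime := ⟨hq⟩
  have hpg : IsPGroup q ↥(Subgroup.zpowers β) := by
    rintro ⟨γ, hγ⟩
    obtain ⟨i, rfl⟩ := Subgroup.mem_zpowers_iff.mp hγ
    refine ⟨k, Subtype.ext ?_⟩
    show (β ^ i) ^ q ^ k = 1
    rw [← zpow_natCast, ← zpow_mul, mul_comm, zpow_mul, zpow_natCast, hβ, one_zpow]
  have hmod := hpg.card_modEq_card_fixedPoints W
  have hcard : Nat.card (MulAction.fixedPoints ↥(Subgroup.zpowers β) W) =
      Nat.card ↥(FixedPoints.subgroup ↥(Subgroup.zpowers β) W) := rfl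
  have hdvd : Nat.card ↥(FixedPoints.subgroup ↥(Subgroup.zpowers β) W) ∣ p ^ 2 :=
    hW ▸ Subgroup.card_subgroup_dvd_card _
  rw [hcard, hW] at hmod
  have htop : FixedPoints.subgroup ↥(Subgroup.zpowers β) W = ⊤ := by
    apply Subgroup.eq_top_of_card_eq
    rw [hW]
    exact ffy_arith h23 hq hq5 hdvd hmod
  ext w
  have hw : w ∈ FixedPoints.subgroup ↥(Subgroup.zpowers β) W := by
    rw [htop]
    exact Subgroup.mem_top w
  exact hw ⟨β, Subgroup.mem_zpowers β⟩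

end

section

variable {Γ : Type*} [Group Γ]

/-- A projection onto the first factor of an internal direct product. -/
theorem ffy_proj (E R D : Subgroup Γ) (hcomm : ∀ x ∈ E, ∀ y ∈ R, x * y = y * x)
    (hdis : E ⊓ R = ⊥) (hD : D ≤ E ⊔ R) :
    ∃ ρ : ↥D →* ↥E, (∀ g : ↥D, ((ρ g : ↥E) : Γ)⁻¹ * (g : Γ) ∈ R) ∧
      ∀ (g : ↥D) (e : ↥E), (e : Γ)⁻¹ * (g : Γ) ∈ R → ρ g = e := by
  have hex : ∀ g : ↥D, ∃ e : ↥E, (e : Γ)⁻¹ * (g : Γ) ∈ R := by
    intro g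
    obtain ⟨a, ha, b, hb, hab⟩ := Cfsg.Agent.Helper10.mem_sup_of_commute' hcomm (hD g.2)
    refine ⟨⟨a, ha⟩, ?_⟩
    rw [hab]
    simpa using hb
  have huniq : ∀ (g : ↥D) (e e' : ↥E), (e : Γ)⁻¹ * (g : Γ) ∈ R → (e' : Γ)⁻¹ * (g : Γ) ∈ R →
      e = e' := by
    intro g e e' h1 h2
    have h3 : (e' : Γ)⁻¹ * (e : Γ) ∈ E ⊓ R := by
      refine ⟨E.mul_mem (E.inv_mem e'.2) e.2, ?_⟩
      have : (e' : Γ)⁻¹ * (e : Γ) = ((e' : Γ)⁻¹ * (g : Γ)) * ((e : Γ)⁻¹ * (g : Γ))⁻¹ := by group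
      rw [this]
      exact R.mul_mem h2 (R.inv_mem h1)
    rw [hdis, Subgroup.mem_bot] at h3
    apply Subtype.ext
    calc (e : Γ) = (e' : Γ) * ((e' : Γ)⁻¹ * (e : Γ)) := by group
      _ = (e' : Γ) := by rw [h3, mul_one]
  have hmul : ∀ (g g' : ↥D) (e e' : ↥E), (e : Γ)⁻¹ * (g : Γ) ∈ R → (e' : Γ)⁻¹ * (g' : Γ) ∈ R →
      ((e * e' : ↥E) : Γ)⁻¹ * ((g * g' : ↥D) : Γ) ∈ R := by
    intro g g' e e' h1 h2
    have h3 := hcomm _ e'.2 _ h1
    have h4 : ((e * e' : ↥E) : Γ)⁻¹ * ((g * g' : ↥D) : Γ) =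
        ((e : Γ)⁻¹ * (g : Γ)) * ((e' : Γ)⁻¹ * (g' : Γ)) := by
      rw [Subgroup.coe_mul, Subgroup.coe_mul]
      calc ((e : Γ) * (e' : Γ))⁻¹ * ((g : Γ) * (g' : Γ))
          = (e' : Γ)⁻¹ * (((e : Γ)⁻¹ * (g : Γ)) * (e' : Γ)) * (e' : Γ)⁻¹ * (g' : Γ) := by group
        _ = (e' : Γ)⁻¹ * ((e' : Γ) * ((e : Γ)⁻¹ * (g : Γ))) * (e' : Γ)⁻¹ * (g' : Γ) := by rw [h3]
        _ = ((e : Γ)⁻¹ * (g : Γ)) * ((e' : Γ)⁻¹ * (g' : Γ)) := by group
    rw [h4]
    exact R.mul_mem h1 h2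
  refine ⟨MonoidHom.mk' (fun g => Classical.choose (hex g)) ?_, ?_, ?_⟩
  · intro g g'
    exact huniq (g * g') _ _ (Classical.choose_spec (hex (g * g')))
      (hmul g g' _ _ (Classical.choose_spec (hex g)) (Classical.choose_spec (hex g')))
  · intro g
    exact Classical.choose_spec (hex g)
  · intro g e he
    exact huniq g _ _ (Classical.choose_spec (hex g)) he

/-- The data: `FFXData` together with the action on `V'`. -/
structure FFYData (p q : ℕ) (𝓔 : Set (Subgroup Γ)) (H' B V' : Subgroup Γ) : Prop where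
  base : FFXData p q 𝓔 H' B
  hVn : V'.Normal
  hVab : ∀ v ∈ V', ∀ w ∈ V', v * w = w * v
  hVp : ∀ v ∈ V', v ^ p = 1
  hnorm : ∀ E ∈ 𝓔, H' ≤ Subgroup.normalizer (E : Set Γ)
  hsup : sSup 𝓔 = H'
  hcard : ∀ E ∈ 𝓔, Nat.card ↥(⁅V', E⁆) = p ^ 2
  hindep : ∀ E ∈ 𝓔, ∃ M : Subgroup Γ, Disjoint ⁅V', E⁆ M ∧ ∀ E' ∈ 𝓔, E' ≠ E → ⁅V', E'⁆ ≤ M
  hcent : ∀ x ∈ H', (∀ E ∈ 𝓔, ∀ w ∈ ⁅V', E⁆, x * w = w * x) → x = 1

variable {p q : ℕ} {𝓔 : Set (Subgroup Γ)} {H' B V' : Subgroup Γ}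

theorem ffy_comm_le (d : FFYData p q 𝓔 H' B V') (E : Subgroup Γ) : ⁅V', E⁆ ≤ V' := by
  have := d.hVn
  exact Subgroup.commutator_le_left V' E

theorem ffy_conj_comm (d : FFYData p q 𝓔 H' B V') (g : Γ) (E : Subgroup Γ) :
    (⁅V', E⁆).map (MulAut.conj g).toMonoidHom = ⁅V', E.map (MulAut.conj g).toMonoidHom⁆ := by
  have := d.hVn
  have hg : g ∈ Subgroup.normalizer (V' : Set Γ) := by
    rw [Subgroup.normalizer_eq_top]
    exact Subgroup.mem_top g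
  rw [Subgroup.map_commutator, ffx_map_conj_eq hg]

theorem ffy_conj_mem (d : FFYData p q 𝓔 H' B V') {E : Subgroup Γ} {g : Γ}
    (hg : g ∈ Subgroup.normalizer (E : Set Γ)) {w : Γ} (hw : w ∈ ⁅V', E⁆) :
    g * w * g⁻¹ ∈ ⁅V', E⁆ := by
  have h1 : g * w * g⁻¹ ∈ (⁅V', E⁆).map (MulAut.conj g).toMonoidHom := ⟨w, hw, rfl⟩
  rw [ffy_conj_comm d, ffx_map_conj_eq hg] at h1
  exact h1

/-- Distinct components centralize each other's planes. -/
theorem ffy_other_centralizes (d : FFYData p q 𝓔 H' B V') {E E' : Subgroup Γ} (hE : E ∈ 𝓔)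
    (hE' : E' ∈ 𝓔) (hne : E' ≠ E) : ∀ x ∈ E', ∀ w ∈ ⁅V', E⁆, x * w = w * x := by
  intro x hx w hw
  obtain ⟨M, hdis, hM⟩ := d.hindep E hE
  have hxN : x ∈ Subgroup.normalizer (E : Set Γ) := d.hnorm E hE (d.base.hle E' hE' hx)
  have h1 : x * w * x⁻¹ * w⁻¹ ∈ ⁅V', E⁆ :=
    Subgroup.mul_mem _ (ffy_conj_mem d hxN hw) (Subgroup.inv_mem _ hw)
  have h2 : x * w * x⁻¹ * w⁻¹ ∈ M := by
    apply hM E' hE' hne
    rw [Subgroup.commutator_comm]
    exact Subgroup.commutator_mem_commutator hx (ffy_comm_le d E hw)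
  have h3 : x * w * x⁻¹ * w⁻¹ ∈ ⁅V', E⁆ ⊓ M := ⟨h1, h2⟩
  rw [disjoint_iff.mp hdis, Subgroup.mem_bot] at h3
  calc x * w = (x * w * x⁻¹ * w⁻¹) * (w * x) := by group
    _ = w * x := by rw [h3, one_mul]

/-- The join of the other components centralizes the plane of `E`. -/
theorem ffy_rest_centralizes (d : FFYData p q 𝓔 H' B V') {E : Subgroup Γ} (hE : E ∈ 𝓔) :
    ∀ x ∈ sSup (𝓔 \ {E}), ∀ w ∈ ⁅V', E⁆, x * w = w * x := by
  have hle : sSup (𝓔 \ {E}) ≤ Subgroup.centralizer ((⁅V', E⁆ : Subgroup Γ) : Set Γ) := by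
    apply sSup_le
    rintro E' ⟨hE', hne⟩ x hx
    refine Subgroup.mem_centralizer_iff.mpr ?_
    intro w hw
    exact (ffy_other_centralizes d hE hE' hne x hx w hw).symm
  intro x hx w hw
  exact (Subgroup.mem_centralizer_iff.mp (hle hx) w hw).symm

variable [Finite Γ] [Fact p.Prime] [Fact q.Prime]

omit [Fact p.Prime] in
/-- The stabilizer in `B` of a component centralizes its plane. -/
theorem ffy_stab_centralizes (d : FFYData p q 𝓔 H' B V') {E : Subgroup Γ} (hE : E ∈ 𝓔) {b : Γ}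
    (hb : b ∈ B) (hbN : b ∈ Subgroup.normalizer (E : Set Γ)) :
    ∀ w ∈ ⁅V', E⁆, b * w * b⁻¹ = w := by
  obtain ⟨N, hN⟩ : ∃ N : Subgroup Γ, N = Subgroup.normalizer ((⁅V', E⁆ : Subgroup Γ) : Set Γ) :=
    ⟨_, rfl⟩
  have hWN : ⁅V', E⁆ ≤ N := hN ▸ Subgroup.le_normalizer
  have hnorm : ((⁅V', E⁆ : Subgroup Γ).subgroupOf N).Normal := by
    rw [hN]
    exact Subgroup.normal_in_normalizer
  have hcard : Nat.card ↥((⁅V', E⁆ : Subgroup Γ).subgroupOf N) = p ^ 2 := by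
    rw [Nat.card_congr (Subgroup.subgroupOfEquivOfLe hWN).toEquiv]
    exact d.hcard E hE
  obtain ⟨k, hk⟩ := d.base.hB ⟨b, hb⟩
  have hbk : b ^ (q ^ k) = 1 := by
    have := congrArg Subtype.val hk
    simpa using this
  have hbN' : b ∈ N := by
    rw [hN]
    apply Subgroup.mem_normalizer_fintype
    intro w hw
    exact ffy_conj_mem d hbN hw
  have hβ : (MulAut.conjNormal (⟨b, hbN'⟩ : ↥N) :
      MulAut ↥((⁅V', E⁆ : Subgroup Γ).subgroupOf N)) ^ (q ^ k) = 1 := by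
    rw [← map_pow]
    have : (⟨b, hbN'⟩ : ↥N) ^ (q ^ k) = 1 := Subtype.ext (by simpa using hbk)
    rw [this, map_one]
  have hβ1 := ffy_aut_trivial d.base.h23 hcard (Fact.out : q.Prime) d.base.hq5 _ k hβ
  intro w hw
  have h2 := congrArg (fun γ : MulAut ↥((⁅V', E⁆ : Subgroup Γ).subgroupOf N) =>
    (((γ ⟨⟨w, hWN hw⟩, hw⟩ : ↥((⁅V', E⁆ : Subgroup Γ).subgroupOf N)) : ↥N) : Γ)) hβ1
  simpa [MulAut.conjNormal_apply] using h2

/-- The norm map of `B` on the plane of `E`. -/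
theorem ffy_norm (d : FFYData p q 𝓔 H' B V') {E : Subgroup Γ} (hE : E ∈ 𝓔) :
    ∃ ν : ↥(⁅V', E⁆) →* Γ, Function.Injective ν ∧ (∀ w, ν w ∈ V') ∧
      (∀ w, ∀ c ∈ B, c * ν w * c⁻¹ = ν w) ∧
      (∀ g ∈ Subgroup.centralizer (B : Set Γ), ∀ w w' : ↥(⁅V', E⁆),
        (w' : Γ) = g * (w : Γ) * g⁻¹ → ν w' = g * ν w * g⁻¹) := by
  classical
  have hq : q.Prime := Fact.out
  have hp : p.Prime := Fact.out
  have : Fintype ↥B := Fintype.ofFinite _
  have := d.hVn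
  let _instV : CommGroup ↥V' :=
    { (inferInstance : Group ↥V') with
      mul_comm := fun a b => Subtype.ext (d.hVab a a.2 b b.2) }
  obtain ⟨c, hc⟩ : ∃ c : ↥B → (↥(⁅V', E⁆) →* ↥V'),
      ∀ (b : ↥B) (w : ↥(⁅V', E⁆)), ((c b w : ↥V') : Γ) = (b : Γ) * (w : Γ) * (b : Γ)⁻¹ :=
    ⟨fun b =>
      { toFun := fun w => ⟨(b : Γ) * (w : Γ) * (b : Γ)⁻¹,
          d.hVn.conj_mem _ (ffy_comm_le d E w.2) _⟩
        map_one' := Subtype.ext (by simp)
        map_mul' := fun w w' => Subtype.ext (by simp [mul_assoc]) }, fun b w => rfl⟩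
  obtain ⟨κ, hκ⟩ : ∃ κ : Γ → (↥V' →* ↥V'),
      ∀ (g : Γ) (v : ↥V'), ((κ g v : ↥V') : Γ) = g * (v : Γ) * g⁻¹ :=
    ⟨fun g =>
      { toFun := fun v => ⟨g * (v : Γ) * g⁻¹, d.hVn.conj_mem _ v.2 _⟩
        map_one' := Subtype.ext (by simp)
        map_mul' := fun v v' => Subtype.ext (by simp [mul_assoc]) }, fun g v => rfl⟩
  obtain ⟨ν₀, hν₀⟩ : ∃ ν₀ : ↥(⁅V', E⁆) →* ↥V', ν₀ = ∏ b : ↥B, c b := ⟨_, rfl⟩
  have hν₀' : ∀ w, ν₀ w = ∏ b : ↥B, c b w := by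
    intro w
    rw [hν₀, MonoidHom.finsetProd_apply]
  refine ⟨V'.subtype.comp ν₀, ?_, ?_, ?_, ?_⟩
  · -- injectivity
    apply V'.subtype_injective.comp
    rw [injective_iff_map_eq_one]
    intro w hw
    obtain ⟨F, hF⟩ : ∃ F : Finset ↥B, F = Finset.univ.filter
      (fun b : ↥B => (b : Γ) ∈ Subgroup.normalizer (E : Set Γ)) := ⟨_, rfl⟩
    have hFcard : ∃ s : ℕ, F.card = q ^ s := by
      obtain ⟨s, hs⟩ :=
        (d.base.hB.to_subgroup ((Subgroup.normalizer (E : Set Γ)).subgroupOf B)).exists_card_eq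
      refine ⟨s, ?_⟩
      rw [← hs, hF, Nat.card_eq_fintype_card, Fintype.card_subtype]
      rfl
    obtain ⟨s, hs⟩ := hFcard
    obtain ⟨M, hdis, hM⟩ := d.hindep E hE
    rw [hν₀', ← Finset.prod_mul_prod_compl F] at hw
    have hfirst : ∏ b ∈ F, c b w = (⟨(w : Γ), ffy_comm_le d E w.2⟩ : ↥V') ^ F.card := by
      apply Finset.prod_eq_pow_card
      intro b hb
      rw [hF, Finset.mem_filter] at hb
      apply Subtype.ext
      rw [hc]
      exact ffy_stab_centralizes d hE b.2 hb.2 _ w.2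
    have hsecond : ∏ b ∈ Fᶜ, c b w ∈ M.subgroupOf V' := by
      apply Subgroup.prod_mem
      intro b hb
      rw [Finset.mem_compl, hF, Finset.mem_filter] at hb
      have hne : E.map (MulAut.conj (b : Γ)).toMonoidHom ≠ E := by
        intro h
        exact hb ⟨Finset.mem_univ _, ffx_mem_normalizer_of_map_eq h⟩
      rw [Subgroup.mem_subgroupOf, hc]
      apply hM _ (d.base.hBE b b.2 E hE) hne
      rw [← ffy_conj_comm d]
      exact ⟨w, w.2, rfl⟩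
    rw [hfirst] at hw
    have hw1 : (w : Γ) ^ F.card ∈ ⁅V', E⁆ ⊓ M := by
      refine ⟨Subgroup.pow_mem _ w.2 _, ?_⟩
      have h1 : (⟨(w : Γ), ffy_comm_le d E w.2⟩ : ↥V') ^ F.card = (∏ b ∈ Fᶜ, c b w)⁻¹ :=
        eq_inv_of_mul_eq_one_left hw
      have h2 : (⟨(w : Γ), ffy_comm_le d E w.2⟩ : ↥V') ^ F.card ∈ M.subgroupOf V' := by
        rw [h1]
        exact Subgroup.inv_mem _ hsecond
      exact h2
    rw [disjoint_iff.mp hdis, Subgroup.mem_bot, hs] at hw1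
    have hwp : (w : Γ) ^ p = 1 := d.hVp _ (ffy_comm_le d E w.2)
    have hpq : p ≠ q := by
      have := d.base.hq5
      rcases d.base.h23 with h | h <;> omega
    have hcop : Nat.Coprime p (q ^ s) :=
      Nat.Coprime.pow_right _ ((Nat.coprime_primes hp hq).mpr hpq)
    have ho1 : orderOf (w : Γ) ∣ q ^ s := orderOf_dvd_of_pow_eq_one hw1
    have ho2 : orderOf (w : Γ) ∣ p := orderOf_dvd_of_pow_eq_one hwp
    have ho : orderOf (w : Γ) = 1 :=
      Nat.Coprime.eq_one_of_dvd (Nat.Coprime.coprime_dvd_left ho2 hcop) ho1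
    exact Subtype.ext (orderOf_eq_one_iff.mp ho)
  · intro w
    exact (ν₀ w).2
  · -- `B`-invariance
    intro w cc hcc
    have h1 : cc * ((ν₀ w : ↥V') : Γ) * cc⁻¹ = ((κ cc (ν₀ w) : ↥V') : Γ) := (hκ cc _).symm
    show cc * ((ν₀ w : ↥V') : Γ) * cc⁻¹ = ((ν₀ w : ↥V') : Γ)
    rw [h1]
    congr 1
    rw [hν₀', map_prod]
    rw [← Equiv.prod_comp (Equiv.mulLeft (⟨cc, hcc⟩ : ↥B)) (fun b => c b w)]
    apply Finset.prod_congr rfl
    intro b _
    apply Subtype.ext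
    rw [hκ, hc, hc]
    show cc * ((b : Γ) * (w : Γ) * (b : Γ)⁻¹) * cc⁻¹ = (cc * (b : Γ)) * (w : Γ) * (cc * (b : Γ))⁻¹
    group
  · -- equivariance
    intro g hg w w' hww'
    have h1 : g * ((ν₀ w : ↥V') : Γ) * g⁻¹ = ((κ g (ν₀ w) : ↥V') : Γ) := (hκ g _).symm
    show ((ν₀ w' : ↥V') : Γ) = g * ((ν₀ w : ↥V') : Γ) * g⁻¹
    rw [h1]
    congr 1
    rw [hν₀', hν₀', map_prod]
    apply Finset.prod_congr rfl
    intro b _
    apply Subtype.ext
    rw [hκ, hc, hc, hww']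
    have hgb : (b : Γ) * g = g * (b : Γ) := Subgroup.mem_centralizer_iff.mp hg b b.2
    calc (b : Γ) * (g * (w : Γ) * g⁻¹) * (b : Γ)⁻¹
        = ((b : Γ) * g) * (w : Γ) * ((b : Γ) * g)⁻¹ := by group
      _ = (g * (b : Γ)) * (w : Γ) * (g * (b : Γ))⁻¹ := by rw [hgb]
      _ = g * ((b : Γ) * (w : Γ) * (b : Γ)⁻¹) * g⁻¹ := by group

/-- The diagonal plane: `C_{V'}(B)` contains a plane `W` of order `p²` normalized by
`C_{H'}(B)`, and `C_{H'}(B)` maps onto the component `E` with kernel the centralizer of `W`. -/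
theorem ffy_main (d : FFYData p q 𝓔 H' B V') {E : Subgroup Γ} (hE : E ∈ 𝓔) :
    ∃ W : Subgroup Γ, W ≤ V' ∧ W ≤ Subgroup.centralizer (B : Set Γ) ∧ Nat.card W = p ^ 2 ∧
      (∀ g ∈ H' ⊓ Subgroup.centralizer (B : Set Γ), ∀ w ∈ W, g * w * g⁻¹ ∈ W) ∧
      ∃ ρ : ↥(H' ⊓ Subgroup.centralizer (B : Set Γ)) →* ↥E, Function.Surjective ρ ∧
        ∀ g : ↥(H' ⊓ Subgroup.centralizer (B : Set Γ)),
          ρ g = 1 ↔ (g : Γ) ∈ Subgroup.centralizer (W : Set Γ) := by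
  obtain ⟨ν, hinj, hνV, hνB, hνeq⟩ := ffy_norm d hE
  have hR : ∀ x ∈ E, ∀ y ∈ sSup (𝓔 \ {E}), x * y = y * x := by
    have hle : sSup (𝓔 \ {E}) ≤ Subgroup.centralizer (E : Set Γ) := by
      apply sSup_le
      rintro E' ⟨hE', hne⟩ x hx
      refine Subgroup.mem_centralizer_iff.mpr ?_
      intro y hy
      exact d.base.hcomm E hE E' hE' (fun h => hne h.symm) y hy x hx
    intro x hx y hy
    exact Subgroup.mem_centralizer_iff.mp (hle hy) x hx
  have hRH : sSup (𝓔 \ {E}) ≤ H' := by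
    apply sSup_le
    rintro E' ⟨hE', -⟩
    exact d.base.hle E' hE'
  have hdis : E ⊓ sSup (𝓔 \ {E}) = ⊥ := by
    rw [eq_bot_iff]
    rintro x ⟨hxE, hxR⟩
    rw [Subgroup.mem_bot]
    apply d.hcent x (d.base.hle E hE hxE)
    intro E' hE' w hw
    by_cases h : E' = E
    · subst h
      exact ffy_rest_centralizes d hE' x hxR w hw
    · exact ffy_other_centralizes d hE' hE (fun h' => h h'.symm) x hxE w hw
  have hD : H' ⊓ Subgroup.centralizer (B : Set Γ) ≤ E ⊔ sSup (𝓔 \ {E}) := by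
    refine le_trans inf_le_left ?_
    rw [← d.hsup]
    apply sSup_le
    intro E' hE'
    by_cases h : E' = E
    · rw [h]
      exact le_sup_left
    · exact le_sup_of_le_right (le_sSup ⟨hE', h⟩)
  obtain ⟨ρ, hρ1, hρ2⟩ := ffy_proj E (sSup (𝓔 \ {E})) (H' ⊓ Subgroup.centralizer (B : Set Γ))
    hR hdis hD
  -- conjugation by elements of `H'` preserves the plane
  have hconj : ∀ g ∈ H', ∀ w : ↥(⁅V', E⁆), g * (w : Γ) * g⁻¹ ∈ ⁅V', E⁆ :=
    fun g hg w => ffy_conj_mem d (d.hnorm E hE hg) w.2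
  refine ⟨ν.range, ?_, ?_, ?_, ?_, ρ, ?_, ?_⟩
  · rintro _ ⟨w, rfl⟩
    exact hνV w
  · rintro _ ⟨w, rfl⟩
    refine Subgroup.mem_centralizer_iff.mpr ?_
    intro c hc
    have h1 := hνB w c hc
    calc c * ν w = c * ν w * c⁻¹ * c := by group
      _ = ν w * c := by rw [h1]
  · rw [← Nat.card_congr (MonoidHom.ofInjective hinj).toEquiv]
    exact d.hcard E hE
  · rintro g ⟨hgH, hgB⟩ _ ⟨w, rfl⟩
    exact ⟨⟨g * (w : Γ) * g⁻¹, hconj g hgH w⟩, hνeq g hgB w _ rfl⟩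
  · intro e
    obtain ⟨dd, hdd, c, hc, hddc⟩ := ffx_exists_fixed d.base hE e.2
    refine ⟨⟨dd, hdd⟩, hρ2 _ e ?_⟩
    show (e : Γ)⁻¹ * dd ∈ sSup (𝓔 \ {E})
    rw [hddc]
    simpa using hc
  · intro g
    constructor
    · intro hg
      have hgR : (g : Γ) ∈ sSup (𝓔 \ {E}) := by
        have := hρ1 g
        rw [hg] at this
        simpa using this
      refine Subgroup.mem_centralizer_iff.mpr ?_
      rintro _ ⟨w, rfl⟩
      have h1 : (g : Γ) * (w : Γ) * (g : Γ)⁻¹ = (w : Γ) := by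
        rw [ffy_rest_centralizes d hE _ hgR _ w.2]
        group
      have h2 := hνeq (g : Γ) g.2.2 w w h1.symm
      calc ν w * (g : Γ) = (g : Γ) * ν w * (g : Γ)⁻¹ * (g : Γ) := by rw [← h2]
        _ = (g : Γ) * ν w := by group
    · intro hg
      have hr := hρ1 g
      have key : ∀ w ∈ ⁅V', E⁆, (g : Γ) * w = w * (g : Γ) := by
        intro w hw
        have h2 := hνeq (g : Γ) g.2.2 ⟨w, hw⟩ ⟨(g : Γ) * w * (g : Γ)⁻¹, hconj _ g.2.1 ⟨w, hw⟩⟩ rfl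
        have h3 : (g : Γ) * ν ⟨w, hw⟩ * (g : Γ)⁻¹ = ν ⟨w, hw⟩ := by
          have := Subgroup.mem_centralizer_iff.mp hg (ν ⟨w, hw⟩) ⟨_, rfl⟩
          rw [← this]
          group
        rw [h3] at h2
        have h4 := congrArg Subtype.val (hinj h2)
        have h5 : (g : Γ) * w * (g : Γ)⁻¹ = w := h4
        calc (g : Γ) * w = (g : Γ) * w * (g : Γ)⁻¹ * (g : Γ) := by group
          _ = w * (g : Γ) := by rw [h5]
      have he1 : ((ρ g : ↥E) : Γ) = 1 := by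
        apply d.hcent _ (d.base.hle E hE (ρ g).2)
        intro E' hE' w hw
        by_cases h : E' = E
        · subst h
          have h6 := ffy_rest_centralizes d hE' _ hr w hw
          have h7 := key w hw
          have h8 : (g : Γ) = ((ρ g : ↥E') : Γ) * (((ρ g : ↥E') : Γ)⁻¹ * (g : Γ)) := by group
          rw [h8] at h7
          calc ((ρ g : ↥E') : Γ) * w
              = ((ρ g : ↥E') : Γ) * (w * (((ρ g : ↥E') : Γ)⁻¹ * (g : Γ))) *
                (((ρ g : ↥E') : Γ)⁻¹ * (g : Γ))⁻¹ := by group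
            _ = ((ρ g : ↥E') : Γ) * ((((ρ g : ↥E') : Γ)⁻¹ * (g : Γ)) * w) *
                (((ρ g : ↥E') : Γ)⁻¹ * (g : Γ))⁻¹ := by rw [h6]
            _ = (((ρ g : ↥E') : Γ) * (((ρ g : ↥E') : Γ)⁻¹ * (g : Γ)) * w) *
                (((ρ g : ↥E') : Γ)⁻¹ * (g : Γ))⁻¹ := by group
            _ = (w * (((ρ g : ↥E') : Γ) * (((ρ g : ↥E') : Γ)⁻¹ * (g : Γ)))) *
                (((ρ g : ↥E') : Γ)⁻¹ * (g : Γ))⁻¹ := by rw [h7]
            _ = w * ((ρ g : ↥E') : Γ) := by group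
        · exact ffy_other_centralizes d hE' hE (fun h' => h h'.symm) _ (ρ g).2 w hw
      exact Subtype.ext he1

end

end Cfsg.Agent.Helper35
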