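import Mathlib
import Cfsg.Agent.Helper35.FFX6

set_option autoImplicit false

/-!
# Kurzweil–Stellmacher 9.3.10: fixed points of a coprime operator group involve `SL(2, p)`
(helper35)

`K` is `p`-solvable with `O_{p'}(K) = 1` and not Thompson factorizable; `𝔛` is a `q`-group of
automorphisms with `q ∤ |K|`.  Then `p ∈ {2, 3}` and `C_K(𝔛)` contains a plane `W` of order
`p²` and a subgroup `D` normalizing `W` with `D / C_D(W) ≅ SL(2, p)`.
-/

namespace Cfsg.Agent.Helper35

open scoped Pointwise commutatorElement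

section

variable {K : Type*} [Group K] [Finite K]

/-- The components of the image of `J` in the holomorph of `V` form an `FFYData`. -/
theorem ffy_setup {p q : ℕ} [Fact p.Prime] [Fact q.Prime] (V : Subgroup K) [V.Normal]
    (hchar : ∀ α : MulAut K, ∀ v ∈ V, α v ∈ V)
    (hV : Cfsg.IsElementaryAbelian p V) (hsep : Cfsg.IsPSolvable p K)
    (hOp : ∀ P : Subgroup K, P.Normal →
      (∀ x ∈ P, ∃ k : ℕ, x ^ (p ^ k) ∈ Subgroup.centralizer (V : Set K)) →
      P ≤ Subgroup.centralizer (V : Set K))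
    (J : Subgroup K) [J.Normal] (hJchar : ∀ α : MulAut K, ∀ x ∈ J, α x ∈ J)
    (hgen : J = ⨆ A : {A : Subgroup K // A ≤ J ∧ Cfsg.IsBestOffenderOn p V A}, (A : Subgroup K))
    (hJ : ¬ J ≤ Subgroup.centralizer (V : Set K))
    (𝔛 : Subgroup (MulAut K)) (h𝔛 : IsPGroup q 𝔛) (hq : ¬ q ∣ Nat.card K) :
    FFYData p q {E : Subgroup (FFHol V) | ffxComp p (ffbV V) (J.map (ffbHom V)) E}
      (J.map (ffbHom V)) (𝔛.map (ffxHom V hchar)) (ffbV V) ∧
    ∃ E : Subgroup (FFHol V), ffxComp p (ffbV V) (J.map (ffbHom V)) E := by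
  have hH1 : J.map (ffbHom V) ≠ ⊥ := by
    intro h
    apply hJ
    rw [← ffbHom_ker, ← Subgroup.map_eq_bot_iff]
    exact h
  obtain ⟨dX, hsup, hnorm⟩ := ffx_setup V hchar hV hsep hOp J hJchar hgen hJ 𝔛 h𝔛 hq
  obtain ⟨h23, hE, hind, hsupI, hindO, hdec⟩ := fff_components V hV hsep hOp J hgen hJ
  have hVab := (Cfsg.Agent.Helper10.elemAb_iff p (ffbV V)).mp (ffbV_elemAb V hV)
  have hne : ∃ E : Subgroup (FFHol V), ffxComp p (ffbV V) (J.map (ffbHom V)) E := by
    by_contra hempty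
    rw [not_exists] at hempty
    have : IsEmpty {E : Subgroup (FFHol V) // ffxComp p (ffbV V) (J.map (ffbHom V)) E} :=
      ⟨fun E => hempty E.1 E.2⟩
    rw [iSup_of_empty] at hsupI
    exact hH1 hsupI.symm
  refine ⟨⟨dX, inferInstance, hVab.1, hVab.2, hnorm, hsup, fun E hE' => (hE ⟨E, hE'⟩).2.2, ?_, ?_⟩,
    hne⟩
  · -- independence of the planes
    intro E hE'
    refine ⟨_, hindO (some ⟨E, hE'⟩), ?_⟩
    intro E' hE'' hne'
    exact le_iSup₂_of_le (some (⟨E', hE''⟩ :
      {E : Subgroup (FFHol V) // ffxComp p (ffbV V) (J.map (ffbHom V)) E}))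
      (fun h => hne' (congrArg Subtype.val (Option.some.inj h))) le_rfl
  · -- faithfulness on the join of the planes
    intro x hx hcen
    have hle : ffbV V ≤ Subgroup.centralizer ({x} : Set (FFHol V)) := by
      refine le_trans (le_of_eq hdec.symm) (sup_le ?_ (iSup_le ?_))
      · rintro v ⟨-, hv⟩
        refine Subgroup.mem_centralizer_iff.mpr ?_
        intro z hz
        rw [Set.mem_singleton_iff] at hz
        subst hz
        exact Subgroup.mem_centralizer_iff.mp hv z hx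
      · rintro ⟨E, hE'⟩ w hw
        refine Subgroup.mem_centralizer_iff.mpr ?_
        intro z hz
        rw [Set.mem_singleton_iff] at hz
        subst hz
        exact hcen E hE' w hw
    have hx1 : x ∈ J.map (ffbHom V) ⊓
        Subgroup.centralizer ((ffbV V : Subgroup (FFHol V)) : Set (FFHol V)) := by
      refine ⟨hx, Subgroup.mem_centralizer_iff.mpr ?_⟩
      intro v hv
      exact (Subgroup.mem_centralizer_iff.mp (hle hv) x rfl).symm
    rw [ffb_faithful V J, Subgroup.mem_bot] at hx1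
    exact hx1

/-- Kurzweil–Stellmacher 9.3.10 for a `q`-group `𝔛` of automorphisms. -/
theorem ffy_K {p q : ℕ} [Fact p.Prime] [Fact q.Prime] (hsep : Cfsg.IsPSolvable p K)
    (hO : Cfsg.pPrimeCore p K = ⊥) (hnf : ¬ Cfsg.IsThompsonFactorizable p K)
    (𝔛 : Subgroup (MulAut K)) (h𝔛 : IsPGroup q 𝔛) (hq : ¬ q ∣ Nat.card K) :
    (p = 2 ∨ p = 3) ∧ ∃ W D : Subgroup K, (∀ w ∈ W, ∀ α ∈ 𝔛, α w = w) ∧
      (∀ g ∈ D, ∀ α ∈ 𝔛, α g = g) ∧ Cfsg.IsElementaryAbelian p W ∧ Nat.card W = p ^ 2 ∧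
      D ≤ Subgroup.normalizer (W : Set K) ∧
      ∃ f : ↥D →* Matrix.SpecialLinearGroup (Fin 2) (ZMod p), Function.Surjective f ∧
        ∀ g : ↥D, f g = 1 ↔ (g : K) ∈ Subgroup.centralizer (W : Set K) := by
  obtain ⟨V, hVdef⟩ : ∃ V : Subgroup K, V = ⨆ S : Sylow p K, Cfsg.omegaOne p
      ((S : Subgroup K) ⊓ Subgroup.centralizer ((S : Subgroup K) : Set K)) := ⟨_, rfl⟩
  have hVn : V.Normal := hVdef ▸ fff_V_normal p
  have hV : Cfsg.IsElementaryAbelian p V := hVdef ▸ fff_V_elemAb hsep hO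
  have hchar : ∀ α : MulAut K, ∀ v ∈ V, α v ∈ V := by
    rw [hVdef]
    exact ffx_V_char p
  have hJn : (Cfsg.thompsonSubgroup p K).Normal := fff_thompson_normal p
  have hJ : ¬ Cfsg.thompsonSubgroup p K ≤ Subgroup.centralizer (V : Set K) :=
    fun h => hnf (fff_factorizable V hVdef h)
  obtain ⟨d, E, hE⟩ := ffy_setup V hchar hV hsep (fff_hOp V hVdef)
    (Cfsg.thompsonSubgroup p K) (ffx_thompson_char p) (fff_thompson_gen V hV) hJ 𝔛 h𝔛 hq
  have hfin : Finite (FFHol V) := ffb_finite V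
  obtain ⟨W', hW'V, hW'B, hW'card, hW'inv, ρ, hρs, hρk⟩ := ffy_main d hE
  obtain ⟨e⟩ := d.base.hiso E hE
  refine ⟨d.base.h23, ?_⟩
  -- the fixed points of `𝔛`
  obtain ⟨Fx, hFx⟩ : ∃ Fx : Subgroup K, ∀ k : K, k ∈ Fx ↔ ∀ α ∈ 𝔛, α k = k :=
    ⟨{ carrier := {k : K | ∀ α ∈ 𝔛, α k = k}
       mul_mem' := by
         intro a b ha hb α hα
         rw [map_mul, ha α hα, hb α hα]
       one_mem' := fun α _ => map_one α
       inv_mem' := by
         intro a ha α hα
         rw [map_inv, ha α hα] }, fun k => Iff.rfl⟩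
  -- facts on the plane
  have hWmem : ∀ y ∈ W', ∃ v : ↥V, (SemidirectProduct.inl v : FFHol V) = y ∧
      v ∈ W'.comap (SemidirectProduct.inl : ↥V →* FFHol V) := by
    intro y hy
    obtain ⟨v, rfl⟩ := hW'V hy
    exact ⟨v, rfl, hy⟩
  have hconjV : ∀ (g : K) (v : ↥V), g * (v : K) * g⁻¹ ∈ V := fun g v => hVn.conj_mem _ v.2 g
  have hψinl : ∀ (g : K) (v : ↥V), ffbHom V g * SemidirectProduct.inl v * (ffbHom V g)⁻¹ =
      (SemidirectProduct.inl (⟨g * (v : K) * g⁻¹, hconjV g v⟩ : ↥V) : FFHol V) := by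
    intro g v
    rw [ffbHom_conj]
    congr 1
  -- elements of `D` map into `C_{H'}(B)`
  have hDmem : ∀ g : K, g ∈ Fx ⊓ ((Cfsg.thompsonSubgroup p K).map (ffbHom V)).comap (ffbHom V) →
      ffbHom V g ∈ (Cfsg.thompsonSubgroup p K).map (ffbHom V) ⊓
        Subgroup.centralizer ((𝔛.map (ffxHom V hchar) : Subgroup (FFHol V)) : Set (FFHol V)) := by
    rintro g ⟨hg1, hg2⟩
    refine ⟨hg2, Subgroup.mem_centralizer_iff.mpr ?_⟩
    rintro _ ⟨α, hα, rfl⟩
    have h1 := ffx_equivariant V hchar α g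
    rw [(hFx g).mp hg1 α hα] at h1
    calc ffxHom V hchar α * ffbHom V g
        = ffxHom V hchar α * ffbHom V g * (ffxHom V hchar α)⁻¹ * ffxHom V hchar α := by group
      _ = ffbHom V g * ffxHom V hchar α := by rw [← h1]
  refine ⟨(W'.comap (SemidirectProduct.inl : ↥V →* FFHol V)).map V.subtype,
    Fx ⊓ ((Cfsg.thompsonSubgroup p K).map (ffbHom V)).comap (ffbHom V), ?_, ?_, ?_, ?_, ?_, ?_⟩
  · -- `W` is fixed by `𝔛`
    rintro _ ⟨v, hv, rfl⟩ α hα
    have hvW : (SemidirectProduct.inl v : FFHol V) ∈ W' := hv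
    have h1 := Subgroup.mem_centralizer_iff.mp (hW'B hvW) (ffxHom V hchar α) ⟨α, hα, rfl⟩
    have h2 := ffxHom_inl V hchar α v
    have h3 : (SemidirectProduct.inl (ffxRes V hchar α v) : FFHol V) = SemidirectProduct.inl v := by
      rw [← h2, h1]
      group
    have h4 := SemidirectProduct.inl_injective h3
    have h5 := congrArg (Subtype.val : ↥V → K) h4
    rw [ffxRes_apply] at h5
    exact h5
  · intro g hg α hα
    exact (hFx g).mp hg.1 α hα
  · exact Cfsg.Agent.Helper10.elemAb_of_le hV (Subgroup.map_subtype_le _)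
  · rw [Subgroup.card_map_of_injective V.subtype_injective, ← hW'card,
      ← Subgroup.card_map_of_injective (f := (SemidirectProduct.inl : ↥V →* FFHol V))
        SemidirectProduct.inl_injective, Subgroup.map_comap_eq_self hW'V]
  · -- `D` normalizes `W`
    intro g hg
    apply Subgroup.mem_normalizer_fintype
    rintro _ ⟨v, hv, rfl⟩
    have h1 := hW'inv _ (hDmem g hg) _ hv
    rw [hψinl] at h1
    exact ⟨⟨g * (v : K) * g⁻¹, hconjV g v⟩, h1, rfl⟩
  · -- the homomorphism onto `SL(2, p)`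
    obtain ⟨θ, hθ⟩ : ∃ θ : ↥(Fx ⊓ ((Cfsg.thompsonSubgroup p K).map (ffbHom V)).comap (ffbHom V)) →*
        ↥((Cfsg.thompsonSubgroup p K).map (ffbHom V) ⊓
          Subgroup.centralizer ((𝔛.map (ffxHom V hchar) : Subgroup (FFHol V)) : Set (FFHol V))),
        ∀ g, ((θ g : ↥((Cfsg.thompsonSubgroup p K).map (ffbHom V) ⊓
          Subgroup.centralizer ((𝔛.map (ffxHom V hchar) : Subgroup (FFHol V)) : Set (FFHol V)))) :
            FFHol V) = ffbHom V (g : K) :=
      ⟨MonoidHom.codRestrict ((ffbHom V).comp (Subgroup.subtype _)) _ (fun g => hDmem g g.2),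
        fun g => rfl⟩
    have hθs : Function.Surjective θ := by
      rintro ⟨y, hy⟩
      obtain ⟨j, hj, rfl⟩ := hy.1
      obtain ⟨k, hkfix, hk⟩ := ffx_lift V hchar 𝔛 h𝔛 hq j (by
        intro α hα
        rw [ffx_equivariant V hchar]
        have := Subgroup.mem_centralizer_iff.mp hy.2 (ffxHom V hchar α) ⟨α, hα, rfl⟩
        rw [this, mul_inv_cancel_right])
      refine ⟨⟨k, (hFx k).mpr hkfix, ?_⟩, Subtype.ext ?_⟩
      · show ffbHom V k ∈ (Cfsg.thompsonSubgroup p K).map (ffbHom V)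
        rw [hk]
        exact hy.1
      · rw [hθ]
        exact hk
    refine ⟨(e.toMonoidHom.comp ρ).comp θ, ?_, ?_⟩
    · exact (e.surjective.comp hρs).comp hθs
    · intro g
      have h1 : ((e.toMonoidHom.comp ρ).comp θ) g = 1 ↔ ρ (θ g) = 1 := by
        show e (ρ (θ g)) = 1 ↔ ρ (θ g) = 1
        rw [← map_one e, e.injective.eq_iff]
      rw [h1, hρk, hθ]
      constructor
      · intro hc
        refine Subgroup.mem_centralizer_iff.mpr ?_
        rintro _ ⟨v, hv, rfl⟩
        have hvW : (SemidirectProduct.inl v : FFHol V) ∈ W' := hv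
        have h2 := Subgroup.mem_centralizer_iff.mp hc _ hvW
        have h3 : ffbHom V (g : K) * SemidirectProduct.inl v * (ffbHom V (g : K))⁻¹ =
            (SemidirectProduct.inl v : FFHol V) := by
          rw [← h2]
          group
        rw [hψinl] at h3
        have h4 := congrArg (Subtype.val : ↥V → K) (SemidirectProduct.inl_injective h3)
        have h5 : (g : K) * (v : K) * (g : K)⁻¹ = (v : K) := h4
        show (v : K) * (g : K) = (g : K) * (v : K)
        calc (v : K) * (g : K) = (g : K) * (v : K) * (g : K)⁻¹ * (g : K) := by rw [h5]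
          _ = (g : K) * (v : K) := by group
      · intro hc
        refine Subgroup.mem_centralizer_iff.mpr ?_
        intro y hy
        obtain ⟨v, rfl, hv⟩ := hWmem y hy
        have h2 : (v : K) * (g : K) = (g : K) * (v : K) :=
          Subgroup.mem_centralizer_iff.mp hc _ ⟨v, hv, rfl⟩
        have h3 : ffbHom V (g : K) * SemidirectProduct.inl v * (ffbHom V (g : K))⁻¹ =
            (SemidirectProduct.inl v : FFHol V) := by
          rw [hψinl]
          congr 1
          apply Subtype.ext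
          show (g : K) * (v : K) * (g : K)⁻¹ = (v : K)
          rw [← h2]
          group
        calc (SemidirectProduct.inl v : FFHol V) * ffbHom V (g : K)
            = ffbHom V (g : K) * SemidirectProduct.inl v * (ffbHom V (g : K))⁻¹ *
              ffbHom V (g : K) := by rw [h3]
          _ = ffbHom V (g : K) * SemidirectProduct.inl v := by group

end

section

variable {G : Type*} [Group G]

/-- A surjective homomorphism with prescribed kernel gives the quotient isomorphism. -/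
theorem ffy_quot {D Q : Type*} [Group D] [Group Q] (N : Subgroup D) (f : D →* Q)
    (hf : Function.Surjective f) (hker : ∀ g : D, f g = 1 ↔ g ∈ N) :
    ∃ hn : N.Normal, Nonempty (D ⧸ N ≃* Q) := by
  have hN : N = f.ker := by
    ext g
    rw [MonoidHom.mem_ker, hker]
  subst hN
  exact ⟨inferInstance, ⟨QuotientGroup.quotientKerEquivOfSurjective f hf⟩⟩

/-- Kurzweil–Stellmacher 9.3.10 for a `q`-subgroup `X` normalizing `K`. -/
theorem ffy_subgroup [Finite G] {p q : ℕ} [Fact p.Prime] [Fact q.Prime] (K X : Subgroup G)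
    (hXK : X ≤ Subgroup.normalizer (K : Set G)) (hX : IsPGroup q X) (hq : ¬ q ∣ Nat.card K)
    (hsep : Cfsg.IsPSolvable p ↥K) (hO : Cfsg.pPrimeCore p ↥K = ⊥)
    (hnf : ¬ Cfsg.IsThompsonFactorizable p ↥K) :
    (p = 2 ∨ p = 3) ∧ ∃ W D : Subgroup G, W ≤ K ⊓ Subgroup.centralizer (X : Set G) ∧
      D ≤ K ⊓ Subgroup.centralizer (X : Set G) ∧ Cfsg.IsElementaryAbelian p W ∧
      Nat.card W = p ^ 2 ∧ D ≤ Subgroup.normalizer (W : Set G) ∧
      ∃ hn : ((Subgroup.centralizer (W : Set G)).subgroupOf D).Normal,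
        Nonempty ((↥D ⧸ (Subgroup.centralizer (W : Set G)).subgroupOf D) ≃*
          Matrix.SpecialLinearGroup (Fin 2) (ZMod p)) := by
  obtain ⟨h23, W₀, D₀, hWfix, hDfix, hWab, hWcard, hDW, f, hfs, hfk⟩ :=
    ffy_K hsep hO hnf (ffxConj K X hXK).range (ffxConj_isPGroup K X hXK hX) hq
  refine ⟨h23, W₀.map K.subtype, D₀.map K.subtype, ?_, ?_, ?_, ?_, ?_, ?_⟩
  · rintro _ ⟨w, hw, rfl⟩
    exact ⟨w.2, (ffxConj_fixed K X hXK w).mp (fun α hα => hWfix w hw α hα)⟩
  · rintro _ ⟨g, hg, rfl⟩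
    exact ⟨g.2, (ffxConj_fixed K X hXK g).mp (fun α hα => hDfix g hg α hα)⟩
  · exact Cfsg.Agent.Helper10.elemAb_map hWab _
  · rw [Subgroup.card_map_of_injective K.subtype_injective, hWcard]
  · rintro _ ⟨g, hg, rfl⟩
    apply Subgroup.mem_normalizer_fintype
    rintro _ ⟨w, hw, rfl⟩
    have h1 := (Subgroup.mem_normalizer_iff.mp (hDW hg) w).mp hw
    exact ⟨g * w * g⁻¹, h1, rfl⟩
  · obtain ⟨eD, heD⟩ : ∃ eD : ↥D₀ ≃* ↥(D₀.map K.subtype),
        ∀ k : ↥D₀, ((eD k : ↥(D₀.map K.subtype)) : G) = ((k : ↥K) : G) :=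
      ⟨D₀.equivMapOfInjective K.subtype K.subtype_injective, fun k => rfl⟩
    apply ffy_quot _ (f.comp eD.symm.toMonoidHom) (hfs.comp eD.symm.surjective)
    intro g
    have h1 : (f.comp eD.symm.toMonoidHom) g = 1 ↔ f (eD.symm g) = 1 := Iff.rfl
    have h2 : (((eD.symm g : ↥D₀) : ↥K) : G) = (g : G) := by
      rw [← heD, MulEquiv.apply_symm_apply]
    rw [h1, hfk, Subgroup.mem_subgroupOf, ← h2]
    constructor
    · intro hc
      refine Subgroup.mem_centralizer_iff.mpr ?_
      rintro _ ⟨w, hw, rfl⟩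
      have h3 := Subgroup.mem_centralizer_iff.mp hc w hw
      exact congrArg Subtype.val h3
    · intro hc
      refine Subgroup.mem_centralizer_iff.mpr ?_
      intro w hw
      have h3 := Subgroup.mem_centralizer_iff.mp hc (w : G) ⟨w, hw, rfl⟩
      exact Subtype.ext h3

end

end Cfsg.Agent.Helper35
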