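import Cfsg.Agent.Helper35.FsT9
import Cfsg.Agent.S5132

/-!
# Transport of fusion systems (part 10): simple and quasisimple systems, components
-/

set_option autoImplicit false

namespace Cfsg.Agent.Helper35

open Cfsg Cfsg.FusionSystem

variable {Ω₁ : Type*} [Group Ω₁] {Ω₂ : Type*} [Group Ω₂]

/-- Simplicity is preserved and reflected. -/
theorem fstMap_simple_iff (ι : Ω₁ →* Ω₂) (hι : Function.Injective ι) {U : Subgroup Ω₁} [Finite U]
    (p : ℕ) [Fact p.Prime] (hU : IsPGroup p U) (X : FusionSystem U) :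
    X.IsSimple p ↔ (fstMap ι hι X).IsSimple p := by
  constructor
  · rintro ⟨hsat, hne, h⟩
    refine ⟨(fstMap_saturated_iff ι hι p hU X).mp hsat, ?_, ?_⟩
    · intro h0
      exact hne ((Subgroup.map_eq_bot_iff_of_injective U hι).mp h0)
    · intro T' E' hE'
      have hT'U : T' ≤ U.map ι := fst_le_of_subsystem hE'.1.2.2.1
      have hT'r : T' ≤ ι.range := hT'U.trans (Subgroup.map_le_range ι U)
      have hD : fstSame (fstMap ι hι (fstComap ι hι E')) E' := fstMap_fstComap ι hι E' hT'r
      have h3 : (fstMap ι hι (fstComap ι hι E')).IsNormalIn (fstMap ι hι X) p :=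
        hD.symm.elim (motive := fun {V} (Z : FusionSystem V) => Z.IsNormalIn (fstMap ι hι X) p) hE'
      have h4 := (fstMap_normal_iff ι hι p hU _ X).mpr h3
      rcases h _ _ h4 with h5 | ⟨h5, h6⟩
      · left
        rw [fst_eq_map_comap ι T' hT'r, h5, Subgroup.map_bot]
      · right
        refine ⟨by rw [fst_eq_map_comap ι T' hT'r, h5], ?_⟩
        have h7 : fstSame (fstComap ι hι E') X := h6
        exact fun P' => ((hD P').symm.trans (fstMap_same ι hι h7 P'))
  · rintro ⟨hsat, hne, h⟩
    refine ⟨(fstMap_saturated_iff ι hι p hU X).mpr hsat, ?_, ?_⟩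
    · intro h0
      exact hne (by rw [h0, Subgroup.map_bot])
    · intro T E hE
      have h3 := (fstMap_normal_iff ι hι p hU E X).mp hE
      rcases h _ _ h3 with h5 | ⟨h5, h6⟩
      · left
        exact (Subgroup.map_eq_bot_iff_of_injective T hι).mp h5
      · right
        refine ⟨Subgroup.map_injective hι h5, ?_⟩
        have h7 : fstSame (fstMap ι hι E) (fstMap ι hι X) := h6
        have h8 : fstSame E X :=
          (fstComap_fstMap ι hι E).symm.trans ((fstComap_same ι hι h7).trans (fstComap_fstMap ι hι X))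
        exact h8

/-- The isomorphism between the quotients by the centres. -/
noncomputable def fstQuot (ι : Ω₁ →* Ω₂) (hι : Function.Injective ι) {U : Subgroup Ω₁} (X : FusionSystem U) :
    (↥U ⧸ (X.center).subgroupOf U) ≃* (↥(U.map ι) ⧸ ((fstMap ι hι X).center).subgroupOf (U.map ι)) :=
  QuotientGroup.congr _ _ (fstEq ι hι U (U.map ι) rfl) (by
    ext y
    constructor
    · rintro ⟨u, hu, rfl⟩
      have hu' : (u : Ω₁) ∈ X.center := Subgroup.mem_subgroupOf.mp hu
      rw [Subgroup.mem_subgroupOf, fstMap_center]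
      exact Subgroup.mem_map_of_mem ι hu'
    · intro hy
      rw [Subgroup.mem_subgroupOf, fstMap_center] at hy
      obtain ⟨z, hz, hzy⟩ := hy
      obtain ⟨u, hu, huy⟩ := y.2
      have hzu : z = u := hι (hzy.trans huy.symm)
      subst hzu
      exact ⟨⟨z, hu⟩, Subgroup.mem_subgroupOf.mpr hz, Subtype.ext hzy⟩)

theorem fstQuot_mk (ι : Ω₁ →* Ω₂) (hι : Function.Injective ι) {U : Subgroup Ω₁} (X : FusionSystem U)
    (u : ↥U) :
    fstQuot ι hι X (QuotientGroup.mk' ((X.center).subgroupOf U) u) =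
      QuotientGroup.mk' (((fstMap ι hι X).center).subgroupOf (U.map ι))
        ⟨ι u, Subgroup.mem_map_of_mem ι u.2⟩ := rfl

/-- Quasisimplicity is preserved and reflected. -/
theorem fstMap_quasisimple_iff (ι : Ω₁ →* Ω₂) (hι : Function.Injective ι) {U : Subgroup Ω₁} [Finite U]
    (p : ℕ) [Fact p.Prime] (hU : IsPGroup p U) (X : FusionSystem U) :
    X.Quasisimple p ↔ (fstMap ι hι X).Quasisimple p := by
  have hfin' : Finite ↥(U.map ι) := Finite.of_equiv _ (fstEq ι hι U (U.map ι) rfl).toEquiv
  have hU' : IsPGroup p ↥(U.map ι) := hU.map ι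
  obtain ⟨E₀, hE₀⟩ := Cfsg.Agent.S5132.result p hU X X.center (fst_center_stronglyClosed X)
  obtain ⟨E', hE'⟩ := Cfsg.Agent.S5132.result p hU' (fstMap ι hι X) (fstMap ι hι X).center
    (fst_center_stronglyClosed _)
  have hFS := fstMap_factorSystem ι hι (fstQuot ι hι X).toMonoidHom (fstQuot ι hι X).injective X X.center _
    E₀ hE₀ (fstMap ι hι X).center (fstMap_center ι hι X)
    (QuotientGroup.mk' (((fstMap ι hι X).center).subgroupOf (U.map ι)))
    (fun u => (fstQuot_mk ι hι X u).symm)
  have hsame := fst_factorSystem_unique _ _ _ hE' hFS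
  have hQp : IsPGroup p ↥(⊤ : Subgroup (↥U ⧸ (X.center).subgroupOf U)) :=
    (hU.to_quotient _).to_subgroup ⊤
  have hsimple : E₀.IsSimple p ↔ E'.IsSimple p := by
    rw [fstMap_simple_iff (fstQuot ι hι X).toMonoidHom (fstQuot ι hι X).injective p hQp E₀]
    constructor
    · intro h
      exact hsame.symm.elim (motive := fun {V} (Z : FusionSystem V) => Z.IsSimple p) h
    · intro h
      exact hsame.elim (motive := fun {V} (Z : FusionSystem V) => Z.IsSimple p) h
  constructor
  · rintro ⟨hsat, hhyp, h⟩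
    refine ⟨(fstMap_saturated_iff ι hι p hU X).mp hsat, ?_, ?_⟩
    · rw [fstMap_hyperfocal, hhyp]
    · intro E'' hE''
      have e : E'' = E' := Helper84.fusionSystem_ext (fst_factorSystem_unique _ _ _ hE'' hE')
      rw [e]; exact hsimple.mp (h E₀ hE₀)
  · rintro ⟨hsat, hhyp, h⟩
    refine ⟨(fstMap_saturated_iff ι hι p hU X).mpr hsat, ?_, ?_⟩
    · rw [fstMap_hyperfocal] at hhyp
      exact Subgroup.map_injective hι hhyp
    · intro E'' hE''
      have e : E'' = E₀ := Helper84.fusionSystem_ext (fst_factorSystem_unique _ _ _ hE'' hE₀)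
      rw [e]; exact hsimple.mpr (h E' hE')

/-- Components are preserved and reflected. -/
theorem fstMap_component_iff (ι : Ω₁ →* Ω₂) (hι : Function.Injective ι) {T S : Subgroup Ω₁} [Finite S]
    (p : ℕ) [Fact p.Prime] (hS : IsPGroup p S) (C : FusionSystem T) (F : FusionSystem S) :
    C.IsComponentIn F p ↔ (fstMap ι hι C).IsComponentIn (fstMap ι hι F) p := by
  constructor
  · rintro ⟨hsn, hq⟩
    have hTS := fst_subnormal_le hsn
    have := fst_finite_of_le hTS
    exact ⟨(fstMap_subnormal_iff ι hι p hS C F).mp hsn,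
      (fstMap_quasisimple_iff ι hι p (hS.to_le hTS) C).mp hq⟩
  · rintro ⟨hsn, hq⟩
    have hsn' := (fstMap_subnormal_iff ι hι p hS C F).mpr hsn
    have hTS := fst_subnormal_le hsn'
    have := fst_finite_of_le hTS
    exact ⟨hsn', (fstMap_quasisimple_iff ι hι p (hS.to_le hTS) C).mpr hq⟩

end Cfsg.Agent.Helper35
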