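import Cfsg.Agent.Helper35.FsT10

/-!
# Transport of fusion systems (part 11): automorphisms of a fusion system; the layer is characteristic
-/

set_option autoImplicit false

namespace Cfsg.Agent.Helper35

open Cfsg Cfsg.FusionSystem

/-- An automorphism `α` of `S` which is, with its inverse, a morphism `F → F` carries (the restriction
to `S` of) `F` to `F`. -/
theorem fst_aut_same {Ω : Type*} [Group Ω] {S : Subgroup Ω} (F : FusionSystem S) (α : ↥S ≃* ↥S)
    (ι' ι'' : ↥S →* Ω) (h1 : ∀ s, ι' s = ((α s : ↥S) : Ω)) (h2 : ∀ s, ι'' s = ((α.symm s : ↥S) : Ω))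
    (hα : F.IsMorphism F ι') (hα' : F.IsMorphism F ι'') (hι' : Function.Injective ι') :
    fstSame (fstMap ι' hι' (fstComap S.subtype (Subgroup.subtype_injective S) F)) F := by
  intro P'
  ext φ'
  constructor
  · rintro ⟨hP'r, φ, ⟨φ'', hφ'', hc''⟩, hc⟩
    obtain ⟨χ, hχ, hP, hφS, hP'', hind⟩ := hα.2 _ φ'' hφ''
    have hle : P' ≤ imageAlong ι' ((P'.comap ι').map S.subtype) := by
      intro y hy
      obtain ⟨s, hs⟩ := hP'r hy
      have hsP : s ∈ P'.comap ι' := by rw [Subgroup.mem_comap, hs]; exact hy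
      exact ⟨s, Subgroup.mem_subgroupOf.mpr (Subgroup.mem_map_of_mem S.subtype hsP), hs⟩
    refine Helper84.hom_of_restrict F hχ hle (fun y => ?_)
    obtain ⟨s, hs⟩ := hP'r y.2
    have hsP : s ∈ P'.comap ι' := by rw [Subgroup.mem_comap, hs]; exact y.2
    have hy : y = ⟨ι' (⟨s, hsP⟩ : ↥(P'.comap ι')), hsP⟩ := Subtype.ext hs.symm
    have e1 : φ' y = ι' (φ ⟨s, hsP⟩) := by rw [hy]; exact hc ⟨s, hsP⟩
    have h3 := hind ⟨S.subtype s, Subgroup.mem_map_of_mem S.subtype hsP⟩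
    have h4 := hc'' ⟨s, hsP⟩
    have e2 : (⟨(y : Ω), hle y.2⟩ : ↥(imageAlong ι' ((P'.comap ι').map S.subtype))) =
        ⟨ι' ⟨S.subtype s, hP (Subgroup.mem_map_of_mem S.subtype hsP)⟩,
          hP'' ⟨S.subtype s, Subgroup.mem_map_of_mem S.subtype hsP⟩⟩ := Subtype.ext hs.symm
    rw [e1, e2, h3]
    congr 1
    exact Subtype.ext h4.symm
  · intro hφ'
    have hP'S : P' ≤ S := (F.le_of_mem hφ').1
    have hP'r : P' ≤ ι'.range := by
      intro y hy
      refine ⟨α.symm ⟨y, hP'S hy⟩, ?_⟩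
      rw [h1, MulEquiv.apply_symm_apply]
    obtain ⟨χ, hχ, hP, hφS, hP'', hind⟩ := hα'.2 _ φ' hφ'
    have hE := fst_eq_map_comap ι' P' hP'r
    refine ⟨hP'r, α.symm.toMonoidHom.comp
      ((φ'.comp (fstEq ι' hι' _ P' hE).toMonoidHom).codRestrict S (fun t => hφS _)), ?_, ?_⟩
    · have hle : (P'.comap ι').map S.subtype ≤ imageAlong ι'' P' := by
        rintro _ ⟨t, ht, rfl⟩
        refine ⟨α t, Subgroup.mem_subgroupOf.mpr ?_, ?_⟩
        · rw [← h1]; exact ht
        · rw [h2, MulEquiv.symm_apply_apply]; rfl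
      refine ⟨χ.comp (Subgroup.inclusion hle), Helper84.hom_restrict F hχ hle, ?_⟩
      intro t
      have h3 := hind ⟨ι' t, t.2⟩
      have eL : (⟨S.subtype (t : ↥S), hle (Subgroup.mem_map_of_mem S.subtype t.2)⟩ :
          ↥(imageAlong ι'' P')) = ⟨ι'' ⟨ι' t, hP t.2⟩, hP'' ⟨ι' t, t.2⟩⟩ := by
        apply Subtype.ext
        show ((t : ↥S) : Ω) = ι'' ⟨ι' t, hP t.2⟩
        rw [h2]
        have : (⟨ι' t, hP t.2⟩ : ↥S) = α t := Subtype.ext (h1 t)
        rw [this, MulEquiv.symm_apply_apply]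
      show χ ⟨S.subtype (t : ↥S), hle (Subgroup.mem_map_of_mem S.subtype t.2)⟩ =
        ((α.symm ⟨φ' ⟨ι' t, t.2⟩, hφS ⟨ι' t, t.2⟩⟩ : ↥S) : Ω)
      rw [eL, h3, h2]
    · intro t
      show φ' ⟨ι' t, t.2⟩ = ι' (α.symm ⟨φ' ⟨ι' t, t.2⟩, hφS ⟨ι' t, t.2⟩⟩)
      exact ((h1 _).trans (congrArg Subtype.val
        (α.apply_symm_apply ⟨φ' ⟨ι' t, t.2⟩, hφS ⟨ι' t, t.2⟩⟩))).symm

/-- The layer is characteristic (general form with `ι' = α` and `ι'' = α⁻¹` as maps into `Ω`). -/
theorem fst_layer_characteristic {Ω : Type*} [Group Ω] {S : Subgroup Ω} [Finite S] (p : ℕ) [Fact p.Prime]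
    (hS : IsPGroup p S) (F : FusionSystem S) (α : ↥S ≃* ↥S)
    (ι' ι'' : ↥S →* Ω) (h1 : ∀ s, ι' s = ((α s : ↥S) : Ω)) (h2 : ∀ s, ι'' s = ((α.symm s : ↥S) : Ω))
    (hα : F.IsMorphism F ι') (hα' : F.IsMorphism F ι'')
    {T : Subgroup Ω} (E : FusionSystem T) (hE : E.IsLayerOf F p) :
    imageAlong ι' T = T ∧
      ∀ (P : Subgroup Ω) (φ : ↥P →* Ω), φ ∈ E.Hom P →
        ∀ φ' : ↥(imageAlong ι' P) →* Ω, InducedAlong ι' φ φ' → φ' ∈ E.Hom (imageAlong ι' P) := by
  have hι : Function.Injective S.subtype := Subgroup.subtype_injective S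
  have hι' : Function.Injective ι' := by
    intro a b hab
    rw [h1, h1] at hab
    exact α.injective (Subtype.ext hab)
  have hrange : S ≤ ι'.range := by
    intro y hy
    refine ⟨α.symm ⟨y, hy⟩, ?_⟩
    rw [h1, MulEquiv.apply_symm_apply]
  have hrange0 : S ≤ S.subtype.range := (Subgroup.range_subtype S).ge
  have hF1 : fstSame (fstMap S.subtype hι (fstComap S.subtype hι F)) F :=
    fstMap_fstComap S.subtype hι F hrange0
  have hF2 : fstSame (fstMap ι' hι' (fstComap S.subtype hι F)) F :=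
    fst_aut_same F α ι' ι'' h1 h2 hα hα' hι'
  have hS0 : IsPGroup p ↥(S.comap S.subtype) := hS.to_subgroup _
  have hTS : T ≤ S := fst_le_of_subsystem hE.1.1.2.2.1
  have hE1 : fstSame (fstMap ι' hι' (fstComap ι' hι' E)) E := fstMap_fstComap ι' hι' E (hTS.trans hrange)
  have hD0 : (fstComap ι' hι' E).IsNormalIn (fstComap S.subtype hι F) p := by
    rw [fstMap_normal_iff ι' hι' p hS0]
    have h2 : E.IsNormalIn (fstMap ι' hι' (fstComap S.subtype hι F)) p :=
      hF2.symm.elim (motive := fun {V} (Z : FusionSystem V) => E.IsNormalIn Z p) hE.1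
    exact hE1.symm.elim (motive := fun {V} (Z : FusionSystem V) =>
      Z.IsNormalIn (fstMap ι' hι' (fstComap S.subtype hι F)) p) h2
  have hD : (fstMap S.subtype hι (fstComap ι' hι' E)).IsNormalIn F p := by
    have h2 := (fstMap_normal_iff S.subtype hι p hS0 _ _).mp hD0
    exact hF1.elim (motive := fun {V} (Z : FusionSystem V) =>
      (fstMap S.subtype hι (fstComap ι' hι' E)).IsNormalIn Z p) h2
  have hcomp : ∀ (U : Subgroup Ω) (C : FusionSystem U), C.IsComponentIn F p →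
      C.IsSubsystemOf (fstMap S.subtype hι (fstComap ι' hι' E)) := by
    intro U C hC
    have hUS : U ≤ S := fst_subnormal_le hC.1
    have hC1 : fstSame (fstMap S.subtype hι (fstComap S.subtype hι C)) C :=
      fstMap_fstComap S.subtype hι C (hUS.trans hrange0)
    have h2 : C.IsComponentIn (fstMap S.subtype hι (fstComap S.subtype hι F)) p :=
      hF1.symm.elim (motive := fun {V} (Z : FusionSystem V) => C.IsComponentIn Z p) hC
    have h3 : (fstMap S.subtype hι (fstComap S.subtype hι C)).IsComponentIn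
        (fstMap S.subtype hι (fstComap S.subtype hι F)) p :=
      hC1.symm.elim (motive := fun {V} (Z : FusionSystem V) =>
        Z.IsComponentIn (fstMap S.subtype hι (fstComap S.subtype hι F)) p) h2
    have h4 := (fstMap_component_iff S.subtype hι p hS0 _ _).mpr h3
    have h5 := (fstMap_component_iff ι' hι' p hS0 _ _).mp h4
    have h6 : (fstMap ι' hι' (fstComap S.subtype hι C)).IsComponentIn F p :=
      hF2.elim (motive := fun {V} (Z : FusionSystem V) =>
        (fstMap ι' hι' (fstComap S.subtype hι C)).IsComponentIn Z p) h5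
    have h7 := hE.2.1 _ _ h6
    have h8 := fstComap_subsystem ι' hι' _ _ h7
    have h9 : (fstComap S.subtype hι C).IsSubsystemOf (fstComap ι' hι' E) :=
      (fstComap_fstMap ι' hι' (fstComap S.subtype hι C)).elim (motive := fun {V} (Z : FusionSystem V) =>
        Z.IsSubsystemOf (fstComap ι' hι' E)) h8
    have h10 := (fstMap_subsystem_iff S.subtype hι _ _).mp h9
    exact hC1.elim (motive := fun {V} (Z : FusionSystem V) =>
      Z.IsSubsystemOf (fstMap S.subtype hι (fstComap ι' hι' E))) h10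
  have hsub : E.IsSubsystemOf (fstMap S.subtype hι (fstComap ι' hι' E)) := hE.2.2 _ _ hD hcomp
  constructor
  · have hTle : T ≤ (T.comap ι').map S.subtype := fst_le_of_subsystem hsub
    have hle : imageAlong ι' T ≤ T := by
      rintro _ ⟨s, hs, rfl⟩
      obtain ⟨s₂, hs₂, hs₂e⟩ := hTle (Subgroup.mem_subgroupOf.mp hs)
      have hss : s₂ = s := Subtype.ext hs₂e
      rw [← hss]; exact hs₂
    have hfinT : Finite T := fst_finite_of_le hTS
    apply Subgroup.eq_of_le_of_card_ge hle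
    have e : ↥(imageAlong ι' T) ≃ ↥T :=
      ((Subgroup.equivMapOfInjective (T.subgroupOf S) ι' hι').symm.trans
        (Subgroup.subgroupOfEquivOfLe hTS)).toEquiv
    exact (Nat.card_congr e).ge
  · intro P φ hφ φ' hind
    obtain ⟨hP, hφS, hP', hind⟩ := hind
    obtain ⟨hPr, φ₀, ⟨φ₁, hφ₁, hc₁⟩, hc₀⟩ := hsub P hφ
    refine Helper84.hom_of_eq E (show φ₁ ∈ E.Hom (imageAlong ι' P) from hφ₁) (fun y => ?_)
    obtain ⟨s, hs, hsy⟩ := y.2
    have hy : y = ⟨ι' s, ⟨s, hs, rfl⟩⟩ := Subtype.ext hsy.symm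
    have hsP : (s : Ω) ∈ P := Subgroup.mem_subgroupOf.mp hs
    have e1 := hind ⟨(s : Ω), hsP⟩
    have e2 := hc₁ ⟨s, hs⟩
    have e3 := hc₀ ⟨s, hs⟩
    have e4 : φ₀ ⟨s, hs⟩ = ⟨φ ⟨(s : Ω), hsP⟩, hφS _⟩ := Subtype.ext e3.symm
    rw [hy]
    exact e1.trans ((congrArg ι' e4.symm).trans e2.symm)

end Cfsg.Agent.Helper35
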