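import Cfsg.Agent.Helper35.FsT11

/-!
# Transport of fusion systems (part 12): images of subnormal subsystems and components under maps
of the system
-/

set_option autoImplicit false

namespace Cfsg.Agent.Helper35

open Cfsg Cfsg.FusionSystem

/-- An element of `Aut_F(S)` is a morphism from `F` to `F`. -/
theorem fst_aut_isMorphism {Ω : Type*} [Group Ω] {S : Subgroup Ω} (F : FusionSystem S) (α : MulAut ↥S)
    (hα : α ∈ F.autGroup S) : F.IsMorphism F (S.subtype.comp α.toMonoidHom) := by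
  have hαF : S.subtype.comp α.toMonoidHom ∈ F.Hom S := (Helper85.mem_autGroup_iff F le_rfl).mp hα
  refine ⟨fun s => (α s).2, ?_⟩
  intro P φ hφ
  have hPS : P ≤ S := (F.le_of_mem hφ).1
  have hφS := (F.le_of_mem hφ).2
  have hιP := Helper84.hom_restrict F hαF hPS
  have hrange : ((S.subtype.comp α.toMonoidHom).comp (Subgroup.inclusion hPS)).range =
      imageAlong (S.subtype.comp α.toMonoidHom) P := by
    ext y
    constructor
    · rintro ⟨x, rfl⟩
      exact ⟨Subgroup.inclusion hPS x, Subgroup.mem_subgroupOf.mpr x.2, rfl⟩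
    · rintro ⟨s, hs, rfl⟩
      exact ⟨⟨s, Subgroup.mem_subgroupOf.mp hs⟩, rfl⟩
  obtain ⟨ψ, hψ, hψr, hψ1, -⟩ := Helper84.hom_inv F hιP hrange
  have hψP : ∀ y, ψ y ∈ P := fun y => hψr.le ⟨y, rfl⟩
  have h1 := F.comp_mem hψ hφ hψP
  have h1S : ∀ y, (φ.comp (ψ.codRestrict P hψP)) y ∈ S := fun y => hφS _
  have h2 := F.comp_mem h1 hαF h1S
  have hmem : ∀ x : ↥P, (S.subtype.comp α.toMonoidHom) ⟨x, hPS x.2⟩ ∈
      imageAlong (S.subtype.comp α.toMonoidHom) P :=
    fun x => ⟨⟨x, hPS x.2⟩, Subgroup.mem_subgroupOf.mpr x.2, rfl⟩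
  refine ⟨_, h2, hPS, hφS, hmem, ?_⟩
  intro x
  have e1 : (⟨ψ ⟨(S.subtype.comp α.toMonoidHom) ⟨x, hPS x.2⟩, hmem x⟩, hψP _⟩ : ↥P) = x :=
    Subtype.ext (hψ1 x (hmem x))
  have e2 : φ ⟨ψ ⟨(S.subtype.comp α.toMonoidHom) ⟨x, hPS x.2⟩, hmem x⟩, hψP _⟩ = φ x := congrArg φ e1
  exact congrArg (S.subtype.comp α.toMonoidHom) (Subtype.ext e2)

/-- For `D` invariant in `F` over `U`, an element of `Aut_F(U)` is a morphism from `D` to `D`. -/
theorem fst_invariant_isMorphism {Ω : Type*} [Group Ω] {U S : Subgroup Ω} (D : FusionSystem U)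
    (F : FusionSystem S) (hinv : D.IsInvariantIn F) (α : MulAut ↥U) (hα : α ∈ F.autGroup U) :
    D.IsMorphism D (U.subtype.comp α.toMonoidHom) := by
  refine ⟨fun s => (α s).2, ?_⟩
  intro P φ hφ
  have hPU : P ≤ U := (D.le_of_mem hφ).1
  obtain ⟨χ, hχ, hχe⟩ := hinv.2.2.1 P hPU φ hφ α hα
  exact ⟨χ, hχ, hPU, (D.le_of_mem hφ).2,
    fun x => ⟨⟨x, hPU x.2⟩, Subgroup.mem_subgroupOf.mpr x.2, rfl⟩, fun x => hχe x _ _⟩

/-- A map of `F` defined on all of the finite group `S` is an element of `Aut_F(S)`. -/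
theorem fst_exists_aut_of_hom {Ω : Type*} [Group Ω] {S : Subgroup Ω} [Finite S] (F : FusionSystem S)
    (γ : ↥S →* Ω) (hγ : γ ∈ F.Hom S) :
    ∃ α : MulAut ↥S, α ∈ F.autGroup S ∧ ∀ s, γ s = ((α s : ↥S) : Ω) := by
  have hγS := (F.le_of_mem hγ).2
  have hinj : Function.Injective (γ.codRestrict S hγS) :=
    fun a b hab => F.injective_of_mem hγ (congrArg Subtype.val hab)
  have hbij : Function.Bijective (γ.codRestrict S hγS) := ⟨hinj, Finite.injective_iff_surjective.mp hinj⟩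
  refine ⟨MulEquiv.ofBijective (γ.codRestrict S hγS) hbij, ?_, fun s => rfl⟩
  rw [Helper85.mem_autGroup_iff F le_rfl]
  exact Helper84.hom_of_eq F hγ (fun x => rfl)

theorem fstMap_congr {Ω₁ Ω₂ : Type*} [Group Ω₁] [Group Ω₂] (ι₁ ι₂ : Ω₁ →* Ω₂) (h₁ : Function.Injective ι₁)
    (h₂ : Function.Injective ι₂) (h : ι₁ = ι₂) {U : Subgroup Ω₁} (X : FusionSystem U) :
    fstSame (fstMap ι₁ h₁ X) (fstMap ι₂ h₂ X) := by
  subst h
  exact fstSame.refl _

/-- Functoriality of `fstMap`. -/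
theorem fstMap_comp {Ω₀ Ω₁ Ω₂ : Type*} [Group Ω₀] [Group Ω₁] [Group Ω₂] (ι : Ω₁ →* Ω₂)
    (hι : Function.Injective ι) (γ₁ : Ω₀ →* Ω₁) (hγ₁ : Function.Injective γ₁)
    (hc : Function.Injective (ι.comp γ₁)) {V : Subgroup Ω₀} (X : FusionSystem V) :
    fstSame (fstMap (ι.comp γ₁) hc X) (fstMap ι hι (fstMap γ₁ hγ₁ X)) := by
  have hcm : ∀ P'' : Subgroup Ω₂, P'' ≤ (ι.comp γ₁).range →
      P''.comap ι = (P''.comap (ι.comp γ₁)).map γ₁ := by
    intro P'' hP''
    ext y
    constructor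
    · intro hy
      obtain ⟨x, hx⟩ := hP'' (show ι y ∈ P'' from hy)
      have hxy : γ₁ x = y := hι hx
      refine ⟨x, ?_, hxy⟩
      show ι (γ₁ x) ∈ P''
      rw [hxy]; exact hy
    · rintro ⟨x, hx, rfl⟩
      exact hx
  intro P''
  ext φ''
  constructor
  · rintro ⟨hP'', φ, hφ, hc'⟩
    have hP''r : P'' ≤ ι.range := by
      intro y hy
      obtain ⟨x, hx⟩ := hP'' hy
      exact ⟨γ₁ x, hx⟩
    have h := hcm P'' hP''
    refine ⟨hP''r, fstFwd γ₁ hγ₁ _ _ h φ, fstFwd_mem γ₁ hγ₁ X _ _ h hφ, ?_⟩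
    intro y
    have hy : (y : Ω₁) ∈ (P''.comap (ι.comp γ₁)).map γ₁ := h ▸ y.2
    obtain ⟨x, hx, hxy⟩ := hy
    have e3 := hc' ⟨x, hx⟩
    rw [fstFwd_apply' γ₁ hγ₁ _ _ h φ y ⟨x, hx⟩ hxy]
    refine Eq.trans ?_ e3
    congr 1
    exact Subtype.ext (congrArg ι hxy.symm)
  · rintro ⟨hP''r, φ₁, hφ₁, hc₁⟩
    have hφ₁r : P''.comap ι ≤ γ₁.range := hφ₁.1
    have hP'' : P'' ≤ (ι.comp γ₁).range := by
      intro y hy
      obtain ⟨z, hz⟩ := hP''r hy
      have hzP : z ∈ P''.comap ι := by rw [Subgroup.mem_comap, hz]; exact hy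
      obtain ⟨x, hx⟩ := hφ₁r hzP
      exact ⟨x, by rw [MonoidHom.comp_apply, hx, hz]⟩
    have h := hcm P'' hP''
    obtain ⟨φ, hφ, hc⟩ := fstMap_mem_elim' γ₁ hγ₁ X _ _ h hφ₁
    refine ⟨hP'', φ, hφ, ?_⟩
    intro x
    have hx' : γ₁ x ∈ P''.comap ι := x.2
    have e1 := hc₁ ⟨γ₁ x, hx'⟩
    have e2 := hc x hx'
    exact e1.trans (congrArg ι e2)

/-- The image of a subnormal subsystem `C` of `F` under a map `γ` of `F` is subnormal in `F`. -/
theorem fst_image_subnormal {Ω : Type*} [Group Ω] {p : ℕ} {T S : Subgroup Ω} {C : FusionSystem T}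
    {F : FusionSystem S} (h : C.IsSubnormalIn F p) :
    Fact p.Prime → ∀ (γ : ↥T →* Ω) (hγ : Function.Injective γ), γ ∈ F.Hom T → Finite S → IsPGroup p S →
      (fstMap γ hγ (fstComap T.subtype (Subgroup.subtype_injective T) C)).IsSubnormalIn F p := by
  induction h with
  | refl F p =>
    intro hp γ hγ hγF hfin hS
    obtain ⟨α, hα, hαγ⟩ := fst_exists_aut_of_hom F γ hγF
    have hmor := fst_aut_isMorphism F α hα
    have hmor' := fst_aut_isMorphism F α⁻¹ (inv_mem hα)
    have e : γ = T.subtype.comp α.toMonoidHom := by ext s; exact hαγ s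
    have hmorγ : F.IsMorphism F γ := by rw [e]; exact hmor
    have hsame := fst_aut_same F α γ (T.subtype.comp (α⁻¹ : MulAut ↥T).toMonoidHom) hαγ (fun s => rfl)
      hmorγ hmor' hγ
    exact hsame.symm.elim (motive := fun {V} (Z : FusionSystem V) => Z.IsSubnormalIn F p)
      (IsSubnormalIn.refl F p)
  | step hED hDF ih =>
    intro hp γ hγ hγF hfin hS
    rename_i U S' C' D F' p'
    have hTU : T ≤ U := fst_subnormal_le hED
    have hUS : U ≤ S' := fst_le_of_subsystem hDF.1.2.2.1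
    have hfinU : Finite U := fst_finite_of_le hUS
    have hUp : IsPGroup p' U := hS.to_le hUS
    obtain ⟨α, hα, γ₀, hγ₀D, hfr⟩ := hDF.1.2.2.2.2.2 T hTU γ hγF
    have hγ₀inj := D.injective_of_mem hγ₀D
    have hγ₀U := (D.le_of_mem hγ₀D).2
    have ih1 := ih hp γ₀ hγ₀inj hγ₀D hfinU hUp
    have hι : Function.Injective U.subtype := Subgroup.subtype_injective U
    have hι' : Function.Injective (U.subtype.comp α.toMonoidHom) := fun a b hab => α.injective (hι hab)
    have hrange0 : U ≤ U.subtype.range := (Subgroup.range_subtype U).ge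
    have hU0 : IsPGroup p' ↥(U.comap U.subtype) := hUp.to_subgroup _
    have hT₁ := fst_subnormal_le ih1
    have hY := fstMap_fstComap U.subtype hι
      (fstMap γ₀ hγ₀inj (fstComap T.subtype (Subgroup.subtype_injective T) C')) (hT₁.trans hrange0)
    have hD1 := fstMap_fstComap U.subtype hι D hrange0
    have ih2 : (fstMap U.subtype hι (fstComap U.subtype hι
        (fstMap γ₀ hγ₀inj (fstComap T.subtype (Subgroup.subtype_injective T) C')))).IsSubnormalIn
        (fstMap U.subtype hι (fstComap U.subtype hι D)) p' :=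
      hD1.symm.elim (motive := fun {V} (Z : FusionSystem V) =>
        (fstMap U.subtype hι (fstComap U.subtype hι
          (fstMap γ₀ hγ₀inj (fstComap T.subtype (Subgroup.subtype_injective T) C')))).IsSubnormalIn Z p')
        (hY.symm.elim (motive := fun {V} (Z : FusionSystem V) => Z.IsSubnormalIn D p') ih1)
    have ih3 := (fstMap_subnormal_iff U.subtype hι p' hU0 _ _).mpr ih2
    have ih4 := (fstMap_subnormal_iff (U.subtype.comp α.toMonoidHom) hι' p' hU0 _ _).mp ih3
    have hmor := fst_invariant_isMorphism D F' hDF.1.2.2 α hα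
    have hmor' := fst_invariant_isMorphism D F' hDF.1.2.2 α⁻¹ (inv_mem hα)
    have hD2 := fst_aut_same D α (U.subtype.comp α.toMonoidHom)
      (U.subtype.comp (α⁻¹ : MulAut ↥U).toMonoidHom) (fun s => rfl) (fun s => rfl) hmor hmor' hι'
    have ih5 := hD2.elim (motive := fun {V} (Z : FusionSystem V) =>
      (fstMap (U.subtype.comp α.toMonoidHom) hι' (fstComap U.subtype hι
        (fstMap γ₀ hγ₀inj (fstComap T.subtype (Subgroup.subtype_injective T) C')))).IsSubnormalIn Z p') ih4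
    -- composition
    have hγ₁ : Function.Injective (γ₀.codRestrict U hγ₀U) :=
      fun a b hab => hγ₀inj (congrArg Subtype.val hab)
    have e0 : γ₀ = U.subtype.comp (γ₀.codRestrict U hγ₀U) := by ext x; rfl
    have e1 : (U.subtype.comp α.toMonoidHom).comp (γ₀.codRestrict U hγ₀U) = γ := by
      ext x; exact (hfr x (hγ₀U x)).symm
    have hc0 : Function.Injective (U.subtype.comp (γ₀.codRestrict U hγ₀U)) := e0 ▸ hγ₀inj
    have hc1 : Function.Injective ((U.subtype.comp α.toMonoidHom).comp (γ₀.codRestrict U hγ₀U)) :=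
      e1 ▸ hγ
    have s1 := (fstMap_congr γ₀ _ hγ₀inj hc0 e0
      (fstComap T.subtype (Subgroup.subtype_injective T) C')).trans
      (fstMap_comp U.subtype hι (γ₀.codRestrict U hγ₀U) hγ₁ hc0
        (fstComap T.subtype (Subgroup.subtype_injective T) C'))
    have s2 := (fstComap_same U.subtype hι s1).trans (fstComap_fstMap U.subtype hι _)
    have s3 := (fstMap_same (U.subtype.comp α.toMonoidHom) hι' s2).trans
      ((fstMap_comp (U.subtype.comp α.toMonoidHom) hι' (γ₀.codRestrict U hγ₀U) hγ₁ hc1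
        (fstComap T.subtype (Subgroup.subtype_injective T) C')).symm.trans
        (fstMap_congr _ γ hc1 hγ e1 (fstComap T.subtype (Subgroup.subtype_injective T) C')))
    exact IsSubnormalIn.step
      (s3.elim (motive := fun {V} (Z : FusionSystem V) => Z.IsSubnormalIn D p') ih5) hDF

/-- A factor system modulo the trivial subgroup read through an injective `γ` is the image under `γ`. -/
theorem fst_factor_bot_same {Ω : Type*} [Group Ω] {T : Subgroup Ω} (C : FusionSystem T) (γ : ↥T →* Ω)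
    (hγ : Function.Injective γ) {R : Subgroup Ω} (E : FusionSystem R) (hE : C.IsFactorSystem ⊥ γ E) :
    fstSame E (fstMap γ hγ (fstComap T.subtype (Subgroup.subtype_injective T) C)) := by
  obtain ⟨-, -, hR, h4⟩ := hE
  intro P'
  ext φ'
  rw [h4]
  constructor
  · rintro ⟨hP'R, φ, hφ, hP, hφT, hP'', hc⟩
    have hP'r : P' ≤ γ.range := hR ▸ hP'R
    refine ⟨hP'r, (φ.comp (fstEq T.subtype (Subgroup.subtype_injective T) (P'.comap γ)
      (preimageAlong γ P') rfl).toMonoidHom).codRestrict T (fun x => hφT _), ⟨φ, hφ, fun x => rfl⟩, ?_⟩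
    intro x
    exact hc ⟨T.subtype x, Subgroup.mem_map_of_mem T.subtype x.2⟩
  · rintro ⟨hP'r, φ₀, ⟨φ₂, hφ₂, hc₂⟩, hc⟩
    have hφ₂' : φ₂ ∈ C.Hom (preimageAlong γ P') := hφ₂
    have hP : preimageAlong γ P' ≤ T := (C.le_of_mem hφ₂').1
    have hφT := (C.le_of_mem hφ₂').2
    have hP'' : ∀ x : ↥(preimageAlong γ P'), γ ⟨x, hP x.2⟩ ∈ P' := by
      intro x
      obtain ⟨_, h6⟩ := (Helper85.mem_preimageAlong γ P' x).mp x.2
      exact h6
    refine ⟨hR ▸ hP'r, φ₂, hφ₂', hP, hφT, hP'', ?_⟩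
    have key : ∀ (x : ↥(preimageAlong γ P')) (t : ↥(P'.comap γ)), T.subtype t = x →
        φ' ⟨γ ⟨x, hP x.2⟩, hP'' x⟩ = γ ⟨φ₂ x, hφT x⟩ := by
      intro x t htx
      have hx : x = ⟨T.subtype t, Subgroup.mem_map_of_mem T.subtype t.2⟩ := Subtype.ext htx.symm
      subst hx
      exact (hc t).trans (congrArg γ (Subtype.ext (hc₂ t).symm))
    intro x
    obtain ⟨t, ht, htx⟩ := x.2
    exact key x ⟨t, ht⟩ htx

/-- The image of a component of `F` under a map of `F` is a component of `F`. -/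
theorem fst_conjugate_component {Ω : Type*} [Group Ω] {S : Subgroup Ω} [Finite S] (p : ℕ) [Fact p.Prime]
    (hS : IsPGroup p S) (F : FusionSystem S) {T : Subgroup Ω} (C : FusionSystem T)
    (hC : C.IsComponentIn F p) (γ : ↥T →* Ω) (hγ : γ ∈ F.Hom T) (E : FusionSystem γ.range)
    (hE : C.IsFactorSystem ⊥ γ E) : E.IsComponentIn F p := by
  have hγinj := F.injective_of_mem hγ
  have hsame := fst_factor_bot_same C γ hγinj E hE
  have hTS : T ≤ S := fst_subnormal_le hC.1
  have hfinT : Finite T := fst_finite_of_le hTS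
  have hTp : IsPGroup p T := hS.to_le hTS
  have hT0 : IsPGroup p ↥(T.comap T.subtype) := hTp.to_subgroup _
  have hsn := fst_image_subnormal hC.1 inferInstance γ hγinj hγ inferInstance hS
  have hC0 := fstMap_fstComap T.subtype (Subgroup.subtype_injective T) C (Subgroup.range_subtype T).ge
  have hq1 : (fstMap T.subtype (Subgroup.subtype_injective T)
      (fstComap T.subtype (Subgroup.subtype_injective T) C)).Quasisimple p :=
    hC0.symm.elim (motive := fun {V} (Z : FusionSystem V) => Z.Quasisimple p) hC.2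
  have hq2 := (fstMap_quasisimple_iff T.subtype (Subgroup.subtype_injective T) p hT0 _).mpr hq1
  have hq3 := (fstMap_quasisimple_iff γ hγinj p hT0 _).mp hq2
  exact ⟨hsame.symm.elim (motive := fun {V} (Z : FusionSystem V) => Z.IsSubnormalIn F p) hsn,
    hsame.symm.elim (motive := fun {V} (Z : FusionSystem V) => Z.Quasisimple p) hq3⟩

end Cfsg.Agent.Helper35
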