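/-
Helper library of seat helper35: the stable normal closure `W(S)` of Kurzweil–Stellmacher
(`Cfsg.stableNormalClosure`).  An induction principle for the `sInf`-definition, and the theorem
that an element of `S` acting quadratically on `W(S)` centralizes it.
Everything lives in the namespace `Cfsg.Agent.Helper35`.
-/
import Cfsg.Agent.S0622
import Cfsg.Agent.Helper11.ZJ
import Cfsg.Prelude.Def_PLocal

set_option autoImplicit false

namespace Cfsg.Agent.Helper35

open Cfsg
open scoped commutatorElement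

universe u

/-- `W(S) ≤ Ω₁(Z(J(S)))`. -/
theorem stableNormalClosure_le_omegaCenterThompson (p : ℕ) (S : Type u) [Group S] [Finite S] :
    stableNormalClosure p S ≤ omegaCenterThompson p S := by
  rw [stableNormalClosure]
  apply sInf_le
  refine ⟨Cfsg.Agent.S0622.omegaOne_center_le_omegaCenterThompson p, ?_⟩
  intro H _ τ hτ
  exact Cfsg.Agent.S0622.map_omegaCenterThompson_normal p τ hτ.1 hτ.2.2.2.2.1

/-- `Ω₁(Z(S)) ≤ W(S)`. -/
theorem omegaOne_center_le_stableNormalClosure (p : ℕ) (S : Type u) [Group S] :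
    omegaOne p (Subgroup.center S) ≤ stableNormalClosure p S := by
  rw [stableNormalClosure]
  exact le_sInf (fun W hW => hW.1)

/-- The image of `W(S)` under a stable embedding is normal. -/
theorem map_stableNormalClosure_normal {p : ℕ} {S H : Type u} [Group S] [Finite S] [Group H]
    (τ : S →* H) (hτ : IsStableEmbedding p τ) : ((stableNormalClosure p S).map τ).Normal := by
  constructor
  rintro _ ⟨w, hw, rfl⟩ h
  have hΩ : ((omegaCenterThompson p S).map τ).Normal :=
    Cfsg.Agent.S0622.map_omegaCenterThompson_normal p τ hτ.1 hτ.2.2.2.2.1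
  obtain ⟨u, hu, hu'⟩ := hΩ.conj_mem (τ w)
    ⟨w, stableNormalClosure_le_omegaCenterThompson p S hw, rfl⟩ h
  have hw' : w ∈ stableNormalClosure p S := hw
  have huW : u ∈ stableNormalClosure p S := by
    rw [stableNormalClosure, Subgroup.mem_sInf]
    intro W' hW'
    have hwW' : w ∈ W' := by
      rw [stableNormalClosure, Subgroup.mem_sInf] at hw'
      exact hw' W' hW'
    have hn := hW'.2 H τ hτ
    obtain ⟨u', hu'W, hu'eq⟩ := hn.conj_mem (τ w) ⟨w, hwW', rfl⟩ h
    have : u' = u := hτ.1 (hu'eq.trans hu'.symm)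
    rw [← this]; exact hu'W
  exact ⟨u, huW, hu'⟩

/-- Induction principle for `W(S)`: a property of subgroups of `S` that holds for `Ω₁(Z(S))`, is
inherited by joins, and passes from `U ≤ W(S)` to the preimage of the normal closure of the image
of `U` under any stable embedding, holds for `W(S)`. -/
theorem stableNormalClosure_induction {p : ℕ} {S : Type u} [Group S] [Finite S]
    (Q : Subgroup S → Prop) (h0 : Q (omegaOne p (Subgroup.center S)))
    (hsup : ∀ F : Set (Subgroup S), (∀ U ∈ F, Q U) → Q (sSup F))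
    (hstep : ∀ U : Subgroup S, U ≤ stableNormalClosure p S → Q U →
      ∀ (H : Type u) [Group H] (τ : S →* H), IsStableEmbedding p τ →
        Q ((Subgroup.normalClosure ((U.map τ : Subgroup H) : Set H)).comap τ)) :
    Q (stableNormalClosure p S) := by
  obtain ⟨Us, hUs⟩ : ∃ Us, Us = sSup {U : Subgroup S | U ≤ stableNormalClosure p S ∧ Q U} :=
    ⟨_, rfl⟩
  have hQU : Q Us := by rw [hUs]; exact hsup _ (fun U hU => hU.2)
  have hUW : Us ≤ stableNormalClosure p S := by rw [hUs]; exact sSup_le (fun U hU => hU.1)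
  have h0U : omegaOne p (Subgroup.center S) ≤ Us := by
    rw [hUs]; exact le_sSup ⟨omegaOne_center_le_stableNormalClosure p S, h0⟩
  have hmem : ∀ (H : Type u) [Group H] (τ : S →* H), IsStableEmbedding p τ →
      (Us.map τ).Normal := by
    intro H _ τ hτ
    have hWn := map_stableNormalClosure_normal τ hτ
    have hncl : Subgroup.normalClosure ((Us.map τ : Subgroup H) : Set H) ≤
        (stableNormalClosure p S).map τ :=
      Subgroup.normalClosure_le_normal (Subgroup.map_mono hUW)
    have h1 : (Subgroup.normalClosure ((Us.map τ : Subgroup H) : Set H)).comap τ ≤ Us := by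
      have h2 : (Subgroup.normalClosure ((Us.map τ : Subgroup H) : Set H)).comap τ ∈
          {U : Subgroup S | U ≤ stableNormalClosure p S ∧ Q U} := by
        refine ⟨?_, hstep Us hUW hQU H τ hτ⟩
        intro x hx
        obtain ⟨w, hw, hwx⟩ := hncl (Subgroup.mem_comap.mp hx)
        rw [← hτ.1 hwx]; exact hw
      have h3 := le_sSup h2
      rw [← hUs] at h3
      exact h3
    have h2 : Subgroup.normalClosure ((Us.map τ : Subgroup H) : Set H) ≤ Us.map τ := by
      intro x hx
      obtain ⟨w, hw, rfl⟩ := hncl hx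
      exact ⟨w, h1 (Subgroup.mem_comap.mpr hx), rfl⟩
    have h3 : Subgroup.normalClosure ((Us.map τ : Subgroup H) : Set H) = Us.map τ :=
      le_antisymm h2 Subgroup.le_normalClosure
    rw [← h3]; exact Subgroup.normalClosure_normal
  have hWU : stableNormalClosure p S ≤ Us := by
    rw [stableNormalClosure]
    exact sInf_le ⟨h0U, hmem⟩
  have : stableNormalClosure p S = Us := le_antisymm hWU hUW
  rw [this]; exact hQU

/-- Elementwise quadratic action gives the commutator form. -/
theorem quad_of_commute {G : Type*} [Group G] (V : Subgroup G) (a : G)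
    (h : ∀ v ∈ V, Commute (v * a * v⁻¹ * a⁻¹) a) :
    ⁅⁅V, Subgroup.zpowers a⁆, Subgroup.zpowers a⁆ = ⊥ := by
  rw [Subgroup.commutator_eq_bot_iff_le_centralizer, Subgroup.commutator_le]
  intro v hv z hz
  obtain ⟨k, rfl⟩ := Subgroup.mem_zpowers_iff.mp hz
  have hc := h v hv
  have e : ⁅v, a ^ k⁆ = (v * a * v⁻¹ * a⁻¹) ^ k := by
    rw [commutatorElement_def]
    calc v * a ^ k * v⁻¹ * (a ^ k)⁻¹ = (v * a * v⁻¹) ^ k * (a ^ k)⁻¹ := by rw [conj_zpow]
      _ = ((v * a * v⁻¹ * a⁻¹) * a) ^ k * (a ^ k)⁻¹ := by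
        congr 2; group
      _ = (v * a * v⁻¹ * a⁻¹) ^ k * a ^ k * (a ^ k)⁻¹ := by rw [hc.mul_zpow]
      _ = _ := mul_inv_cancel_right _ _
  rw [e, Subgroup.mem_centralizer_iff]
  intro y hy
  obtain ⟨j, rfl⟩ := Subgroup.mem_zpowers_iff.mp hy
  exact ((hc.zpow_left k).zpow_right j).symm.eq

/-- The commutator form of quadratic action gives the elementwise form. -/
theorem commute_of_quad' {G : Type*} [Group G] (V : Subgroup G) (x : G)
    (hq : ⁅⁅V, Subgroup.zpowers x⁆, Subgroup.zpowers x⁆ = ⊥) {v : G} (hv : v ∈ V) :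
    Commute (v * x * v⁻¹ * x⁻¹) x := by
  have h : Commute ⁅v, x⁆ x := by
    rw [← commutatorElement_eq_one_iff_commute, ← Subgroup.mem_bot, ← hq]
    exact Subgroup.commutator_mem_commutator (Subgroup.commutator_mem_commutator hv
      (Subgroup.mem_zpowers x)) (Subgroup.mem_zpowers x)
  rwa [commutatorElement_def] at h

/-- An element whose image lies in `O_p(H / C)` is a product of an element of a given Sylow
`p`-subgroup and an element of `C`. -/
theorem exists_mul_of_mk_mem_pCore {H : Type*} [Group H] [Finite H] {p : ℕ} [Fact p.Prime]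
    (P : Sylow p H) (C : Subgroup H) [C.Normal] {d : H}
    (hd : (QuotientGroup.mk d : H ⧸ C) ∈ pCore p (H ⧸ C)) :
    ∃ r ∈ (P : Subgroup H), ∃ c ∈ C, d = r * c := by
  have h1 : pCore p (H ⧸ C) ≤ P.mapSurjective (QuotientGroup.mk'_surjective C) :=
    Helper11.pCore_le_sylow _
  obtain ⟨s, hs, hsd⟩ := h1 hd
  have hc : s⁻¹ * d ∈ C := QuotientGroup.eq.mp hsd
  exact ⟨s, hs, s⁻¹ * d, hc, by group⟩

/-- **Kurzweil–Stellmacher**: an element of `S` acting quadratically on `W(S)` centralizes it
(elementwise form). -/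
theorem stableNormalClosure_quadratic {p : ℕ} [Fact p.Prime] {S : Type u} [Group S] [Finite S] :
    ∀ y : S, (∀ u ∈ stableNormalClosure p S, Commute (u * y * u⁻¹ * y⁻¹) y) →
      ∀ u ∈ stableNormalClosure p S, u * y = y * u := by
  apply stableNormalClosure_induction (p := p)
    (fun U : Subgroup S => ∀ y : S, (∀ u ∈ U, Commute (u * y * u⁻¹ * y⁻¹) y) →
      ∀ u ∈ U, u * y = y * u)
  · intro y _ u hu
    have hz : u ∈ Subgroup.center S := Helper11.omegaOne_le p _ hu
    exact ((Subgroup.mem_center_iff.mp hz) y).symm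
  · intro F hF y hy u hu
    have hle : sSup F ≤ Subgroup.centralizer ({y} : Set S) := by
      apply sSup_le
      intro U hU v hv
      rw [Subgroup.mem_centralizer_iff]
      intro z hz
      rw [Set.mem_singleton_iff] at hz
      rw [hz]
      exact (hF U hU y (fun u hu => hy u (le_sSup hU hu)) v hv).symm
    exact ((Subgroup.mem_centralizer_iff.mp (hle hu)) y rfl).symm
  · intro U hUW hQ H _ τ hτ y hy u hu
    obtain ⟨hinj, hfin, ⟨P, hP⟩, -, -, hst⟩ := id hτ
    have : Finite H := hfin
    have hVn : (Subgroup.normalClosure ((U.map τ : Subgroup H) : Set H)).Normal :=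
      Subgroup.normalClosure_normal
    have hWn := map_stableNormalClosure_normal τ hτ
    have hVW : Subgroup.normalClosure ((U.map τ : Subgroup H) : Set H) ≤
        (stableNormalClosure p S).map τ :=
      Subgroup.normalClosure_le_normal (Subgroup.map_mono hUW)
    have hVΩ : Subgroup.normalClosure ((U.map τ : Subgroup H) : Set H) ≤
        (omegaCenterThompson p S).map τ :=
      hVW.trans (Subgroup.map_mono (stableNormalClosure_le_omegaCenterThompson p S))
    have hstV : IsPStableOn p (Subgroup.normalClosure ((U.map τ : Subgroup H) : Set H)) :=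
      hst _ hVΩ
    -- quadratic action of `τ y` on `V`
    have hquadV : ∀ v ∈ Subgroup.normalClosure ((U.map τ : Subgroup H) : Set H),
        Commute (v * τ y * v⁻¹ * (τ y)⁻¹) (τ y) := by
      intro v hv
      obtain ⟨w, hw, rfl⟩ := hVW hv
      have h2 := (hy w (Subgroup.mem_comap.mpr hv)).map τ
      simpa using h2
    have hmk := hstV (τ y) (quad_of_commute _ (τ y) hquadV)
    have hCn : (Subgroup.centralizer
        ((Subgroup.normalClosure ((U.map τ : Subgroup H) : Set H) : Subgroup H) : Set H)).Normal :=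
      inferInstance
    have hcent : Subgroup.normalClosure ((U.map τ : Subgroup H) : Set H) ≤
        Subgroup.centralizer ({τ y} : Set H) := by
      rw [Subgroup.normalClosure, Subgroup.closure_le]
      intro g hg
      rw [Group.mem_conjugatesOfSet_iff] at hg
      obtain ⟨a, ha, hag⟩ := hg
      obtain ⟨h, rfl⟩ := isConj_iff.mp hag
      obtain ⟨u₀, hu₀, rfl⟩ := ha
      -- the conjugate `h⁻¹ (τ y) h` lies in the preimage of `O_p(H / C)`
      have hmk' : (QuotientGroup.mk (h⁻¹ * τ y * h) :
          H ⧸ Subgroup.centralizer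
            ((Subgroup.normalClosure ((U.map τ : Subgroup H) : Set H) : Subgroup H) : Set H)) ∈
          pCore p (H ⧸ Subgroup.centralizer
            ((Subgroup.normalClosure ((U.map τ : Subgroup H) : Set H) : Subgroup H) : Set H)) := by
        have h1 := (Helper11.pCore_normal p (H ⧸ Subgroup.centralizer
            ((Subgroup.normalClosure ((U.map τ : Subgroup H) : Set H) : Subgroup H) : Set H))).conj_mem
          _ hmk (QuotientGroup.mk h⁻¹)
        have e : (QuotientGroup.mk (h⁻¹ * τ y * h) :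
            H ⧸ Subgroup.centralizer
              ((Subgroup.normalClosure ((U.map τ : Subgroup H) : Set H) : Subgroup H) : Set H)) =
            QuotientGroup.mk h⁻¹ * QuotientGroup.mk (τ y) * (QuotientGroup.mk h⁻¹)⁻¹ := by
          rw [← QuotientGroup.mk_inv, ← QuotientGroup.mk_mul, ← QuotientGroup.mk_mul, inv_inv]
        rw [e]; exact h1
      obtain ⟨r, hr, c, hcC, hrc⟩ := exists_mul_of_mk_mem_pCore P _ hmk'
      rw [hP] at hr
      obtain ⟨s, rfl⟩ := hr
      have hcV : ∀ v ∈ Subgroup.normalClosure ((U.map τ : Subgroup H) : Set H),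
          v * c = c * v := fun v hv => (Subgroup.mem_centralizer_iff.mp hcC) v hv
      have hUV : ∀ u' ∈ U, τ u' ∈ Subgroup.normalClosure ((U.map τ : Subgroup H) : Set H) :=
        fun u' hu' => Subgroup.le_normalClosure ⟨u', hu', rfl⟩
      -- `s` acts quadratically on `U`
      have hsq : ∀ u' ∈ U, Commute (u' * s * u'⁻¹ * s⁻¹) s := by
        intro u' hu'
        have hv' := hUV u' hu'
        have hv'' : h * τ u' * h⁻¹ ∈ Subgroup.normalClosure ((U.map τ : Subgroup H) : Set H) :=
          hVn.conj_mem _ hv' h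
        have h1 := hquadV _ hv''
        -- conjugate by `h⁻¹`
        have h2 : Commute (τ u' * (h⁻¹ * τ y * h) * (τ u')⁻¹ * (h⁻¹ * τ y * h)⁻¹)
            (h⁻¹ * τ y * h) := by
          have h3 := (Commute.conj_iff h⁻¹).mpr h1
          have e1 : h⁻¹ * (h * τ u' * h⁻¹ * τ y * (h * τ u' * h⁻¹)⁻¹ * (τ y)⁻¹) * h⁻¹⁻¹ =
              τ u' * (h⁻¹ * τ y * h) * (τ u')⁻¹ * (h⁻¹ * τ y * h)⁻¹ := by group
          have e2 : h⁻¹ * τ y * h⁻¹⁻¹ = h⁻¹ * τ y * h := by group
          rw [e1, e2] at h3
          exact h3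
        have hwV : τ u' * (h⁻¹ * τ y * h) * (τ u')⁻¹ * (h⁻¹ * τ y * h)⁻¹ ∈
            Subgroup.normalClosure ((U.map τ : Subgroup H) : Set H) := by
          have h4 := hVn.conj_mem _ (Subgroup.inv_mem _ hv') (h⁻¹ * τ y * h)
          have e : τ u' * (h⁻¹ * τ y * h) * (τ u')⁻¹ * (h⁻¹ * τ y * h)⁻¹ =
              τ u' * ((h⁻¹ * τ y * h) * (τ u')⁻¹ * (h⁻¹ * τ y * h)⁻¹) := by group
          rw [e]
          exact Subgroup.mul_mem _ hv' h4
        have hwc : Commute (τ u' * (h⁻¹ * τ y * h) * (τ u')⁻¹ * (h⁻¹ * τ y * h)⁻¹) c :=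
          hcV _ hwV
        -- rewrite in terms of `r = τ s`
        have hyr : h⁻¹ * τ y * h = τ s * c := hrc
        have e3 : τ u' * (τ s * c) * (τ u')⁻¹ * (τ s * c)⁻¹ =
            τ u' * τ s * (τ u')⁻¹ * (τ s)⁻¹ := by
          have h5 : c * (τ u')⁻¹ = (τ u')⁻¹ * c := by
            have := hcV _ (Subgroup.inv_mem _ hv')
            exact this.symm
          calc τ u' * (τ s * c) * (τ u')⁻¹ * (τ s * c)⁻¹
              = τ u' * τ s * (c * (τ u')⁻¹) * c⁻¹ * (τ s)⁻¹ := by group
            _ = τ u' * τ s * ((τ u')⁻¹ * c) * c⁻¹ * (τ s)⁻¹ := by rw [h5]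
            _ = τ u' * τ s * (τ u')⁻¹ * (τ s)⁻¹ := by group
        rw [hyr, e3] at h2 hwc
        -- `w` commutes with `τ s * c` and with `c`, hence with `τ s`
        have h6 : Commute (τ u' * τ s * (τ u')⁻¹ * (τ s)⁻¹) (τ s) := by
          have h7 := h2.mul_right hwc.inv_right
          have e4 : τ s * c * c⁻¹ = τ s := by group
          rwa [e4] at h7
        have h8 : τ (u' * s * u'⁻¹ * s⁻¹ * s) = τ (s * (u' * s * u'⁻¹ * s⁻¹)) := by
          simp only [map_mul, map_inv]
          exact h6.eq
        exact hinj h8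
      have hcomm := hQ s hsq u₀ hu₀
      -- conclude
      show h * τ u₀ * h⁻¹ ∈ Subgroup.centralizer ({τ y} : Set H)
      rw [Subgroup.mem_centralizer_iff]
      intro z hz
      rw [Set.mem_singleton_iff] at hz
      rw [hz]
      have h9 : τ u₀ * (h⁻¹ * τ y * h) = (h⁻¹ * τ y * h) * τ u₀ := by
        rw [hrc]
        have h10 : τ u₀ * τ s = τ s * τ u₀ := by rw [← map_mul, ← map_mul, hcomm]
        have h11 := hcV _ (hUV u₀ hu₀)
        calc τ u₀ * (τ s * c) = (τ u₀ * τ s) * c := by group
          _ = τ s * (τ u₀ * c) := by rw [h10]; group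
          _ = τ s * c * τ u₀ := by rw [h11]; group
      calc τ y * (h * τ u₀ * h⁻¹) = h * ((h⁻¹ * τ y * h) * τ u₀) * h⁻¹ := by group
        _ = h * (τ u₀ * (h⁻¹ * τ y * h)) * h⁻¹ := by rw [h9]
        _ = h * τ u₀ * h⁻¹ * τ y := by group
    apply hinj
    rw [map_mul, map_mul]
    exact ((Subgroup.mem_centralizer_iff.mp (hcent (Subgroup.mem_comap.mp hu))) (τ y) rfl).symm

end Cfsg.Agent.Helper35
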