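/-
Helper library of seat helper35: transport of `W(P)` (stable normal closure) along a homomorphism
injective on the subgroup `P`.  Everything lives in the namespace `Cfsg.Agent.Helper35`.
-/
import Cfsg.Agent.Helper35.StableClosure

set_option autoImplicit false

namespace Cfsg.Agent.Helper35

open Cfsg

universe u

/-- `W(P)`, viewed in `G`, is carried to `W(π P)`, viewed in `G'`, by a homomorphism `π` that is
injective on `P`. -/
theorem map_stableNormalClosure_map {G G' : Type u} [Group G] [Group G'] (p : ℕ) (π : G →* G')
    (P : Subgroup G) (P' : Subgroup G') (hP' : P.map π = P')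
    (hinj : ∀ x ∈ P, π x = 1 → x = 1) :
    ((stableNormalClosure p ↥P).map P.subtype).map π =
      (stableNormalClosure p ↥P').map P'.subtype := by
  subst hP'
  have hbij : Function.Bijective (π.subgroupMap P) := by
    refine ⟨?_, π.subgroupMap_surjective P⟩
    rw [injective_iff_map_eq_one]
    intro x hx
    apply Subtype.ext
    exact hinj x x.2 (congrArg Subtype.val hx)
  have h1 := Cfsg.Agent.S0622.map_stableNormalClosure p (MulEquiv.ofBijective _ hbij)
  rw [← h1, Subgroup.map_map, Subgroup.map_map]
  rfl

end Cfsg.Agent.Helper35
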