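/-
Helper library of seat helper35: `W(S)` (the stable normal closure of Kurzweil–Stellmacher) is
normal in every action-`p`-stable group `G` with `C_G(O_p(G)) ≤ O_p(G)`.
Everything lives in the namespace `Cfsg.Agent.Helper35`.
-/
import Cfsg.Agent.Helper35.StableClosure
import Cfsg.Agent.Helper35.Burnside
import Cfsg.Agent.Helper19.ThompsonNPC
import Cfsg.Agent.S0652
import Cfsg.Agent.S0655

set_option autoImplicit false

namespace Cfsg.Agent.Helper35

open Cfsg
open scoped commutatorElement

universe u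

section

variable {G : Type u} [Group G] [Finite G] {p : ℕ} [Fact p.Prime]

/-- `W(S)`, inside `G`, lies in every elementary abelian subgroup of `S` of largest order. -/
theorem stableNormalClosure_map_le_of_maxEA (S : Sylow p G) {A : Subgroup G}
    (hA : Helper19.MaxEA p (S : Subgroup G) A) :
    (stableNormalClosure p ↥(S : Subgroup G)).map (S : Subgroup G).subtype ≤ A := by
  have h1 : A ∈ (Set.image (fun A : Subgroup ↥(S : Subgroup G) => A.map (S : Subgroup G).subtype)
      (maxElementaryAbelianSubgroups p ↥(S : Subgroup G))) := by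
    rw [Cfsg.Agent.S0652.mem_image_maxElementaryAbelian_iff]
    exact ⟨hA.1, (Helper19.EA_iff p A).mp hA.2.1,
      fun Y hY hYEA => hA.2.2 Y hY ((Helper19.EA_iff p Y).mpr hYEA)⟩
  obtain ⟨A₀, hA₀, rfl⟩ := h1
  apply Subgroup.map_mono
  refine (stableNormalClosure_le_omegaCenterThompson p _).trans ?_
  rw [← (Cfsg.Agent.S0655.result S.isPGroup').1]
  exact sInf_le hA₀

/-- `W(S)`, inside `G`, is elementary abelian. -/
theorem stableNormalClosure_map_EA (S : Sylow p G) :
    Helper19.EA p ((stableNormalClosure p ↥(S : Subgroup G)).map (S : Subgroup G).subtype) := by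
  obtain ⟨A, hA⟩ := Helper19.exists_maxEA p (S : Subgroup G)
  exact hA.2.1.mono (stableNormalClosure_map_le_of_maxEA S hA)

/-- `S` normalizes `W(S)`. -/
theorem conj_mem_stableNormalClosure_map (S : Sylow p G) {s w : G} (hs : s ∈ (S : Subgroup G))
    (hw : w ∈ (stableNormalClosure p ↥(S : Subgroup G)).map (S : Subgroup G).subtype) :
    s * w * s⁻¹ ∈ (stableNormalClosure p ↥(S : Subgroup G)).map (S : Subgroup G).subtype := by
  obtain ⟨w₀, hw₀, rfl⟩ := hw
  have hchar := (Cfsg.Agent.S0622.result (S := ↥(S : Subgroup G)) (p := p) S.isPGroup').1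
  have hn : (stableNormalClosure p ↥(S : Subgroup G)).Normal := Subgroup.normal_of_characteristic _
  exact ⟨⟨s, hs⟩ * w₀ * ⟨s, hs⟩⁻¹, hn.conj_mem w₀ hw₀ ⟨s, hs⟩, rfl⟩

/-- `N_G(J(S))` normalizes `W(S)`: the inclusion of `S` into `N_G(J(S))` is a stable embedding. -/
theorem conj_mem_of_mem_normalizer_thompson (hst : IsActionPStable p G)
    (hc : Subgroup.centralizer (pCore p G : Set G) ≤ pCore p G) (S : Sylow p G) {n w : G}
    (hn : n ∈ Subgroup.normalizer (thompsonSubgroupOf p (S : Subgroup G) : Set G))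
    (hw : w ∈ (stableNormalClosure p ↥(S : Subgroup G)).map (S : Subgroup G).subtype) :
    n * w * n⁻¹ ∈ (stableNormalClosure p ↥(S : Subgroup G)).map (S : Subgroup G).subtype := by
  have hSN : (S : Subgroup G) ≤
      Subgroup.normalizer (thompsonSubgroupOf p (S : Subgroup G) : Set G) := by
    rw [Helper19.thompsonSubgroupOf_eq_JJ]
    exact Subgroup.le_normalizer.trans (Helper19.normalizer_le_normalizer_JJ p _)
  have hQS : pCore p G ≤ (S : Subgroup G) := Helper11.pCore_le_sylow S
  have hQn : (pCore p G).Normal := Helper11.pCore_normal p G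
  have hstab : IsStableEmbedding p (Subgroup.inclusion hSN) := by
    refine ⟨Subgroup.inclusion_injective hSN, inferInstance, ⟨S.subtype hSN, ?_⟩, ?_, ?_, ?_⟩
    · ext x
      rw [Sylow.coe_subtype, Subgroup.mem_subgroupOf, MonoidHom.mem_range]
      constructor
      · intro hx
        exact ⟨⟨x, hx⟩, Subtype.ext rfl⟩
      · rintro ⟨s, rfl⟩
        exact s.2
    · intro x hx
      have hQN : ((pCore p G).subgroupOf
          (Subgroup.normalizer (thompsonSubgroupOf p (S : Subgroup G) : Set G))).Normal :=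
        hQn.subgroupOf _
      have hQp : IsPGroup p ((pCore p G).subgroupOf
          (Subgroup.normalizer (thompsonSubgroupOf p (S : Subgroup G) : Set G))) :=
        (Helper11.pCore_isPGroup p G).comap_of_injective _ (Subgroup.subtype_injective _)
      have hle := Helper11.le_pCore _ hQp
      apply hle
      rw [Subgroup.mem_subgroupOf]
      apply hc
      rw [Subgroup.mem_centralizer_iff]
      intro q hq
      have h1 := (Subgroup.mem_centralizer_iff.mp hx) ⟨q, hSN (hQS hq)⟩
        (hle (Subgroup.mem_subgroupOf.mpr hq))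
      exact congrArg Subtype.val h1
    · have heq : (thompsonSubgroup p ↥(S : Subgroup G)).map (Subgroup.inclusion hSN) =
          (thompsonSubgroupOf p (S : Subgroup G)).subgroupOf
            (Subgroup.normalizer (thompsonSubgroupOf p (S : Subgroup G) : Set G)) := by
        ext x
        rw [Subgroup.mem_subgroupOf]
        constructor
        · rintro ⟨j, hj, rfl⟩
          exact ⟨j, hj, rfl⟩
        · rintro ⟨j, hj, hjx⟩
          exact ⟨j, hj, Subtype.ext hjx⟩
      rw [heq]
      exact Subgroup.normal_in_normalizer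
    · intro V _ hV
      apply hst.2.2 S V
      rintro _ ⟨v, hv, rfl⟩
      obtain ⟨ω, hω, rfl⟩ := hV hv
      exact ⟨ω, hω, rfl⟩
  have hWn := map_stableNormalClosure_normal _ hstab
  obtain ⟨w₀, hw₀, rfl⟩ := hw
  obtain ⟨w₁, hw₁, hw₁eq⟩ := hWn.conj_mem _ ⟨w₀, hw₀, rfl⟩ ⟨n, hn⟩
  refine ⟨w₁, hw₁, ?_⟩
  have := congrArg Subtype.val hw₁eq
  simpa using this

/-- A subgroup all of whose elements of order prime to `p` are trivial has `p`-power order. -/
theorem exists_card_eq_pow_of_forall_coprime (K : Subgroup G)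
    (hK : ∀ g ∈ K, (orderOf g).Coprime p → g = 1) : ∃ m : ℕ, Nat.card K = p ^ m := by
  have hpp : p.Prime := Fact.out
  refine ⟨_, Nat.eq_prime_pow_of_unique_prime_dvd Nat.card_pos.ne' ?_⟩
  intro r hr hdvd
  by_contra hne
  have : Fact r.Prime := ⟨hr⟩
  obtain ⟨g, hg⟩ := exists_prime_orderOf_dvd_card' r hdvd
  have hcop : (orderOf (g : G)).Coprime p := by
    rw [Subgroup.orderOf_coe, hg]
    exact (Nat.coprime_primes hr hpp).mpr hne
  have h1 := hK g g.2 hcop
  have h2 : orderOf (g : G) = 1 := by rw [h1, orderOf_one]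
  rw [Subgroup.orderOf_coe, hg] at h2
  exact hr.one_lt.ne' h2

/-- `W(S) ≤ O_p(G)`, by `p`-stability on `O_p(G) / Φ(O_p(G))`. -/
theorem stableNormalClosure_map_le_pCore (hst : IsActionPStable p G)
    (hc : Subgroup.centralizer (pCore p G : Set G) ≤ pCore p G) (S : Sylow p G) :
    (stableNormalClosure p ↥(S : Subgroup G)).map (S : Subgroup G).subtype ≤ pCore p G := by
  intro a ha
  have hEA := stableNormalClosure_map_EA S
  have hQS : pCore p G ≤ (S : Subgroup G) := Helper11.pCore_le_sylow S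
  have hQn : (pCore p G).Normal := Helper11.pCore_normal p G
  have hQp : IsPGroup p (pCore p G) := Helper11.pCore_isPGroup p G
  have hquad : ⁅⁅pCore p G, Subgroup.zpowers a⁆, Subgroup.zpowers a⁆ = ⊥ := by
    apply quad_of_commute
    intro q hq
    have h1 := conj_mem_stableNormalClosure_map S (hQS hq) ha
    exact hEA.1 _ (Subgroup.mul_mem _ h1 (Subgroup.inv_mem _ ha)) a ha
  obtain ⟨D, hDn, hCD, ⟨k, hk⟩, haD⟩ := hst.2.1 a (by rw [hquad]; exact bot_le)
  obtain ⟨m, hm⟩ := exists_card_eq_pow_of_forall_coprime (p := p) _ (fun g hg hcop => by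
    have hF : ∀ y ∈ pCore p G,
        g * y * g⁻¹ * y⁻¹ ∈ (frattini ↥(pCore p G)).map (pCore p G).subtype := by
      intro y hy
      have h1 := Subgroup.mem_comap.mp hg
      have h2 := (Subgroup.mem_centralizer_iff.mp h1) (QuotientGroup.mk' _ y) ⟨y, hy, rfl⟩
      rw [← QuotientGroup.eq_one_iff]
      simp only [QuotientGroup.mk_mul, QuotientGroup.mk_inv]
      have h3 : (QuotientGroup.mk g : G ⧸ (frattini ↥(pCore p G)).map (pCore p G).subtype) *
          QuotientGroup.mk y = QuotientGroup.mk y * QuotientGroup.mk g := h2.symm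
      rw [h3]; group
    have h4 := centralizes_of_coprime_of_frattini hQp
      (by rw [Subgroup.normalizer_eq_top]; trivial) hcop hF
    have h5 : g ∈ pCore p G := hc (by
      rw [Subgroup.mem_centralizer_iff]; intro y hy; exact (h4 y hy).symm)
    obtain ⟨j, hj⟩ := hQp ⟨g, h5⟩
    have h6 : g ^ (p ^ j) = 1 := by simpa using congrArg Subtype.val hj
    have h7 : orderOf g ∣ p ^ j := orderOf_dvd_of_pow_eq_one h6
    have h8 : orderOf g = 1 := Nat.Coprime.eq_one_of_dvd (Nat.Coprime.pow_right j hcop) h7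
    exact orderOf_eq_one_iff.mp h8 :
      ∀ g ∈ sectionKernel (pCore p G) ((frattini ↥(pCore p G)).map (pCore p G).subtype),
        (orderOf g).Coprime p → g = 1)
  have hDp : IsPGroup p D := by
    apply IsPGroup.of_card (n := m + k)
    rw [Helper10.card_eq_card_mul_relIndex hCD, hm, hk, pow_add]
  exact Helper11.le_pCore D hDp haD

/-- Every conjugate of an element of `W(S)` commutes with `W(S)`. -/
theorem conj_commute_stableNormalClosure_map (hst : IsActionPStable p G)
    (hc : Subgroup.centralizer (pCore p G : Set G) ≤ pCore p G) (S : Sylow p G) (g : G) {w u : G}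
    (hw : w ∈ (stableNormalClosure p ↥(S : Subgroup G)).map (S : Subgroup G).subtype)
    (hu : u ∈ (stableNormalClosure p ↥(S : Subgroup G)).map (S : Subgroup G).subtype) :
    u * (g * w * g⁻¹) = (g * w * g⁻¹) * u := by
  have hWQ := stableNormalClosure_map_le_pCore hst hc S
  have hQS : pCore p G ≤ (S : Subgroup G) := Helper11.pCore_le_sylow S
  have hQn : (pCore p G).Normal := Helper11.pCore_normal p G
  have hEA := stableNormalClosure_map_EA S
  have hxQ : g * w * g⁻¹ ∈ pCore p G := hQn.conj_mem w (hWQ hw) g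
  have hxS : g * w * g⁻¹ ∈ (S : Subgroup G) := hQS hxQ
  obtain ⟨u₀, hu₀, rfl⟩ := hu
  have key := stableNormalClosure_quadratic (p := p) (S := ↥(S : Subgroup G))
    ⟨g * w * g⁻¹, hxS⟩ (fun v₀ hv₀ => by
      have hv : (v₀ : G) ∈ (stableNormalClosure p ↥(S : Subgroup G)).map
          (S : Subgroup G).subtype := ⟨v₀, hv₀, rfl⟩
      have hs : g⁻¹ * (v₀ : G) * g ∈ (S : Subgroup G) := by
        have := hQn.conj_mem _ (hWQ hv) g⁻¹
        rw [inv_inv] at this
        exact hQS this
      have hw₂ := conj_mem_stableNormalClosure_map S hs hw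
      have hcomm : Commute ((g⁻¹ * (v₀ : G) * g) * w * (g⁻¹ * (v₀ : G) * g)⁻¹ * w⁻¹) w :=
        hEA.1 _ (Subgroup.mul_mem _ hw₂ (Subgroup.inv_mem _ hw)) w hw
      have h3 := (Commute.conj_iff g).mpr hcomm
      have e : g * ((g⁻¹ * (v₀ : G) * g) * w * (g⁻¹ * (v₀ : G) * g)⁻¹ * w⁻¹) * g⁻¹ =
          (v₀ : G) * (g * w * g⁻¹) * (v₀ : G)⁻¹ * (g * w * g⁻¹)⁻¹ := by group
      rw [e] at h3
      show _ * _ = _ * _
      exact Subtype.ext h3.eq) u₀ hu₀
  exact congrArg Subtype.val key

/-- **Kurzweil–Stellmacher**: `W(S)` is normal in an action-`p`-stable group `G` with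
`C_G(O_p(G)) ≤ O_p(G)`. -/
theorem stableNormalClosure_map_normal (hst : IsActionPStable p G)
    (hc : Subgroup.centralizer (pCore p G : Set G) ≤ pCore p G) (S : Sylow p G) :
    ((stableNormalClosure p ↥(S : Subgroup G)).map (S : Subgroup G).subtype).Normal := by
  classical
  have hQS : pCore p G ≤ (S : Subgroup G) := Helper11.pCore_le_sylow S
  have hQn : (pCore p G).Normal := Helper11.pCore_normal p G
  have hEA := stableNormalClosure_map_EA S
  have hWQ := stableNormalClosure_map_le_pCore hst hc S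
  -- the normal closure `V` of `W(S)` is elementary abelian
  obtain ⟨V, hVdef⟩ : ∃ V : Subgroup G, V = Subgroup.normalClosure
      ((((stableNormalClosure p ↥(S : Subgroup G)).map (S : Subgroup G).subtype : Subgroup G)) :
        Set G) := ⟨_, rfl⟩
  have hVn : V.Normal := by rw [hVdef]; exact Subgroup.normalClosure_normal
  have hWV : (stableNormalClosure p ↥(S : Subgroup G)).map (S : Subgroup G).subtype ≤ V := by
    rw [hVdef]; exact Subgroup.le_normalClosure
  have hVQ : V ≤ pCore p G := by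
    rw [hVdef]; exact Subgroup.normalClosure_le_normal hWQ
  have hVS : V ≤ (S : Subgroup G) := hVQ.trans hQS
  have hVEA' : IsElementaryAbelian p V := by
    rw [hVdef, Subgroup.normalClosure]
    apply Helper11.isElementaryAbelian_closure
    · intro x hx y hy
      rw [Group.mem_conjugatesOfSet_iff] at hx hy
      obtain ⟨a, ha, hax⟩ := hx
      obtain ⟨b, hb, hby⟩ := hy
      obtain ⟨g, rfl⟩ := isConj_iff.mp hax
      obtain ⟨h, rfl⟩ := isConj_iff.mp hby
      have h1 := conj_commute_stableNormalClosure_map hst hc S (h⁻¹ * g) ha hb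
      calc g * a * g⁻¹ * (h * b * h⁻¹)
          = h * ((h⁻¹ * g) * a * (h⁻¹ * g)⁻¹ * b) * h⁻¹ := by group
        _ = h * (b * ((h⁻¹ * g) * a * (h⁻¹ * g)⁻¹)) * h⁻¹ := by rw [h1]
        _ = h * b * h⁻¹ * (g * a * g⁻¹) := by group
    · intro x hx
      rw [Group.mem_conjugatesOfSet_iff] at hx
      obtain ⟨a, ha, hax⟩ := hx
      obtain ⟨g, rfl⟩ := isConj_iff.mp hax
      rw [conj_pow, hEA.2 a ha]; group
  have hVEA : Helper19.EA p V := (Helper19.EA_iff p V).mpr hVEA'
  have hstV : IsPStableOn p V := hst.1 V hVEA'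
  -- the preimage `L` of `O_p(G / C_G(V))`
  have hCn : (Subgroup.centralizer (V : Set G)).Normal := inferInstance
  obtain ⟨L, hLdef⟩ : ∃ L : Subgroup G, L = (pCore p (G ⧸ Subgroup.centralizer (V : Set G))).comap
      (QuotientGroup.mk' (Subgroup.centralizer (V : Set G))) := ⟨_, rfl⟩
  have hLn : L.Normal := by
    rw [hLdef]
    exact (Helper11.pCore_normal p _).comap _
  have hmemL : ∀ x : G, x ∈ L ↔ (QuotientGroup.mk x : G ⧸ Subgroup.centralizer (V : Set G)) ∈
      pCore p (G ⧸ Subgroup.centralizer (V : Set G)) := by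
    intro x; rw [hLdef]; exact Subgroup.mem_comap
  have hCL : Subgroup.centralizer (V : Set G) ≤ L := by
    intro c hc'
    rw [hmemL, (QuotientGroup.eq_one_iff c).mpr hc']
    exact Subgroup.one_mem _
  have hfact : ∀ g : G, ∃ c ∈ Subgroup.centralizer (V : Set G),
      ∃ m ∈ Subgroup.normalizer ((((S : Subgroup G) ⊓ L : Subgroup G)) : Set G), g = c * m := by
    intro g
    obtain ⟨l, hl, m, hm, rfl⟩ := Helper11.frattini_inf S L g
    obtain ⟨r, hr, c, hcC, rfl⟩ := exists_mul_of_mk_mem_pCore S _ ((hmemL l).mp hl)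
    have hrL : r ∈ L := by
      have : r = r * c * c⁻¹ := by group
      rw [this]
      exact L.mul_mem hl (L.inv_mem (hCL hcC))
    exact ⟨r * c * r⁻¹, hCn.conj_mem c hcC r, r * m,
      Subgroup.mul_mem _ (Subgroup.le_normalizer (Subgroup.mem_inf.mpr ⟨hr, hrL⟩)) hm, by group⟩
  -- every largest elementary abelian subgroup of `S` lies in `L`
  have hall : ∀ A, Helper19.MaxEA p (S : Subgroup G) A → A ≤ L := by
    by_contra hcon
    rw [not_forall] at hcon
    obtain ⟨A₁, hA₁⟩ := hcon
    rw [Classical.not_imp] at hA₁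
    obtain ⟨A, ⟨hA, hAL⟩, hmax⟩ := Set.exists_max_image
      {A : Subgroup G | Helper19.MaxEA p (S : Subgroup G) A ∧ ¬ A ≤ L}
      (fun A => Nat.card ↥(A ⊓ V)) (Set.toFinite _) ⟨A₁, hA₁⟩
    have hVA : ¬ V ≤ Subgroup.normalizer (A : Set G) := by
      intro hVN
      apply hAL
      intro a ha
      rw [hmemL]
      apply hstV a
      apply quad_of_commute
      intro v hv
      have h1 : v * a * v⁻¹ ∈ A := (Subgroup.mem_normalizer_iff.mp (hVN hv) a).mp ha
      exact hA.2.1.1 _ (A.mul_mem h1 (A.inv_mem ha)) a ha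
    obtain ⟨A', hA', hlt, hA'N⟩ :=
      Helper19.replacement_step (S : Subgroup G) A V S.isPGroup' hA hVEA hVS hVA
    have hA'L : A' ≤ L := by
      by_contra h
      have := hmax A' ⟨hA', h⟩
      omega
    have hA'S₁ : A' ≤ (S : Subgroup G) ⊓ L := le_inf hA'.1 hA'L
    -- largest elementary abelian subgroups of `S ⊓ L`
    have hres : ∀ B, Helper19.MaxEA p ((S : Subgroup G) ⊓ L) B →
        Helper19.MaxEA p (S : Subgroup G) B := by
      intro B hB
      refine ⟨hB.1.trans inf_le_left, hB.2.1, fun Y hY hYEA => ?_⟩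
      exact (hA'.2.2 Y hY hYEA).trans (hB.2.2 A' hA'S₁ hA'.2.1)
    have hA'max : Helper19.MaxEA p ((S : Subgroup G) ⊓ L) A' :=
      ⟨hA'S₁, hA'.2.1, fun Y hY hYEA => hA'.2.2 Y (hY.trans inf_le_left) hYEA⟩
    -- `Y = X₁ ⊓ V` is normal in `G`
    have hYn : (sInf {B | Helper19.MaxEA p ((S : Subgroup G) ⊓ L) B} ⊓ V).Normal := by
      constructor
      intro z hz g
      obtain ⟨c, hcC, m, hm, rfl⟩ := hfact g
      have h1 : m * z * m⁻¹ ∈ sInf {B | Helper19.MaxEA p ((S : Subgroup G) ⊓ L) B} ⊓ V := by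
        refine Subgroup.mem_inf.mpr ⟨?_, hVn.conj_mem z hz.2 m⟩
        rw [Subgroup.mem_sInf]
        intro B hB
        have hm' : m⁻¹ ∈ Subgroup.normalizer ((((S : Subgroup G) ⊓ L : Subgroup G)) : Set G) :=
          Subgroup.inv_mem _ hm
        have hmap : ((S : Subgroup G) ⊓ L).map (MulAut.conj m⁻¹).toMonoidHom =
            (S : Subgroup G) ⊓ L := Subgroup.mem_normalizer_iff_map_conj_eq.mp hm'
        have hB' : Helper19.MaxEA p ((S : Subgroup G) ⊓ L)
            (B.map (MulAut.conj m⁻¹).toMonoidHom) := by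
          have := (Helper19.maxEA_map_iff (p := p) (X := (S : Subgroup G) ⊓ L)
            (MulAut.conj m⁻¹).toMonoidHom ((MulAut.conj m⁻¹).injective.injOn)
            (B.map (MulAut.conj m⁻¹).toMonoidHom)).mpr ⟨B, hB, rfl⟩
          rwa [hmap] at this
        have hz1 := (Subgroup.mem_sInf.mp hz.1) _ hB'
        obtain ⟨b, hb, hbz⟩ := hz1
        have hbz' : m⁻¹ * b * m⁻¹⁻¹ = z := hbz
        have : m * z * m⁻¹ = b := by rw [← hbz']; group
        rw [this]; exact hb
      have h2 : m * z * m⁻¹ * c = c * (m * z * m⁻¹) :=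
        (Subgroup.mem_centralizer_iff.mp hcC) _ (Subgroup.mem_inf.mp h1).2
      have e : c * m * z * (c * m)⁻¹ = c * (m * z * m⁻¹) * c⁻¹ := by group
      rw [e, ← h2]
      have e2 : m * z * m⁻¹ * c * c⁻¹ = m * z * m⁻¹ := by group
      rw [e2]
      exact h1
    have hWY : (stableNormalClosure p ↥(S : Subgroup G)).map (S : Subgroup G).subtype ≤
        sInf {B | Helper19.MaxEA p ((S : Subgroup G) ⊓ L) B} ⊓ V := by
      refine le_inf (le_sInf fun B hB => ?_) hWV
      exact stableNormalClosure_map_le_of_maxEA S (hres B hB)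
    have hVY : V ≤ sInf {B | Helper19.MaxEA p ((S : Subgroup G) ⊓ L) B} ⊓ V := by
      rw [hVdef]
      rw [hVdef] at hWY hYn
      exact Subgroup.normalClosure_le_normal hWY
    have hX₁A' : sInf {B | Helper19.MaxEA p ((S : Subgroup G) ⊓ L) B} ≤ A' :=
      sInf_le (show A' ∈ {B | Helper19.MaxEA p ((S : Subgroup G) ⊓ L) B} from hA'max)
    exact hVA ((hVY.trans inf_le_left).trans (hX₁A'.trans hA'N))
  -- `N_G(S ⊓ L) ≤ N_G(J(S))`
  have hJ : Helper19.JJ p (S : Subgroup G) = Helper19.JJ p ((S : Subgroup G) ⊓ L) :=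
    Helper19.JJ_eq_of_forall_le inf_le_left (fun A hA => le_inf hA.1 (hall A hA))
  have hNJ : Subgroup.normalizer ((((S : Subgroup G) ⊓ L : Subgroup G)) : Set G) ≤
      Subgroup.normalizer (thompsonSubgroupOf p (S : Subgroup G) : Set G) := by
    rw [Helper19.thompsonSubgroupOf_eq_JJ, hJ]
    exact Helper19.normalizer_le_normalizer_JJ p _
  -- conclusion
  constructor
  intro w hw g
  obtain ⟨c, hcC, m, hm, rfl⟩ := hfact g
  have h1 := conj_mem_of_mem_normalizer_thompson hst hc S (hNJ hm) hw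
  have h2 : m * w * m⁻¹ * c = c * (m * w * m⁻¹) :=
    (Subgroup.mem_centralizer_iff.mp hcC) _ (hWV h1)
  have e : c * m * w * (c * m)⁻¹ = c * (m * w * m⁻¹) * c⁻¹ := by group
  rw [e, ← h2]
  have e2 : m * w * m⁻¹ * c * c⁻¹ = m * w * m⁻¹ := by group
  rw [e2]
  exact h1

end

end Cfsg.Agent.Helper35
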