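import Mathlib
import Cfsg.Agent.Helper13.TLDefs
import Cfsg.Agent.Helper57.TLUZNORM
import Cfsg.Agent.Helper57.TLUSCAL
import Cfsg.Agent.Helper26.TLUSMUL
import Cfsg.Agent.Helper41.TLUFIX
import Cfsg.Agent.Helper51.TLUCDVD
import Cfsg.Agent.Helper53.TLUDARITH
import Cfsg.Agent.Helper73.TLUGROW
import Cfsg.Agent.Helper51.TLUEXND
import Cfsg.Agent.Helper26.TLUSUM
import Cfsg.Agent.Helper53.TLUARC

set_option autoImplicit false

/-!
# S5954 piece CASEDF (helper35, double): case (D), the forward direction, with the atom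
statement UATOMD as an explicit hypothesis (`u_case_d_fwd_core`).
-/

namespace Cfsg.Agent.Helper35.TI5954

open Module Polynomial
open Cfsg.Agent.Helper13.TIu Cfsg.Agent.Helper13.TIsp

section cases

variable {F : Type*} [Field F] [Fintype F] {σ : F →+* F}

/-- CASEDF (uses UZNORM, USCAL, USMUL, UFIX, UCDVD, UDARITH, UGROW + UATOMD, UEXND, USUM; mirror
`d_back` in Helper13/TKMain.lean): `T' = z₀⁻¹ • T` with `T' ^ r = 1`; `V = Fix ⊕ P`, `dim P = c * ρ`;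
`W = X₁ ⊔ N₁` with `N₁ ≤ P` of dimension `c * h₁` and `X₁ ≤ Fix` of dimension `e₁`. -/
theorem u_case_d_fwd_core (p : ℕ) [Fact p.Prime] [CharP F p] (q : ℕ) (hq : Fintype.card F = q ^ 2)
    (hσ : ∀ a, σ a = a ^ q) (hσ2 : ∀ a, σ (σ a) = a) (hσne : σ ≠ RingHom.id F) (r : ℕ)
    [Fact r.Prime] (hr2 : 2 < r) (hrp : r ≠ p) (hrq : ¬ r ∣ q + 1) (i c : ℕ)
    (hi : i = orderOf (q : ZMod r))
    (hc : c = if i % 4 = 0 then i else if i % 4 = 2 then i / 2 else 2 * i) (n m : ℕ)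
    (hn : 1 ≤ n) (hmn : m ≤ n) (hC : c ≤ m ∧ m % c ≤ n % c)
    (hAtom : ∀ (T : Module.End F (Fin n → F)), UPres (stdH σ n) T → T ^ r = 1 →
      ∀ N : Submodule F (Fin n → F), N.map T ≤ N → UNd (stdH σ n) N → N ≠ ⊥ →
        N ⊓ LinearMap.ker (T - 1) = ⊥ →
        ∃ E : Submodule F (Fin n → F), E ≤ N ∧ E.map T ≤ E ∧ UNd (stdH σ n) E ∧
          finrank F E = c) : UAll σ n m r := by
  classical
  intro T hT _ hzT _
  obtain ⟨z, hz⟩ := hzT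
  have hrpr : r.Prime := Fact.out
  have hr0 : 0 < r := hrpr.pos
  obtain ⟨hrF, hrcard⟩ := ti_char_facts (F := F) p r hrp
  have hrq' : ¬ r ∣ q := by
    intro h
    apply hrcard
    rw [hq]
    exact dvd_pow h two_ne_zero
  obtain ⟨-, hcpos, -⟩ := Cfsg.Agent.Helper53.TI5954.u_arith_c q r hr2 hrq' i c hi hc
  have hS : (stdH σ n).IsSymm := stdH_symm σ hσ2 n
  -- reduce to `T' ^ r = 1`
  have hznorm : σ z * z = 1 := Cfsg.Agent.Helper57.TI5954.u_z_norm n hn T hT r z hz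
  have hzq : z ^ (q + 1) = 1 := by
    rw [pow_succ, ← hσ]
    exact hznorm
  obtain ⟨z₀, hz₀q, hz₀r⟩ := Cfsg.Agent.Helper57.TI5954.u_scal_root z (q + 1) r
    ((Nat.Prime.coprime_iff_not_dvd hrpr).mpr hrq) hzq
  have hz₀0 : z₀ ≠ 0 := by
    rintro rfl
    rw [zero_pow (by omega)] at hz₀q
    exact zero_ne_one hz₀q
  have hz0 : z ≠ 0 := by
    rintro rfl
    rw [zero_pow (by omega)] at hzq
    exact zero_ne_one hzq
  have hz₀norm : σ z₀⁻¹ * z₀⁻¹ = 1 := by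
    rw [map_inv₀, ← mul_inv, hσ, ← pow_succ, hz₀q, inv_one]
  obtain ⟨T', hT'def⟩ : ∃ T' : Module.End F (Fin n → F), T' = z₀⁻¹ • T := ⟨_, rfl⟩
  have hT' : UPres (stdH σ n) T' := by
    rw [hT'def]
    exact Cfsg.Agent.Helper26.TI5954.u_smul_pres (stdH σ n) T hT z₀⁻¹ hz₀norm
  have hT'r : T' ^ r = 1 := by
    rw [hT'def, _root_.smul_pow, hz, inv_pow, hz₀r, smul_smul, inv_mul_cancel₀ hz0, one_smul]
  have hTT' : T = z₀ • T' := by
    rw [hT'def, smul_smul, mul_inv_cancel₀ hz₀0, one_smul]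
  have hinv : ∀ W : Submodule F (Fin n → F), W.map T' ≤ W → W.map T ≤ W := by
    intro W hW
    rintro _ ⟨w, hw, rfl⟩
    rw [hTT', LinearMap.smul_apply]
    exact W.smul_mem _ (hW (Submodule.mem_map_of_mem hw))
  -- fixed part and its perp
  obtain ⟨hFixnd, P, -, hPT, hPnd, hPk, hsup, hFP, hPF, hfin⟩ :=
    Cfsg.Agent.Helper41.TI5954.u_fix (stdH σ n) hσ2 hS T' hT' r hr0 hrF hT'r ⊤ le_top (stdH_nd_top σ n)
  rw [finrank_top, Module.finrank_fin_fun] at hfin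
  have hcd := Cfsg.Agent.Helper51.TI5954.u_cdvd (stdH σ n) q hq hσ hσ2 hσne hS T' hT' r hr2 hrq' hrF hT'r i c hi hc P hPT hPnd
  rw [hPk, finrank_bot, Nat.sub_zero] at hcd
  obtain ⟨ρ, hρ⟩ := hcd
  obtain ⟨h₁, e₁, hh₁, he₁, hsum⟩ := Cfsg.Agent.Helper53.TI5954.ud_arith c m n ρ hcpos hmn (by omega) hC.2
  -- the part in `P`
  obtain ⟨N₁, hN₁P, hN₁T, hN₁nd, hN₁fin⟩ := Cfsg.Agent.Helper73.TI5954.u_grow (stdH σ n) hσ2 hS T' hT' r hr0 hT'r c hcpos P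
    (fun N hNle hNT hNnd hN0 => hAtom T' hT' hT'r N hNT hNnd hN0 (by
        rw [eq_bot_iff]
        intro v hv
        have h1 : v ∈ P ⊓ LinearMap.ker (T' - 1) := ⟨hNle hv.1, hv.2⟩
        rw [hPk] at h1
        exact h1))
    P le_rfl hPT hPnd h₁ (by rw [hρ]; exact Nat.mul_le_mul_left c hh₁)
  -- the part in the fixed space
  obtain ⟨X₁, hX₁le, hX₁nd, hX₁fin⟩ := Cfsg.Agent.Helper51.TI5954.u_exists_nd (stdH σ n) hσ2 hσne hS
    (⊤ ⊓ LinearMap.ker (T' - 1)) hFixnd e₁ (by omega)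
  have hX₁T : X₁.map T' ≤ X₁ := by
    rintro _ ⟨v, hv, rfl⟩
    have h1 : v ∈ LinearMap.ker (T' - 1) := (hX₁le hv).2
    rw [LinearMap.mem_ker, LinearMap.sub_apply, Module.End.one_apply, sub_eq_zero] at h1
    rw [h1]
    exact hv
  obtain ⟨hnd, -, hdim⟩ := Cfsg.Agent.Helper26.TI5954.u_sum (stdH σ n) X₁ N₁ hX₁nd hN₁nd
    (fun u hu v hv => hFP u (hX₁le hu) v (hN₁P hv))
    (fun u hu v hv => hPF u (hN₁P hu) v (hX₁le hv))
  refine ⟨X₁ ⊔ N₁, by rw [hdim, hX₁fin, hN₁fin]; omega, hnd, hinv _ ?_⟩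
  rw [Submodule.map_sup]
  exact sup_le_sup hX₁T hN₁T

end cases

end Cfsg.Agent.Helper35.TI5954
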