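import Mathlib
import Cfsg.Prelude.Def_ParabolicCharacters

/-!
CALL S2314 (helper40), piece T1C (`sum_fpc_transitive`), helper35: Burnside for a transitive
action of `U` on `B / St`.  Pure Mathlib (plus the Prelude definition of `fixedPointCharacter`).
-/

set_option autoImplicit false

namespace Cfsg.Agent.Helper35.UCT1C

open Classical in
/-- T1C (pure Mathlib): Burnside for a transitive action of `U` on `B / St`. -/
theorem sum_fpc_transitive {B : Type*} [Group B] [Fintype B] (U St : Subgroup B)
    (h : ∀ b : B, ∃ u ∈ U, ∃ s ∈ St, b = u * s) :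
    (∑ b : B, if b ∈ U then Cfsg.fixedPointCharacter St b else 0) = (Nat.card U : ℂ) := by
  classical
  haveI : ∀ a : ↥U, Fintype (MulAction.fixedBy (B ⧸ St) a) := fun a => Fintype.ofFinite _
  haveI : Fintype (Quotient (MulAction.orbitRel ↥U (B ⧸ St))) := Fintype.ofFinite _
  have hburn := MulAction.sum_card_fixedBy_eq_card_orbits_mul_card_group ↥U (B ⧸ St)
  -- one orbit
  have horb : Fintype.card (Quotient (MulAction.orbitRel ↥U (B ⧸ St))) = 1 := by
    rw [Fintype.card_eq_one_iff]
    refine ⟨Quotient.mk _ ((1 : B) : B ⧸ St), ?_⟩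
    intro x
    induction x using Quotient.inductionOn with
    | h y =>
      induction y using QuotientGroup.induction_on with
      | H b =>
        apply Quotient.sound
        obtain ⟨u, hu, s, hs, rfl⟩ := h b
        show ((u * s : B) : B ⧸ St) ∈ MulAction.orbit ↥U (((1 : B) : B ⧸ St))
        refine ⟨⟨u, hu⟩, ?_⟩
        show ((u * 1 : B) : B ⧸ St) = ((u * s : B) : B ⧸ St)
        rw [QuotientGroup.eq]
        simpa using hs
  rw [horb, one_mul] at hburn
  -- rewrite the left-hand side
  have h1 : (∑ b : B, if b ∈ U then Cfsg.fixedPointCharacter St b else 0) =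
      ∑ u : ↥U, Cfsg.fixedPointCharacter St (u : B) := by
    rw [← Finset.sum_filter]
    exact Finset.sum_subtype (Finset.univ.filter (fun b : B => b ∈ U)) (by simp)
      (fun b => Cfsg.fixedPointCharacter St b)
  have h2 : ∀ u : ↥U, Cfsg.fixedPointCharacter St (u : B) =
      ((Fintype.card (MulAction.fixedBy (B ⧸ St) u) : ℕ) : ℂ) := by
    intro u
    unfold Cfsg.fixedPointCharacter
    have h3 : Nat.card (MulAction.fixedBy (B ⧸ St) (u : B)) =
        Nat.card (MulAction.fixedBy (B ⧸ St) u) := rfl
    rw [h3, Nat.card_eq_fintype_card]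
  rw [h1, Finset.sum_congr rfl (fun u _ => h2 u), ← Nat.cast_sum, hburn, Nat.card_eq_fintype_card]

end Cfsg.Agent.Helper35.UCT1C
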